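import Cfsg.Agent.CharB.CliffordProj
import Cfsg.Agent.CharDeep.Ext.Inertia
import Cfsg.Agent.CharDeep.Ext.Clifford
import Cfsg.Agent.CharDeep.Ext.GoingDown

/-!
Character forms: `χ(1)/ϑ(1) ∣ [G : N]`, and extension criteria for invariant characters.
-/

set_option autoImplicit false

open Module

namespace Cfsg.Agent.CharB

universe u

variable {G : Type u} [Group G] [Fintype G] (N : Subgroup G) [hN : N.Normal] [Fintype N]

/-- The multiplicity of an invariant constituent divides the index. -/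
theorem invariant_multiplicity_dvd {χ : G → ℂ} (hχ : Cfsg.IsIrrCharacter G χ) {ϑ : N → ℂ}
    (hϑ : Cfsg.IsIrrCharacter N ϑ)
    (hinv : ∀ (g : G) (n : N), ϑ ⟨g * n * g⁻¹, hN.conj_mem (n : G) n.2 g⟩ = ϑ n)
    (hcon : Cfsg.classInner (fun n : N => χ n) ϑ ≠ 0) :
    ∃ e : ℕ, Cfsg.classInner (fun n : N => χ n) ϑ = (e : ℂ) ∧ e ∣ N.index ∧
      (fun n : N => χ n) = (e : ℂ) • ϑ := by
  have hres := Cfsg.Agent.CharDeep.Ext.restrict_eq_smul N hinv hϑ hχ hcon
  obtain ⟨c, ρ, hρ, rfl⟩ := hχ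
  obtain ⟨d, σ, hσ, rfl⟩ := hϑ
  have hdim : Cfsg.classInner (fun n : N => ρ.character n) σ.character
      = (finrank ℂ (Representation.IntertwiningMap σ (ρ.comp N.subtype)) : ℂ) :=
    Cfsg.Agent.CharCore.classInner_eq_finrank_intertwiningMap σ
      (ρ.comp N.subtype : Representation ℂ N _)
  obtain ⟨I⟩ := exists_intertwiners σ hinv
  refine ⟨_, hdim, ?_, by rw [← hdim]; exact hres⟩
  have := hρ
  have := hσ
  refine I.finrank_dvd_index ρ ?_
  have h1 := congrFun hres (1 : N)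
  rw [hdim] at h1
  simp only [Pi.smul_apply, smul_eq_mul, OneMemClass.coe_one, Representation.char_one] at h1
  exact_mod_cast h1.symm

omit [Fintype N] in
/-- The Clifford degree theorem. -/
theorem degree_dvd [Fintype N] {χ : G → ℂ} (hχ : Cfsg.IsIrrCharacter G χ) {ϑ : N → ℂ}
    (hϑ : Cfsg.IsIrrCharacter N ϑ) (hcon : Cfsg.classInner (fun n : N => χ n) ϑ ≠ 0) {c d : ℕ}
    (hc : χ 1 = c) (hd : ϑ 1 = d) : d ∣ c ∧ c / d ∣ N.index := by
  classical
  set T := Cfsg.Agent.CharDeep.Ext.inertia N ϑ with hT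
  have hNT : N ≤ T := Cfsg.Agent.CharDeep.Ext.le_inertia N
    (Cfsg.Agent.CharCore.IsCharacter.isClassFunction
      (Cfsg.Agent.CharCore.IsIrrCharacter.isCharacter hϑ))
  have := Fintype.ofFinite T
  obtain ⟨ψ, hψ, hind, hinner⟩ := Cfsg.Agent.CharDeep.Ext.exists_inertia_induced N hϑ T
    (fun g => funext_iff) hNT hχ hcon
  set e := Subgroup.subgroupOfEquivOfLe hNT
  have := Fintype.ofFinite (N.subgroupOf T)
  have hϑ' : Cfsg.IsIrrCharacter (N.subgroupOf T) (fun x => ϑ (e x)) :=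
    Cfsg.Agent.CharCore.isIrrCharacter_comp_surjective hϑ e.toMonoidHom e.surjective
  have hinv' : ∀ (g : T) (n : N.subgroupOf T),
      ϑ (e ⟨g * n * g⁻¹, Subgroup.Normal.conj_mem inferInstance (n : T) n.2 g⟩) = ϑ (e n) := by
    intro g n
    exact congrFun (show Cfsg.Agent.CharDeep.Ext.conjFn N ϑ (g : G) = ϑ from g.2) (e n)
  have hcon' : Cfsg.classInner (fun n : N.subgroupOf T => ψ n) (fun x => ϑ (e x))
      = Cfsg.classInner (fun n : N => χ n) ϑ := by
    rw [← hinner, Cfsg.classInner, Cfsg.classInner, Nat.card_congr e.toEquiv]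
    congr 1
    exact Fintype.sum_equiv e.toEquiv _ _ fun x => rfl
  obtain ⟨k, hk, hkdvd, hres⟩ := invariant_multiplicity_dvd (N.subgroupOf T) hψ hϑ' hinv'
    (by rw [hcon']; exact hcon)
  have hψ1 : ψ 1 = (k : ℂ) * d := by
    have h1 := congrFun hres (1 : N.subgroupOf T)
    simp only [Pi.smul_apply, smul_eq_mul, OneMemClass.coe_one, map_one, hd] at h1
    exact h1
  have hc' : c = T.index * (k * d) := by
    have h1 := congrFun hind 1
    rw [Cfsg.Agent.CharInd.indFun_apply_one, hψ1, hc] at h1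
    exact_mod_cast h1.symm
  have hd0 : 0 < d := by
    obtain ⟨n, hn, hn'⟩ := Cfsg.Agent.CharCore.IsIrrCharacter.exists_degree hϑ
    rw [hd] at hn'
    exact (Nat.cast_inj (R := ℂ)).1 hn' ▸ hn
  refine ⟨⟨T.index * k, by rw [hc']; ring⟩, ?_⟩
  rw [hc', ← mul_assoc, Nat.mul_div_cancel _ hd0, ← Subgroup.relIndex_mul_index hNT, mul_comm]
  exact Nat.mul_dvd_mul_right hkdvd T.index

variable (G) in
/-- `ϑ` extends when the multiplicities in restricted characters have no common prime divisor. -/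
theorem exists_extension_of_multiplicities {ϑ : N → ℂ} (hϑ : Cfsg.IsIrrCharacter N ϑ)
    (hinv : ∀ (g : G) (n : N), ϑ ⟨g * n * g⁻¹, hN.conj_mem (n : G) n.2 g⟩ = ϑ n)
    (hp : ∀ p : ℕ, p.Prime → ∃ (φ : G → ℂ) (m : ℕ), Cfsg.IsCharacter G φ ∧
      Cfsg.classInner (fun n : N => φ n) ϑ = (m : ℂ) ∧ ¬ p ∣ m) :
    ∃ χ : G → ℂ, Cfsg.IsIrrCharacter G χ ∧ ∀ n : N, χ n = ϑ n := by
  obtain ⟨d, σ, hσ, rfl⟩ := hϑ
  have := hσ
  obtain ⟨I⟩ := exists_intertwiners σ hinv
  have hmem : ∀ p : ℕ, p.Prime → ∃ m : ℕ, (m : ℤ) ∈ I.exponents ∧ ¬ p ∣ m := by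
    intro p hpp
    obtain ⟨φ, m, ⟨k, ρ, rfl⟩, hm, hpm⟩ := hp p hpp
    have hdim : Cfsg.classInner (fun n : N => ρ.character n) σ.character
        = (finrank ℂ (Representation.IntertwiningMap σ (ρ.comp N.subtype)) : ℂ) :=
      Cfsg.Agent.CharCore.classInner_eq_finrank_intertwiningMap σ
        (ρ.comp N.subtype : Representation ℂ N _)
    rw [hdim, Nat.cast_inj] at hm
    exact ⟨m, hm ▸ I.finrank_mem_exponents ρ, hpm⟩
  have h1 : (1 : ℤ) ∈ I.exponents := by
    obtain ⟨a, ha⟩ := Int.subgroup_cyclic I.exponents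
    rw [← AddSubgroup.zmultiples_eq_closure] at ha
    by_cases h : a.natAbs = 1
    · rw [ha, Int.mem_zmultiples_iff, ← Int.natAbs_dvd, h]
      rfl
    · obtain ⟨p, hpp, hpa⟩ := Nat.exists_prime_and_dvd h
      obtain ⟨m, hm, hpm⟩ := hmem p hpp
      rw [ha, Int.mem_zmultiples_iff] at hm
      exact absurd (Int.natCast_dvd_natCast.1 ((Int.natCast_dvd.2 hpa).trans hm)) hpm
  obtain ⟨τ, hτ⟩ := I.exists_extension h1
  have : τ.IsIrreducible :=
    { exists_pair_ne := ⟨⊥, ⊤, fun h => by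
        have hW : Nontrivial (Fin d → ℂ) := Module.nontrivial_of_finrank_pos
          (R := ℂ) (Cfsg.Agent.CharClifford.finrank_pos_of_irreducible σ)
        exact (bot_ne_top : (⊥ : Submodule ℂ (Fin d → ℂ)) ≠ ⊤)
          (congrArg Subrepresentation.toSubmodule h :)⟩
      eq_bot_or_eq_top := fun R => by
        let R' : Subrepresentation σ := ⟨R.toSubmodule, fun n v hv => by
          rw [← hτ]; exact R.apply_mem_toSubmodule (n : G) hv⟩
        rcases hσ.eq_bot_or_eq_top R' with h | h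
        · exact Or.inl (Subrepresentation.toSubmodule_injective
            (congrArg Subrepresentation.toSubmodule h :))
        · exact Or.inr (Subrepresentation.toSubmodule_injective
            (congrArg Subrepresentation.toSubmodule h :)) }
  refine ⟨τ.character, ⟨d, τ, this, rfl⟩, fun n => ?_⟩
  show LinearMap.trace ℂ _ (τ n) = LinearMap.trace ℂ _ (σ n)
  rw [hτ]

/-- An invariant character extends if it extends to a Sylow preimage for each prime. -/
theorem exists_extension_of_sylow {ϑ : N → ℂ} (hϑ : Cfsg.IsIrrCharacter N ϑ)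
    (hinv : ∀ (g : G) (n : N), ϑ ⟨g * n * g⁻¹, hN.conj_mem (n : G) n.2 g⟩ = ϑ n)
    (hsyl : ∀ p : ℕ, p.Prime → ∃ (P : Subgroup G) (hNP : N ≤ P) (η : P → ℂ),
      Nat.Coprime P.index p ∧ Cfsg.IsCharacter P η ∧ ∀ n : N, η ⟨(n : G), hNP n.2⟩ = ϑ n) :
    ∃ χ : G → ℂ, Cfsg.IsIrrCharacter G χ ∧ ∀ n : N, χ n = ϑ n := by
  classical
  refine exists_extension_of_multiplicities G N hϑ hinv fun p hp => ?_
  obtain ⟨P, hNP, η, hcop, hη, hext⟩ := hsyl p hp
  refine ⟨Cfsg.indFun P η, P.index, Cfsg.Agent.CharInd.isCharacter_indFun P hη, ?_,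
    fun h => hp.ne_one (Nat.eq_one_of_dvd_coprimes hcop h dvd_rfl)⟩
  have hres : (fun n : N => Cfsg.indFun P η n) = (P.index : ℂ) • ϑ := by
    funext n
    rw [Cfsg.Agent.CharInd.indFun_apply, Finset.sum_congr rfl fun x _ => show
      Cfsg.extendByZero P η (x⁻¹ * (n : G) * x) = ϑ n from ?_, Finset.sum_const, Finset.card_univ,
      nsmul_eq_mul, ← mul_assoc, Pi.smul_apply, smul_eq_mul]
    · congr 1
      rw [← Nat.card_eq_fintype_card, ← P.card_mul_index, Nat.cast_mul,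
        inv_mul_cancel_left₀ (Nat.cast_ne_zero.2 Nat.card_pos.ne')]
    · have hm : x⁻¹ * (n : G) * x ∈ N := by simpa using hN.conj_mem (n : G) n.2 x⁻¹
      rw [Cfsg.Agent.CharInd.extendByZero_mem _ (hNP hm)]
      refine (hext ⟨_, hm⟩).trans ?_
      have h1 := hinv x ⟨_, hm⟩
      rw [← h1]
      exact congrArg ϑ (Subtype.ext (by simp [mul_assoc]))
  rw [hres, Cfsg.Agent.CharCore.classInner_smul_left,
    (Cfsg.Agent.CharCore.isIrrCharacter_iff.mp hϑ).2, mul_one]

end Cfsg.Agent.CharB
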