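import Cfsg.Agent.CharB.Local
import Cfsg.Agent.Lib.CharCore.ConjAut

/-!
Detection of an invariant character on a `p`-elementary supplement.
-/

set_option autoImplicit false

open Cfsg
open scoped ComplexConjugate

namespace Cfsg.Agent.CharB

universe u

/-- A sum of an invariant function modulo `p` only sees the fixed points. -/
theorem sum_eq_zero_of_fixed {p : ℕ} (hp : p.Prime) {Γ α : Type*} [Group Γ] [MulAction Γ α]
    [Fintype α] (K : Subgroup Γ) {k : ℕ} (hidx : K.index = p ^ k)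
    (hK : ∀ a ∈ K, ∀ x : α, a • x = x) (f : α → ZMod p)
    (hinv : ∀ (g : Γ) (x : α), f (g • x) = f x)
    (hfix : ∀ x : α, (∀ g : Γ, g • x = x) → f x = 0) : ∑ x, f x = 0 := by
  classical
  refine Finset.sum_cancels_of_partition_cancels (MulAction.orbitRel Γ α) fun x _ => ?_
  have h1 : ∀ a ∈ Finset.univ.filter (fun a => (MulAction.orbitRel Γ α) a x), f a = f x := by
    intro a ha
    obtain ⟨g, rfl⟩ := (Finset.mem_filter.1 ha).2
    exact hinv g x
  rw [Finset.sum_congr rfl h1, Finset.sum_const, nsmul_eq_mul]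
  have h2 : (Finset.univ.filter (fun a => (MulAction.orbitRel Γ α) a x)).card
      = (MulAction.stabilizer Γ x).index := by
    rw [MulAction.index_stabilizer, ← Set.ncard_coe_finset]
    congr 1
    ext a
    simp [MulAction.orbitRel_apply]
  have hle : K ≤ MulAction.stabilizer Γ x := fun a ha => hK a ha x
  obtain ⟨i, -, hi⟩ := (Nat.dvd_prime_pow hp).1 (hidx ▸ Subgroup.index_dvd_of_le hle)
  rw [h2, hi]
  rcases Nat.eq_zero_or_pos i with rfl | hi0
  · rw [pow_zero] at hi
    rw [hfix x fun g => by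
      have : g ∈ MulAction.stabilizer Γ x := by
        rw [Subgroup.index_eq_one.1 hi]
        exact Subgroup.mem_top g
      exact this, mul_zero]
  · rw [show ((p ^ i : ℕ) : ZMod p) = 0 by
      rw [Nat.cast_pow, ZMod.natCast_self, zero_pow hi0.ne'], zero_mul]

variable {G : Type u} [Group G]

theorem classInner_comp_mulEquiv [Fintype G] (α : MulAut G) (f h : G → ℂ) :
    Cfsg.classInner (fun x => f (α x)) (fun x => h (α x)) = Cfsg.classInner f h := by
  simp only [Cfsg.Agent.CharCore.classInner_def]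
  congr 1
  exact Fintype.sum_equiv α.toEquiv _ _ fun x => rfl

variable [Fintype G] (N : Subgroup G) [hN : N.Normal] [Fintype N]

/-- Pairing the restriction of an induced function with an invariant function. -/
theorem sum_indFun_restrict (E : Subgroup G) [Fintype ↥(E ⊓ N)] (ψ : E → ℂ) (F : N → ℂ)
    (hF : ∀ (g : G) (n : N), F ⟨g * n * g⁻¹, hN.conj_mem (n : G) n.2 g⟩ = F n) :
    (Nat.card N : ℂ)⁻¹ * ∑ n : N, Cfsg.indFun E ψ n * F n =
      ((E ⊔ N).index : ℂ) * ((Nat.card ↥(E ⊓ N) : ℂ)⁻¹ *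
        ∑ y : ↥(E ⊓ N), ψ (Subgroup.inclusion inf_le_left y) *
          F (Subgroup.inclusion inf_le_right y)) := by
  classical
  have h1 : ∀ x : G, ∑ n : N, Cfsg.extendByZero E ψ (x⁻¹ * (n : G) * x) * F n
      = ∑ n : N, Cfsg.extendByZero E ψ (n : G) * F n := by
    intro x
    refine (Fintype.sum_equiv (MulAut.conjNormal x : MulAut N).toEquiv _ _ fun n => ?_).symm
    have hc : (MulAut.conjNormal x n : G) = x * n * x⁻¹ := MulAut.conjNormal_apply x n
    show _ = Cfsg.extendByZero E ψ (x⁻¹ * (MulAut.conjNormal x n : G) * x) * F (MulAut.conjNormal x n)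
    rw [show MulAut.conjNormal x n = ⟨x * n * x⁻¹, hN.conj_mem (n : G) n.2 x⟩ from Subtype.ext hc,
      hF x n]
    congr 2
    group
  have h2 : ∑ n : N, Cfsg.extendByZero E ψ (n : G) * F n =
      ∑ y : ↥(E ⊓ N), ψ (Subgroup.inclusion inf_le_left y) *
        F (Subgroup.inclusion inf_le_right y) := by
    rw [← Finset.sum_subset (Finset.subset_univ (Finset.univ.filter fun n : N => (n : G) ∈ E))
      (fun n _ hn => by
        rw [Cfsg.Agent.CharInd.extendByZero_notMem _ (by simpa using hn), zero_mul])]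
    symm
    refine Finset.sum_bij (fun y _ => Subgroup.inclusion inf_le_right y) (fun y _ => by
      simpa using y.2.1) (fun a _ b _ hab => Subgroup.inclusion_injective _ hab)
      (fun n hn => ⟨⟨n, by simpa using hn, n.2⟩, Finset.mem_univ _, rfl⟩) (fun y _ => ?_)
    rw [Cfsg.Agent.CharInd.extendByZero_mem _ (show ((Subgroup.inclusion inf_le_right y : N) : G)
      ∈ E from y.2.1)]
    rfl
  have h3 : (Nat.card G : ℂ) * Nat.card ↥(E ⊓ N) =
      ((E ⊔ N).index : ℂ) * Nat.card E * Nat.card N := by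
    have hN' : Nat.card N * N.relIndex (E ⊔ N) = Nat.card ↥(E ⊔ N) := by
      rw [← Subgroup.relIndex_bot_left, ← Subgroup.relIndex_bot_left,
        Subgroup.relIndex_mul_relIndex ⊥ N (E ⊔ N) bot_le le_sup_right]
    have hE' : Nat.card ↥(E ⊓ N) * N.relIndex E = Nat.card E := by
      rw [← Subgroup.inf_relIndex_left, ← Subgroup.relIndex_bot_left, ← Subgroup.relIndex_bot_left,
        Subgroup.relIndex_mul_relIndex ⊥ (E ⊓ N) E bot_le inf_le_left]
    rw [sup_comm, Subgroup.relIndex_sup_left, sup_comm] at hN'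
    have h : Nat.card G * Nat.card ↥(E ⊓ N) = (E ⊔ N).index * Nat.card E * Nat.card N := by
      rw [← (E ⊔ N).index_mul_card, ← hN', ← hE']
      ring
    exact_mod_cast h
  calc (Nat.card N : ℂ)⁻¹ * ∑ n : N, Cfsg.indFun E ψ n * F n
      = (Nat.card N : ℂ)⁻¹ * ((Nat.card E : ℂ)⁻¹ *
          ∑ x : G, ∑ n : N, Cfsg.extendByZero E ψ (x⁻¹ * (n : G) * x) * F n) := by
        rw [Finset.sum_comm, Finset.mul_sum (a := (Nat.card E : ℂ)⁻¹)]
        congr 1
        refine Finset.sum_congr rfl fun n _ => ?_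
        rw [Cfsg.Agent.CharInd.indFun_apply, mul_assoc, Finset.sum_mul]
    _ = (Nat.card N : ℂ)⁻¹ * ((Nat.card E : ℂ)⁻¹ * ((Nat.card G : ℂ) *
          ∑ y : ↥(E ⊓ N), ψ (Subgroup.inclusion inf_le_left y) *
            F (Subgroup.inclusion inf_le_right y))) := by
        rw [Finset.sum_congr rfl fun x _ => (h1 x).trans h2, Finset.sum_const, Finset.card_univ,
          nsmul_eq_mul, ← Nat.card_eq_fintype_card]
    _ = _ := by
        have hD : (Nat.card ↥(E ⊓ N) : ℂ) ≠ 0 := Nat.cast_ne_zero.2 Nat.card_pos.ne'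
        have hE : (Nat.card E : ℂ) ≠ 0 := Nat.cast_ne_zero.2 Nat.card_pos.ne'
        have hN0 : (Nat.card N : ℂ) ≠ 0 := Nat.cast_ne_zero.2 Nat.card_pos.ne'
        field_simp
        linear_combination (∑ y : ↥(E ⊓ N), ψ (Subgroup.inclusion inf_le_left y) *
            F (Subgroup.inclusion inf_le_right y)) * h3

/-- Dade's detection lemma. -/
theorem exists_elementary_detection {p : ℕ} (hp : p.Prime) (hind : ∃ k : ℕ, N.index = p ^ k)
    {ϑ : N → ℂ} (hϑ : Cfsg.IsIrrCharacter N ϑ)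
    (hinv : ∀ (g : G) (n : N), ϑ ⟨g * n * g⁻¹, hN.conj_mem (n : G) n.2 g⟩ = ϑ n) :
    ∃ (E : Subgroup G) (φ : ↥(E ⊓ N) → ℂ), IsElementary p E ∧ E ⊔ N = ⊤ ∧
      Cfsg.IsIrrCharacter ↥(E ⊓ N) φ ∧
      (∀ (g : G) (hg : g ∈ E) (x : ↥(E ⊓ N)), φ ⟨g * x * g⁻¹, ⟨(E.mul_mem (E.mul_mem hg x.2.1)
        (E.inv_mem hg)), hN.conj_mem (x : G) x.2.2 g⟩⟩ = φ x) ∧
      ∃ m : ℕ, ¬ p ∣ m ∧ (Nat.card ↥(E ⊓ N) : ℂ)⁻¹ *
        ∑ᶠ x : ↥(E ⊓ N), ϑ (Subgroup.inclusion inf_le_right x) * conj (φ x) = (m : ℂ) := by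
  classical
  obtain ⟨m0, hm0, l, hl, hcomb⟩ := exists_const_isLocalComb (G := G) hp
  have hNc : (Nat.card N : ℂ) ≠ 0 := Nat.cast_ne_zero.2 Nat.card_pos.ne'
  set S : (G → ℂ) →ₗ[ℂ] ℂ :=
    { toFun := fun f => (Nat.card N : ℂ)⁻¹ * ∑ n : N, f n * (ϑ n * conj (ϑ n))
      map_add' := fun f f' => by simp [add_mul, Finset.sum_add_distrib, mul_add]
      map_smul' := fun c f => by simp [Finset.mul_sum]; exact Finset.sum_congr rfl fun n _ => by ring }
    with hS
  have hSm : S (fun _ => (m0 : ℂ)) = (m0 : ℂ) := by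
    show (Nat.card N : ℂ)⁻¹ * ∑ n : N, (m0 : ℂ) * (ϑ n * conj (ϑ n)) = _
    rw [← Finset.mul_sum, mul_left_comm, ← Cfsg.Agent.CharCore.classInner_def,
      (Cfsg.Agent.CharCore.isIrrCharacter_iff.mp hϑ).2, mul_one]
  by_contra hcon
  have hterm : ∀ t ∈ l, ∃ z : ℤ, S (Cfsg.indFun t.1 t.2.1) = (p : ℂ) * z := by
    intro t ht
    obtain ⟨hEl, hψ⟩ := hl t ht
    obtain ⟨E, ψ, z⟩ := t
    simp only at hEl hψ ⊢
    have := Fintype.ofFinite ↥(E ⊓ N)
    set D := E ⊓ N with hD
    set ϑD : D → ℂ := fun x => ϑ (Subgroup.inclusion inf_le_right x) with hϑD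
    set ψD : D → ℂ := fun x => ψ (Subgroup.inclusion inf_le_left x) with hψD
    have hϑDc : Cfsg.IsCharacter D ϑD := Cfsg.Agent.CharCore.isCharacter_comp
      (Cfsg.Agent.CharCore.IsIrrCharacter.isCharacter hϑ) (Subgroup.inclusion inf_le_right)
    have hψDc : Cfsg.IsCharacter D ψD := Cfsg.Agent.CharCore.isCharacter_comp hψ
      (Subgroup.inclusion inf_le_left)
    obtain ⟨K, hK⟩ := Cfsg.Agent.CharCore.IsCharacter.exists_classInner_eq_natCast
      (Cfsg.Agent.CharCore.isCharacter_mul hψDc hϑDc) hϑDc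
    have hSE : S (Cfsg.indFun E ψ) = ((E ⊔ N).index : ℂ) * (K : ℂ) := by
      rw [← hK, Cfsg.Agent.CharCore.classInner_def]
      refine (sum_indFun_restrict N E ψ (fun n => ϑ n * conj (ϑ n))
        (fun g n => by simp only [hinv])).trans ?_
      congr 2
      exact Finset.sum_congr rfl fun y _ => by simp only [Pi.mul_apply, hϑD, hψD]; ring
    suffices hdvd : p ∣ (E ⊔ N).index * K by
      obtain ⟨q, hq⟩ := hdvd
      exact ⟨q, by rw [hSE]; exact_mod_cast hq⟩
    by_cases htop : E ⊔ N = ⊤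
    swap
    · obtain ⟨k, hk⟩ := hind
      obtain ⟨i, -, hi⟩ := (Nat.dvd_prime_pow hp).1 (hk ▸ Subgroup.index_dvd_of_le
        (le_sup_right : N ≤ E ⊔ N))
      refine Dvd.dvd.mul_right ?_ K
      rcases Nat.eq_zero_or_pos i with rfl | h0
      · exact absurd (Subgroup.index_eq_one.1 (by simpa using hi)) htop
      · exact hi ▸ dvd_pow_self p h0.ne'
    refine Dvd.dvd.mul_left ?_ _
    let α : E →* MulAut D := Cfsg.Agent.CharCore.conjAut D E
      (fun s hs g hg => ⟨E.mul_mem (E.mul_mem hs hg.1) (E.inv_mem hs), hN.conj_mem g hg.2 s⟩)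
    let _ : MulAction E (Cfsg.IrrCharacter D) := Cfsg.Agent.CharCore.irrAction α
    have hact : ∀ (e : E) (φ : Cfsg.IrrCharacter D),
        ((e • φ : Cfsg.IrrCharacter D) : D → ℂ) = fun x => (φ : D → ℂ) ((α e)⁻¹ x) :=
      fun _ _ => rfl
    have hϑα : ∀ (e : E) (x : D), ϑD ((α e)⁻¹ x) = ϑD x := by
      intro e x
      rw [← map_inv]
      exact hinv (e : G)⁻¹ (Subgroup.inclusion inf_le_right x)
    have hψα : ∀ (e : E) (x : D), ψD ((α e)⁻¹ x) = ψD x := by
      intro e x
      rw [← map_inv]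
      exact Cfsg.Agent.CharCore.IsCharacter.isClassFunction hψ (Subgroup.inclusion inf_le_left x) e⁻¹
    choose a ha using fun φ : Cfsg.IrrCharacter D =>
      Cfsg.Agent.CharCore.IsCharacter.exists_classInner_irr_eq_natCast hϑDc φ
    choose b hb using fun q : Cfsg.IrrCharacter D × Cfsg.IrrCharacter D =>
      Cfsg.Agent.CharCore.IsCharacter.exists_classInner_irr_eq_natCast
        (Cfsg.Agent.CharCore.isCharacter_mul hψDc (Cfsg.Agent.CharCore.irr_isCharacter q.1)) q.2
    have hKsum : K = ∑ q : Cfsg.IrrCharacter D × Cfsg.IrrCharacter D, a q.1 * a q.2 * b q := by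
      refine Nat.cast_injective (R := ℂ) ?_
      have h1 : ϑD = ∑ φ : Cfsg.IrrCharacter D, (a φ : ℂ) • (φ : D → ℂ) := by
        conv_lhs => rw [Cfsg.Agent.CharCore.IsCharacter.eq_sum_classInner hϑDc]
        exact Finset.sum_congr rfl fun φ _ => by rw [ha]
      have h2 : ψD * ϑD = ∑ φ : Cfsg.IrrCharacter D, (a φ : ℂ) • (ψD * (φ : D → ℂ)) := by
        rw [h1, Finset.mul_sum]
        exact Finset.sum_congr rfl fun φ _ => by rw [mul_smul_comm]
      rw [← hK, h2, Cfsg.Agent.CharCore.classInner_sum_left, Nat.cast_sum,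
        Fintype.sum_prod_type]
      refine Finset.sum_congr rfl fun φ _ => ?_
      rw [Cfsg.Agent.CharCore.classInner_smul_left]
      conv_lhs => rw [h1, Cfsg.Agent.CharCore.classInner_sum_right, Finset.mul_sum]
      refine Finset.sum_congr rfl fun φ' _ => ?_
      rw [Cfsg.Agent.CharCore.classInner_smul_right, hb (φ, φ'), map_natCast]
      push_cast
      ring
    have hainv : ∀ (e : E) (φ : Cfsg.IrrCharacter D), a (e • φ) = a φ := by
      intro e φ
      refine Nat.cast_injective (R := ℂ) ?_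
      rw [← ha, ← ha, hact]
      conv_lhs => rw [show ϑD = fun x => ϑD ((α e)⁻¹ x) from funext fun x => (hϑα e x).symm]
      exact classInner_comp_mulEquiv _ _ _
    have hbinv : ∀ (e : E) (q : Cfsg.IrrCharacter D × Cfsg.IrrCharacter D), b (e • q) = b q := by
      intro e q
      refine Nat.cast_injective (R := ℂ) ?_
      rw [← hb, ← hb, Prod.smul_fst, Prod.smul_snd, hact, hact]
      conv_lhs => rw [show ψD = fun x => ψD ((α e)⁻¹ x) from funext fun x => (hψα e x).symm]
      exact classInner_comp_mulEquiv (α e)⁻¹ (ψD * (q.1 : D → ℂ)) _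
    obtain ⟨c, hc, -, k, hk⟩ := hEl
    have hfixa : ∀ φ : Cfsg.IrrCharacter D, (∀ e : E, e • φ = φ) → (a φ : ZMod p) = 0 := by
      intro φ hφ
      rw [ZMod.natCast_eq_zero_iff]
      by_contra hpa
      refine hcon ⟨E, (φ : D → ℂ), hl _ ht |>.1, htop, φ.2, ?_, a φ, hpa,
        by rw [finsum_eq_sum_of_fintype]; exact ha φ⟩
      intro g hg x
      have h1 := congrFun (congrArg Subtype.val (hφ (⟨g, hg⟩⁻¹ : E))) x
      rw [hact, map_inv, inv_inv] at h1
      exact h1
    rw [← ZMod.natCast_eq_zero_iff, hKsum, Nat.cast_sum]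
    refine sum_eq_zero_of_fixed hp (Subgroup.zpowers c) hk (fun e he q => ?_) _ (fun e q => ?_)
      (fun q hq => ?_)
    · have hce : ∀ x : D, (α e)⁻¹ x = x := by
        intro x
        rw [← map_inv]
        obtain ⟨i, hi⟩ := Subgroup.mem_zpowers_iff.1 (Subgroup.inv_mem _ he)
        refine Subtype.ext ?_
        have hcent : e⁻¹ ∈ Subgroup.center E := hi ▸ Subgroup.zpow_mem _ hc i
        have h1 := congrArg Subtype.val
          (Subgroup.mem_center_iff.1 hcent (Subgroup.inclusion inf_le_left x))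
        show ((e⁻¹ : E) : G) * (x : G) * ((e⁻¹ : E) : G)⁻¹ = x
        rw [mul_inv_eq_iff_eq_mul]
        exact h1.symm
      refine Prod.ext ?_ ?_ <;>
        exact Subtype.ext (funext fun x => by simp only [Prod.smul_fst, Prod.smul_snd, hact, hce])
    · rw [hbinv, Prod.smul_fst, Prod.smul_snd, hainv, hainv]
    · rw [Nat.cast_mul, Nat.cast_mul, hfixa q.1 fun e => congrArg Prod.fst (hq e), zero_mul,
        zero_mul]
  have hdvd : ∃ z : ℤ, (m0 : ℂ) = (p : ℂ) * z := by
    rw [← hSm, hcomb, map_list_sum, List.map_map]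
    clear hcomb hl
    induction l with
    | nil => exact ⟨0, by simp⟩
    | cons t l ih =>
      obtain ⟨z, hz⟩ := hterm t List.mem_cons_self
      obtain ⟨z', hz'⟩ := ih fun s hs => hterm s (List.mem_cons_of_mem _ hs)
      refine ⟨t.2.2 * z + z', ?_⟩
      rw [List.map_cons, List.sum_cons, hz']
      simp only [Function.comp_apply, map_smul, hz, smul_eq_mul]
      push_cast
      ring
  obtain ⟨z, hz⟩ := hdvd
  exact hm0 ⟨z, by exact_mod_cast hz⟩

end Cfsg.Agent.CharB
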