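import Cfsg.Agent.CharB.CliffordDegree
import Cfsg.Agent.CharB.Detection
import Cfsg.Agent.Lib.CharCore.Linear
import Cfsg.Agent.Lib.CharInd.Monomial

/-!
Extension from a central intersection with a Sylow subgroup.
-/

set_option autoImplicit false

open Cfsg
open scoped ComplexConjugate

namespace Cfsg.Agent.CharB

universe u

/-- An irreducible character of a commutative group is a homomorphism. -/
theorem exists_hom_of_isIrr_comm {A : Type u} [Group A] [Finite A]
    (hA : ∀ a b : A, a * b = b * a) {φ : A → ℂ} (hφ : IsIrrCharacter A φ) :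
    ∃ f : A →* ℂˣ, φ = fun a => (f a : ℂ) := by
  obtain ⟨n, ρ, hρ, rfl⟩ := hφ
  have := hρ
  have hs : ∀ g, g ∈ CharInd.scalarSubgroup ρ := fun g => by
    obtain ⟨c, hc⟩ := CharClifford.exists_scalar_of_commute ρ (ρ g) fun b => by
      rw [Commute, SemiconjBy, ← map_mul, ← map_mul, hA]
    exact CharInd.mem_scalarSubgroup.mpr ⟨c, fun v => by
      rw [hc, LinearMap.smul_apply, Module.End.one_apply]⟩
  refine CharCore.IsCharacter.exists_hom_of_degree_one ⟨n, ρ, rfl⟩ ?_
  rw [Representation.char_one, CharInd.finrank_eq_one_of_scalar ρ hs, Nat.cast_one]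

variable {G : Type u} [Group G] [Fintype G] (N : Subgroup G) [hN : N.Normal] [Fintype N]

/-- An invariant irreducible character of a normal subgroup of `p`-power index extends when the
Sylow intersection is central and its linear characters extend. -/
theorem exists_extension_of_central_sylow (p : ℕ) [hpf : Fact p.Prime]
    (hind : ∃ k : ℕ, N.index = p ^ k) (P : Sylow p G)
    (hcent : ∀ x ∈ (P : Subgroup G) ⊓ N, ∀ y ∈ (P : Subgroup G), x * y = y * x)
    (hlin : ∀ lam : ↥((P : Subgroup G) ⊓ N) → ℂ, IsCharacter ↥((P : Subgroup G) ⊓ N) lam →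
      lam 1 = 1 → ∃ μ : ↥(P : Subgroup G) → ℂ, IsCharacter ↥(P : Subgroup G) μ ∧ μ 1 = 1 ∧
        ∀ x : ↥((P : Subgroup G) ⊓ N), μ ⟨(x : G), x.2.1⟩ = lam x)
    {ϑ : N → ℂ} (hϑ : IsIrrCharacter N ϑ)
    (hinv : ∀ (g : G) (n : N), ϑ ⟨g * n * g⁻¹, hN.conj_mem (n : G) n.2 g⟩ = ϑ n) :
    ∃ χ : G → ℂ, IsIrrCharacter G χ ∧ ∀ n : N, χ n = ϑ n := by
  classical
  obtain ⟨K, hK⟩ := hind
  refine exists_extension_of_multiplicities G N hϑ hinv fun q hq => ?_
  by_cases hqp : q = p
  swap
  · refine ⟨indFun N ϑ, N.index,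
      CharInd.isCharacter_indFun N (CharCore.IsIrrCharacter.isCharacter hϑ), ?_, ?_⟩
    · rw [show (fun n : N => indFun N ϑ n) = (N.index : ℂ) • ϑ from
        funext fun n => CharDeep.Ext.indFun_coe N hinv n, CharCore.classInner_smul_left,
        (CharCore.isIrrCharacter_iff.mp hϑ).2, mul_one]
    · rw [hK]
      exact fun h => hqp ((Nat.prime_dvd_prime_iff_eq hq hpf.out).1 (hq.dvd_of_dvd_pow h))
  subst hqp
  obtain ⟨E, φ, hE, htop, hφ, -, m, hm, hinner⟩ := exists_elementary_detection N hq ⟨K, hK⟩ hϑ hinv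
  obtain ⟨c, hc, hcop, k, hk⟩ := hE
  have hcN : ((c : E) : G) ∈ N := by
    rw [← QuotientGroup.eq_one_iff, ← orderOf_eq_one_iff]
    have h1 : orderOf ((((c : E) : G)) : G ⧸ N) ∣ orderOf c :=
      orderOf_map_dvd ((QuotientGroup.mk' N).comp E.subtype) c
    have h2 : orderOf ((((c : E) : G)) : G ⧸ N) ∣ q ^ K := by
      rw [← hK, N.index_eq_card]
      exact orderOf_dvd_natCard _
    exact Nat.eq_one_of_dvd_coprimes (hcop.pow_right K) h1 h2
  obtain ⟨Q⟩ : Nonempty (Sylow q E) := inferInstance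
  set C := Subgroup.zpowers c with hC
  have hCn : C.Normal := ⟨fun x hx y => by
    have hxc : x ∈ Subgroup.center E := Subgroup.zpowers_le.2 hc hx
    rwa [Subgroup.mem_center_iff.1 hxc y, mul_inv_cancel_right]⟩
  have hQC : (Q : Subgroup E) ⊔ C = ⊤ := by
    apply Subgroup.index_eq_one.1
    obtain ⟨j, -, hj⟩ := (Nat.dvd_prime_pow hq).1
      (hk ▸ Subgroup.index_dvd_of_le (le_sup_right : C ≤ (Q : Subgroup E) ⊔ C))
    rcases Nat.eq_zero_or_pos j with rfl | hj0
    · simpa using hj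
    · exact absurd (hj ▸ dvd_pow_self q hj0.ne')
        (fun h => Q.not_dvd_index (h.trans (Subgroup.index_dvd_of_le le_sup_left)))
  obtain ⟨P', hP'⟩ := (Q.2.map E.subtype).exists_le_sylow
  obtain ⟨g, rfl⟩ := MulAction.exists_smul_eq G P P'
  have hconj : ∀ x : (Q : Subgroup E), g⁻¹ * ((x : E) : G) * g ∈ (P : Subgroup G) := by
    intro x
    have h1 := hP' (Subgroup.mem_map_of_mem E.subtype x.2)
    rw [Sylow.coe_subgroup_smul, Subgroup.mem_pointwise_smul_iff_inv_smul_mem] at h1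
    rwa [← map_inv, MulAut.smul_def, MulAut.conj_apply, inv_inv] at h1
  let ι : (Q : Subgroup E) →* (P : Subgroup G) :=
    { toFun := fun x => ⟨_, hconj x⟩
      map_one' := Subtype.ext (by simp)
      map_mul' := fun a b => Subtype.ext (by simp [mul_assoc]) }
  have hιN : ∀ x : (Q : Subgroup E), ((x : E) : G) ∈ N →
      (ι x : G) ∈ (P : Subgroup G) ⊓ N := fun x hx =>
    ⟨(ι x).2, by simpa [ι] using hN.conj_mem _ hx g⁻¹⟩
  have hdec : ∀ e : E, ∃ (x : (Q : Subgroup E)) (y : C), e = x * y := fun e => by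
    obtain ⟨x, hx, y, hy, rfl⟩ := Subgroup.mem_sup_of_normal_right.1 (hQC ▸ Subgroup.mem_top e)
    exact ⟨⟨x, hx⟩, ⟨y, hy⟩, rfl⟩
  have hCD : ∀ y : C, ((y : E) : G) ∈ E ⊓ N := fun y =>
    ⟨(y : E).2, by
      obtain ⟨i, hi⟩ := Subgroup.mem_zpowers_iff.1 y.2
      rw [← hi, SubgroupClass.coe_zpow]
      exact N.zpow_mem hcN i⟩
  have hcommC : ∀ (y : C) (e : E), e * (y : E) = (y : E) * e := fun y e =>
    Subgroup.mem_center_iff.1 (Subgroup.zpowers_le.2 hc y.2) e
  have hcentral : ∀ (a : ↥(E ⊓ N)) (e : E), e * ⟨a, a.2.1⟩ = ⟨a, a.2.1⟩ * e := by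
    intro a e
    obtain ⟨x, y, hxy⟩ := hdec ⟨a, a.2.1⟩
    have hxN : ((x : E) : G) ∈ N := by
      have h1 : ((x : E) : G) = (a : G) * ((y : E) : G)⁻¹ := by
        rw [eq_mul_inv_iff_mul_eq]
        exact (congrArg Subtype.val hxy).symm
      rw [h1]
      exact N.mul_mem a.2.2 (N.inv_mem (hCD y).2)
    have hxQ : ∀ x' : (Q : Subgroup E), (x' : E) * x = x * x' := fun x' => by
      have h := hcent _ (hιN x hxN) _ (ι x').2
      refine Subtype.ext ?_
      simp only [ι, MonoidHom.coe_mk, OneHom.coe_mk, mul_assoc, mul_inv_cancel_left,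
        mul_right_inj] at h
      rw [← mul_assoc, ← mul_assoc, mul_left_inj] at h
      exact h.symm
    obtain ⟨x', y', rfl⟩ := hdec e
    rw [hxy]
    calc (x' : E) * y' * ((x : E) * y) = (x' : E) * x * (y' * y) := by
          rw [mul_assoc, mul_assoc]; congr 1; rw [← mul_assoc, ← hcommC y' x, mul_assoc]
      _ = x * x' * (y * y') := by rw [hxQ, hcommC y y']
      _ = x * y * (x' * y') := by
          rw [mul_assoc, mul_assoc]; congr 1; rw [← mul_assoc, hcommC y x', mul_assoc]
  obtain ⟨lam, rfl⟩ := exists_hom_of_isIrr_comm (A := ↥(E ⊓ N))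
    (fun a b => Subtype.ext (congrArg Subtype.val (hcentral b ⟨a, a.2.1⟩) :)) hφ
  -- transport to the Sylow intersection and extend
  set A := (P : Subgroup G) ⊓ N with hA
  let _ : CommGroup A :=
    { (inferInstance : Group A) with mul_comm := fun a b => Subtype.ext (hcent a a.2 b b.2.1) }
  let QN : Subgroup (Q : Subgroup E) := (N.comap E.subtype).subgroupOf Q
  let ιA : QN →* A :=
    { toFun := fun x => ⟨(ι x.1 : G), hιN x.1 x.2⟩
      map_one' := Subtype.ext (by simp)
      map_mul' := fun a b => Subtype.ext (by simp) }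
  have hιA : Function.Injective ιA := fun a b hab => by
    have h := congrArg Subtype.val hab
    simp only [ιA, ι, MonoidHom.coe_mk, OneHom.coe_mk] at h
    exact Subtype.ext (Subtype.ext (Subtype.ext (by simpa using h)))
  let jD : QN →* ↥(E ⊓ N) :=
    { toFun := fun x => ⟨((x.1 : E) : G), (x.1 : E).2, x.2⟩
      map_one' := rfl
      map_mul' := fun _ _ => rfl }
  have : NeZero ((Monoid.exponent A : ℕ) : ℂ) :=
    ⟨Nat.cast_ne_zero.2 Monoid.exponent_ne_zero_of_finite⟩
  obtain ⟨ν, hν⟩ := MonoidHom.domRestrict_surjective (M := ℂ) ιA.range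
    ((lam.comp jD).comp (MonoidHom.ofInjective hιA).symm.toMonoidHom)
  obtain ⟨μf, hμc, hμ1, hμ⟩ := hlin (fun a => (ν a : ℂ))
    (CharCore.IsIrrCharacter.isCharacter (CharCore.isIrrCharacter_hom ν)) (by simp)
  obtain ⟨μ, rfl⟩ := CharCore.IsCharacter.exists_hom_of_degree_one hμc hμ1
  let jC : C →* ↥(E ⊓ N) :=
    { toFun := fun y => ⟨_, hCD y⟩
      map_one' := rfl
      map_mul' := fun _ _ => rfl }
  have hμlam : ∀ x : QN, μ (ι x.1) = lam (jD x) := fun x => by
    refine Units.ext ?_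
    refine (hμ (ιA x)).trans ?_
    have h1 := DFunLike.congr_fun hν ((MonoidHom.ofInjective hιA) x)
    simp only [MonoidHom.domRestrictHom_apply, MonoidHom.domRestrict_apply,
      MonoidHom.comp_apply, MulEquiv.coe_toMonoidHom, MulEquiv.symm_apply_apply] at h1
    exact congrArg Units.val h1
  let pr : ↥(Q : Subgroup E) × C →* E :=
    MonoidHom.noncommCoprod (Q : Subgroup E).subtype C.subtype fun x y => hcommC y x
  have hinj : Function.Injective pr := by
    rw [injective_iff_map_eq_one]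
    rintro ⟨x, y⟩ hxy
    have hd : Disjoint (Q : Subgroup E) C := by
      obtain ⟨i, hi⟩ := Q.2.exists_card_eq
      refine Subgroup.disjoint_of_coprime_natCard ?_
      rw [hi, hC, Nat.card_zpowers]
      exact hcop.symm.pow_left i
    have hxy' : (x : E) * y = 1 := hxy
    have hx : (x : E) = 1 := Subgroup.disjoint_def.1 hd x.2 (by
      rw [eq_inv_of_mul_eq_one_left hxy']
      exact C.inv_mem y.2)
    rw [hx, one_mul] at hxy'
    exact Prod.ext (Subtype.ext hx) (Subtype.ext hxy')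
  let e := MulEquiv.ofBijective pr ⟨hinj, fun z => by
    obtain ⟨x, y, rfl⟩ := hdec z
    exact ⟨(x, y), rfl⟩⟩
  let Λ : E →* ℂˣ := ((μ.comp ι).coprod (lam.comp jC)).comp e.symm.toMonoidHom
  have hΛ : ∀ a : ↥(E ⊓ N), Λ (Subgroup.inclusion inf_le_left a) = lam a := by
    intro a
    obtain ⟨x, y, hxy⟩ := hdec (Subgroup.inclusion inf_le_left a)
    have hxN : ((x : E) : G) ∈ N := by
      have h1 : ((x : E) : G) = (a : G) * ((y : E) : G)⁻¹ := by
        rw [eq_mul_inv_iff_mul_eq]
        exact (congrArg Subtype.val hxy).symm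
      rw [h1]
      exact N.mul_mem a.2.2 (N.inv_mem (hCD y).2)
    have h2 : e.symm (Subgroup.inclusion inf_le_left a) = (x, y) := by
      rw [MulEquiv.symm_apply_eq]
      exact hxy
    show ((μ.comp ι).coprod (lam.comp jC)) (e.symm (Subgroup.inclusion inf_le_left a)) = lam a
    rw [h2, MonoidHom.coprod_apply, MonoidHom.comp_apply, MonoidHom.comp_apply,
      hμlam ⟨x, hxN⟩, ← map_mul]
    exact congrArg lam (Subtype.ext (congrArg Subtype.val hxy).symm)
  refine ⟨indFun E (fun z => (Λ z : ℂ)), m,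
    CharInd.isCharacter_indFun E (CharCore.IsIrrCharacter.isCharacter (CharCore.isIrrCharacter_hom Λ)),
    ?_, hm⟩
  have := Fintype.ofFinite ↥(E ⊓ N)
  rw [CharCore.classInner_def]
  refine (sum_indFun_restrict N E _ (fun n => conj (ϑ n)) (fun x n => by simp only [hinv])).trans ?_
  rw [htop, Subgroup.index_top, Nat.cast_one, one_mul]
  have h1 := congrArg conj hinner
  rw [finsum_eq_sum_of_fintype, map_mul, map_inv₀, map_natCast, map_natCast, map_sum] at h1
  rw [← h1]
  congr 1
  exact Finset.sum_congr rfl fun y _ => by rw [hΛ, map_mul, Complex.conj_conj, mul_comm]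

end Cfsg.Agent.CharB
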