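import Cfsg.Agent.CharB.BergerBase
import Cfsg.Agent.CharB.CentralExt

/-!
A degree bound from an abelian subgroup whose conjugates are seen at most once by centralisers.
-/

set_option autoImplicit false

open Cfsg
open scoped ComplexConjugate

namespace Cfsg.Agent.CharB

open Cfsg.Agent.CharDeep.Ext (avg avg_apply)

universe u

variable {G : Type u} [Group G] [Fintype G]

/-- A central element multiplies a character by a root of unity. -/
theorem exists_scalar_mul_of_central {χ : G → ℂ} (hχ : IsIrrCharacter G χ) {z : G}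
    (hz : z ∈ Subgroup.center G) : ∃ c : ℂ, ‖c‖ = 1 ∧ ∀ x, χ (z * x) = c * χ x := by
  obtain ⟨d, ρ, hρ, rfl⟩ := hχ
  have := hρ
  obtain ⟨c, hc⟩ := CharClifford.exists_scalar_of_mem_center ρ hz
  refine ⟨c, ?_, fun x => ?_⟩
  · have hd : 0 < Module.finrank ℂ (Fin d → ℂ) := CharCore.finrank_pos_of_irreducible ρ
    have h1 : (1 : Module.End ℂ (Fin d → ℂ)) = c ^ orderOf z • 1 := by
      calc (1 : Module.End ℂ (Fin d → ℂ)) = ρ z ^ orderOf z := by
            rw [← map_pow, pow_orderOf_eq_one, map_one]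
        _ = _ := by rw [hc, smul_pow, one_pow]
    have h2 := congrArg (LinearMap.trace ℂ _) h1
    rw [map_smul, LinearMap.trace_one, smul_eq_mul] at h2
    exact Complex.norm_eq_one_of_pow_eq_one
      (mul_right_cancel₀ (Nat.cast_ne_zero.2 hd.ne') ((one_mul _).trans h2)).symm (orderOf_pos z).ne'
  · simp only [Representation.character, map_mul, hc, smul_mul_assoc, one_mul, map_smul,
      smul_eq_mul]

theorem normSq_natCast' (c : ℕ) : Complex.normSq (c : ℂ) = (c : ℝ) ^ 2 := by
  rw [Complex.normSq_natCast]; ring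

theorem sum_normSq_eq_card {χ : G → ℂ} (hχ : IsIrrCharacter G χ) :
    ∑ g : G, Complex.normSq (χ g) = (Nat.card G : ℝ) := by
  have h := (CharCore.isIrrCharacter_iff.mp hχ).2
  rw [CharCore.classInner_def, inv_mul_eq_iff_eq_mul₀ (Nat.cast_ne_zero.2 Nat.card_pos.ne'),
    mul_one] at h
  simp only [Complex.mul_conj, ← Complex.ofReal_sum] at h
  exact_mod_cast h

set_option maxHeartbeats 600000 in
/-- An irreducible character not trivial on `H` has degree more than `√|H|` times the multiplicity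
of the principal character on `H`. -/
theorem degree_sq_gt (H : Subgroup G) [Fintype H] (hab : ∀ a ∈ H, ∀ b ∈ H, a * b = b * a)
    (hZ : H ⊓ Subgroup.center G = ⊥)
    (hone : ∀ g : G, g ∉ Subgroup.center G → ∀ a b : G,
      Subgroup.centralizer ({g} : Set G) ⊓ H.map (MulAut.conj a).toMonoidHom ≠ ⊥ →
      Subgroup.centralizer ({g} : Set G) ⊓ H.map (MulAut.conj b).toMonoidHom ≠ ⊥ →
      H.map (MulAut.conj a).toMonoidHom = H.map (MulAut.conj b).toMonoidHom)
    {χ : G → ℂ} (hχ : IsIrrCharacter G χ) (hker : ∃ h ∈ H, χ h ≠ χ 1) {d c : ℕ}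
    (hd : χ 1 = (d : ℂ)) (hc : classInner (fun h : H => χ h) (fun _ => 1) = (c : ℂ)) :
    Nat.card H * c ^ 2 < d ^ 2 := by
  classical
  set Z := Subgroup.center G with hZdef
  set N := Subgroup.normalizer (H : Set G) with hNdef
  have hHN : H ≤ N := Subgroup.le_normalizer
  have hmapN : ∀ a : G, a ∈ N ↔ H.map (MulAut.conj a).toMonoidHom = H := fun a => by
    rw [hNdef, Subgroup.mem_normalizer_iff]
    constructor
    · intro ha
      ext x
      simp only [Subgroup.mem_map, MulEquiv.coe_toMonoidHom, MulAut.conj_apply]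
      exact ⟨by rintro ⟨y, hy, rfl⟩; exact (ha y).1 hy,
        fun hx => ⟨a⁻¹ * x * a, (ha _).2 (by simpa [mul_assoc] using hx), by group⟩⟩
    · intro ha y
      constructor
      · exact fun hy => ha ▸ ⟨y, hy, rfl⟩
      · intro hy
        rw [← ha] at hy
        obtain ⟨w, hw, hwe⟩ := hy
        simp only [MulEquiv.coe_toMonoidHom, MulAut.conj_apply, mul_left_inj, mul_right_inj] at hwe
        exact hwe ▸ hw
  have hmap1 : H.map (MulAut.conj (1 : G)).toMonoidHom = H := (hmapN 1).1 N.one_mem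
  set T : Finset G := Finset.univ.filter
    (fun g => g ∉ Z ∧ ∃ h ∈ H, h ≠ 1 ∧ g * h = h * g) with hT
  have hTN : ∀ g ∈ T, g ∈ N := by
    intro g hg
    obtain ⟨hgZ, h, hh, h1, hgh⟩ := (Finset.mem_filter.1 hg).2
    rw [hmapN]
    refine (hone g hgZ g 1 ?_ ?_).trans hmap1
    · intro hbot
      refine h1 (Subgroup.mem_bot.1 (hbot ▸ ?_))
      refine ⟨Subgroup.mem_centralizer_singleton_iff.2 hgh.symm, ⟨h, hh, ?_⟩⟩
      simp [MulAut.conj_apply, hgh]
    · intro hbot
      rw [hmap1] at hbot
      exact h1 (Subgroup.mem_bot.1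
        (hbot ▸ ⟨Subgroup.mem_centralizer_singleton_iff.2 hgh.symm, hh⟩))
  -- counting conjugates of `T`
  set S : ℝ := ∑ g ∈ T, Complex.normSq (χ g) with hS
  have hχcf : IsClassFunction G χ :=
    CharCore.IsCharacter.isClassFunction (CharCore.IsIrrCharacter.isCharacter hχ)
  have hZnorm : ∀ z ∈ Z, Complex.normSq (χ z) = (d : ℝ) ^ 2 := by
    intro z hz
    obtain ⟨k, hk, hk'⟩ := exists_scalar_mul_of_central hχ hz
    have := hk' 1
    rw [mul_one] at this
    rw [this, hd, map_mul, Complex.normSq_eq_norm_sq k, hk, normSq_natCast']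
    ring
  have hrest : ∑ g ∈ Finset.univ.filter (fun g => g ∉ Z), Complex.normSq (χ g)
      = (Nat.card G : ℝ) - (Nat.card Z : ℝ) * (d : ℝ) ^ 2 := by
    have h := Finset.sum_filter_add_sum_filter_not Finset.univ (· ∈ Z)
      (fun g => Complex.normSq (χ g))
    rw [sum_normSq_eq_card hχ, Finset.sum_congr rfl fun g hg =>
      hZnorm g (Finset.mem_filter.1 hg).2, Finset.sum_const, nsmul_eq_mul,
      ← Fintype.card_subtype, ← Nat.card_eq_fintype_card] at h
    have h' : Nat.card {x : G // x ∈ Z} = Nat.card Z := rfl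
    rw [h'] at h
    linarith
  have hcount : (Nat.card G : ℝ) * S
      ≤ (Nat.card N : ℝ) * ((Nat.card G : ℝ) - (Nat.card Z : ℝ) * (d : ℝ) ^ 2) := by
    have h1 : ∑ a : G, ∑ g ∈ T, Complex.normSq (χ (a * g * a⁻¹)) = (Nat.card G : ℝ) * S := by
      rw [Finset.sum_congr rfl fun a _ => Finset.sum_congr rfl fun g _ =>
        congrArg Complex.normSq (hχcf g a), Finset.sum_const, Finset.card_univ, nsmul_eq_mul,
        ← Nat.card_eq_fintype_card]
    have h2 : ∀ a : G, ∑ g ∈ T, Complex.normSq (χ (a * g * a⁻¹))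
        = ∑ g : G, if a⁻¹ * g * a ∈ T then Complex.normSq (χ g) else 0 := by
      intro a
      rw [← Finset.sum_filter]
      refine Finset.sum_bij' (fun g _ => a * g * a⁻¹) (fun g _ => a⁻¹ * g * a)
        (fun g hg => ?_) (fun g hg => (Finset.mem_filter.1 hg).2) (fun g _ => by group)
        (fun g _ => by group) (fun g _ => rfl)
      simp only [Finset.mem_filter, Finset.mem_univ, true_and]
      rw [show a⁻¹ * (a * g * a⁻¹) * a = g by group]
      exact hg
    rw [← h1, Finset.sum_congr rfl fun a _ => h2 a, Finset.sum_comm, ← hrest, Finset.mul_sum,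
      Finset.sum_filter]
    refine Finset.sum_le_sum fun g _ => ?_
    rw [← Finset.sum_filter, Finset.sum_const, nsmul_eq_mul]
    by_cases hgZ : g ∈ Z
    · rw [if_neg (not_not.2 hgZ), Finset.filter_false_of_mem fun a _ hat =>
        (Finset.mem_filter.1 hat).2.1 (by
          rw [show a⁻¹ * g * a = g by rw [mul_assoc, ← Subgroup.mem_center_iff.1 hgZ a,
            inv_mul_cancel_left]]
          exact hgZ)]
      simp
    · rw [if_pos hgZ]
      refine mul_le_mul_of_nonneg_right ?_ (Complex.normSq_nonneg _)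
      set A := Finset.univ.filter (fun a : G => a⁻¹ * g * a ∈ T)
      rcases A.eq_empty_or_nonempty with hA | ⟨a0, ha0⟩
      · rw [hA, Finset.card_empty, Nat.cast_zero]; exact Nat.cast_nonneg _
      · refine Nat.cast_le.2 ?_
        have hmeet : ∀ a ∈ A, Subgroup.centralizer ({g} : Set G) ⊓
            H.map (MulAut.conj a).toMonoidHom ≠ ⊥ := by
          intro a ha hbot
          obtain ⟨-, h, hh, h1, hgh⟩ := (Finset.mem_filter.1 (Finset.mem_filter.1 ha).2).2
          have hmem : a * h * a⁻¹ ∈ Subgroup.centralizer ({g} : Set G) ⊓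
              H.map (MulAut.conj a).toMonoidHom := by
            refine ⟨Subgroup.mem_centralizer_singleton_iff.2 ?_, ⟨h, hh, rfl⟩⟩
            calc a * h * a⁻¹ * g = a * (h * (a⁻¹ * g * a)) * a⁻¹ := by group
              _ = a * ((a⁻¹ * g * a) * h) * a⁻¹ := by rw [hgh]
              _ = g * (a * h * a⁻¹) := by group
          rw [hbot, Subgroup.mem_bot] at hmem
          exact h1 (conj_eq_one_iff.mp hmem)
        have hsub : A ⊆ (Finset.univ.filter (fun n : G => n ∈ N)).image (fun n => a0 * n) := by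
          intro a ha
          refine Finset.mem_image.2 ⟨a0⁻¹ * a, ?_, by group⟩
          simp only [Finset.mem_filter, Finset.mem_univ, true_and, hmapN]
          have h := hone g hgZ a a0 (hmeet a ha) (hmeet a0 ha0)
          rw [show (MulAut.conj (a0⁻¹ * a)).toMonoidHom
              = (MulAut.conj a0⁻¹).toMonoidHom.comp (MulAut.conj a).toMonoidHom from
            MonoidHom.ext fun x => by simp [mul_assoc], ← Subgroup.map_map, h, Subgroup.map_map]
          convert hmap1 using 2
          exact MonoidHom.ext fun x => by simp [mul_assoc]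
        refine (Finset.card_le_card hsub).trans (Finset.card_image_le.trans ?_)
        rw [← Fintype.card_subtype, ← Nat.card_eq_fintype_card]
  -- inside the normaliser
  set Ψ : G → ℂ := fun g => (Nat.card H : ℂ)⁻¹ * ∑ h : H, χ ((h : G) * g) with hΨ
  set HN := H.subgroupOf N with hHNdef
  have hHNn : HN.Normal := Subgroup.normal_in_normalizer
  have hχN : IsCharacter N (fun x : N => χ x) :=
    CharCore.isCharacter_restrict (CharCore.IsIrrCharacter.isCharacter hχ) N
  have hΨavg : ∀ x : N, avg HN (fun y : N => χ y) x = Ψ x := by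
    intro x
    rw [avg_apply, Nat.card_congr (Subgroup.subgroupOfEquivOfLe hHN).toEquiv]
    simp only [hΨ]
    congr 1
    exact Fintype.sum_equiv (Subgroup.subgroupOfEquivOfLe hHN).toEquiv _ _ fun n => rfl
  have hgap : (Nat.card N : ℝ)
      ≤ ∑ x : N, (Complex.normSq (χ x) - Complex.normSq (Ψ x)) := by
    obtain ⟨m, hm⟩ := CharCore.IsCharacter.exists_sum hχN
    set fx : IrrCharacter N → ℕ := fun θ => if avg HN (θ : N → ℂ) = θ then m θ else 0 with hfx
    have hΨsum : (fun x : N => Ψ x) = ∑ θ, (fx θ : ℂ) • (θ : N → ℂ) := by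
      rw [← funext hΨavg, show avg HN (fun y : N => χ y) = _ from congrArg (avg HN) hm,
        CharDeep.Ext.avg_sum]
      refine Finset.sum_congr rfl fun θ _ => ?_
      rw [CharDeep.Ext.avg_smul]
      rcases CharDeep.Ext.avg_irr HN θ with h | h
      · simp [hfx, h]
      · have hne : ¬ avg HN (θ : N → ℂ) = θ := fun h' =>
          irr_apply_one_ne_zero' θ (congrFun (h'.symm.trans h) 1)
        simp only [hfx, if_neg hne, h, smul_zero, Nat.cast_zero, zero_smul]
    obtain ⟨θ0, hθ0m, hθ0⟩ : ∃ θ, m θ ≠ 0 ∧ ¬ avg HN (θ : N → ℂ) = θ := by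
      by_contra hall
      push Not at hall
      obtain ⟨h, hh, hne⟩ := hker
      have hfix : avg HN (fun y : N => χ y) = fun y : N => χ y := by
        rw [show avg HN (fun y : N => χ y) = _ from congrArg (avg HN) hm, CharDeep.Ext.avg_sum, hm]
        refine Finset.sum_congr rfl fun θ _ => ?_
        rw [CharDeep.Ext.avg_smul]
        by_cases h0 : m θ = 0
        · simp [h0]
        · rw [hall θ h0]
      have h1 := congrFun hfix (⟨h, hHN hh⟩ * 1)
      rw [CharDeep.Ext.avg_mul_left HN _ (⟨⟨h, hHN hh⟩, hh⟩ : HN) 1, hfix] at h1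
      exact hne (by simpa using h1.symm)
    have hlt : (∑ θ, fx θ * fx θ) + 1 ≤ ∑ θ, m θ * m θ := by
      rw [← Finset.add_sum_erase Finset.univ _ (Finset.mem_univ θ0),
        ← Finset.add_sum_erase Finset.univ (fun θ => m θ * m θ) (Finset.mem_univ θ0)]
      have h1 : ∑ θ ∈ Finset.univ.erase θ0, fx θ * fx θ ≤ ∑ θ ∈ Finset.univ.erase θ0, m θ * m θ :=
        Finset.sum_le_sum fun θ _ => by
          simp only [hfx]
          split_ifs
          · exact le_rfl
          · simp
      have h2 : fx θ0 = 0 := by simp [hfx, hθ0]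
      have h3 : 1 ≤ m θ0 * m θ0 := Nat.one_le_iff_ne_zero.2 (mul_ne_zero hθ0m hθ0m)
      rw [h2, Nat.mul_zero, zero_add]
      omega
    have key : ∀ (f : G → ℂ) (k : IrrCharacter N → ℕ),
        (fun x : N => f x) = ∑ θ, (k θ : ℂ) • (θ : N → ℂ) →
        ∑ x : N, Complex.normSq (f x) = (Nat.card N : ℝ) * ((∑ θ, k θ * k θ : ℕ) : ℝ) := by
      intro f k hk
      have h := CharCore.classInner_sum_sum (fun θ => (k θ : ℂ)) (fun θ => (k θ : ℂ))
      rw [← hk, CharCore.classInner_def,
        inv_mul_eq_iff_eq_mul₀ (Nat.cast_ne_zero.2 Nat.card_pos.ne')] at h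
      simp only [Complex.mul_conj, ← Complex.ofReal_sum, map_natCast] at h
      exact_mod_cast h
    rw [Finset.sum_sub_distrib, key χ m hm, key Ψ fx hΨsum]
    have : ((∑ θ, fx θ * fx θ : ℕ) : ℝ) + 1 ≤ ((∑ θ, m θ * m θ : ℕ) : ℝ) := by exact_mod_cast hlt
    have hN0 : (0 : ℝ) ≤ Nat.card N := Nat.cast_nonneg _
    nlinarith
  -- off `T` and the centre the two functions agree
  have hagree : ∀ g ∈ N, g ∉ Z → g ∉ T → Ψ g = χ g := by
    intro g hg hgZ hgT
    have hcomm : ∀ k : H, (k : G) * g * (k : G)⁻¹ * g⁻¹ ∈ H := fun k => by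
      rw [show (k : G) * g * (k : G)⁻¹ * g⁻¹ = (k : G) * (g * (k : G)⁻¹ * g⁻¹) by group]
      exact H.mul_mem k.2 ((Subgroup.mem_normalizer_iff.1 hg _).1 (H.inv_mem k.2))
    have hbij : Function.Bijective (fun k : H => (⟨_, hcomm k⟩ : H)) := by
      refine Finite.injective_iff_bijective.1 fun k k' hkk => ?_
      have h1 : (k : G) * g * (k : G)⁻¹ = (k' : G) * g * (k' : G)⁻¹ := by
        simpa using congrArg Subtype.val hkk
      by_contra hne
      refine hgT ?_
      simp only [hT, Finset.mem_filter, Finset.mem_univ, true_and]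
      refine ⟨hgZ, (k' : G)⁻¹ * k, H.mul_mem (H.inv_mem k'.2) k.2, fun h => hne (Subtype.ext
        (inv_mul_eq_one.1 h).symm), ?_⟩
      calc g * ((k' : G)⁻¹ * k) = (k' : G)⁻¹ * ((k' : G) * g * (k' : G)⁻¹) * k := by group
        _ = (k' : G)⁻¹ * ((k : G) * g * (k : G)⁻¹) * k := by rw [h1]
        _ = (k' : G)⁻¹ * k * g := by group
    simp only [hΨ]
    rw [← Fintype.sum_bijective _ hbij (fun k : H => χ ((k : G) * g * (k : G)⁻¹))
      (fun h : H => χ ((h : G) * g)) (fun k => by simp [mul_assoc]),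
      Finset.sum_congr rfl (fun (k : H) _ => hχcf g (k : G)), Finset.sum_const, Finset.card_univ, nsmul_eq_mul,
      ← Nat.card_eq_fintype_card, inv_mul_cancel_left₀ (Nat.cast_ne_zero.2 Nat.card_pos.ne')]
  have hΨone : Ψ 1 = (c : ℂ) := by
    rw [← hc, CharCore.classInner_def]
    simp [hΨ]
  have hΨhz : ∀ h ∈ H, ∀ z ∈ Z, Complex.normSq (Ψ (h * z)) = (c : ℝ) ^ 2 := by
    intro h hh z hz
    obtain ⟨k, hk, hk'⟩ := exists_scalar_mul_of_central hχ hz
    have : Ψ (h * z) = k * Ψ 1 := by
      simp only [hΨ, mul_one]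
      rw [mul_left_comm k, Finset.mul_sum (a := k)]
      congr 1
      refine Fintype.sum_equiv (Equiv.mulRight (⟨h, hh⟩ : H)) _ _ fun a => ?_
      rw [← hk']
      congr 1
      show (a : G) * (h * z) = z * ((a : G) * h)
      rw [← mul_assoc, Subgroup.mem_center_iff.1 hz]
    rw [this, hΨone, map_mul, Complex.normSq_eq_norm_sq k, hk, normSq_natCast']
    ring
  have hsplit : ∑ x : N, (Complex.normSq (χ x) - Complex.normSq (Ψ x)) =
      (S - ∑ g ∈ T, Complex.normSq (Ψ g)) + (Nat.card Z : ℝ) * ((d : ℝ) ^ 2 - (c : ℝ) ^ 2) := by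
    have h1 : ∑ x : N, (Complex.normSq (χ x) - Complex.normSq (Ψ x)) =
        ∑ g ∈ Finset.univ.filter (fun g : G => g ∈ N),
          (Complex.normSq (χ g) - Complex.normSq (Ψ g)) := by
      rw [Finset.sum_subtype (p := fun g => g ∈ N) _ (fun g => by simp)]
    have hZN : ∀ z ∈ Z, z ∈ N := fun z hz => by
      rw [hNdef, Subgroup.mem_normalizer_iff]
      intro y
      rw [Subgroup.mem_center_iff.1 hz y |>.symm, mul_inv_cancel_right]
    rw [h1, ← Finset.sum_subset (s₁ := T ∪ Finset.univ.filter (· ∈ Z))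
      (fun g hg => by
        rcases Finset.mem_union.1 hg with h | h
        · simpa using hTN g h
        · simpa using hZN g (Finset.mem_filter.1 h).2)
      (fun g hg hg' => by
        rw [hagree g (Finset.mem_filter.1 hg).2 (fun h => hg' (Finset.mem_union_right _ (by simpa)))
          (fun h => hg' (Finset.mem_union_left _ h)), sub_self]),
      Finset.sum_union (Finset.disjoint_left.2 fun g hg hg' =>
        (Finset.mem_filter.1 hg).2.1 (Finset.mem_filter.1 hg').2),
      Finset.sum_sub_distrib, hS]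
    congr 1
    rw [Finset.sum_congr rfl (g := fun _ => (d : ℝ) ^ 2 - (c : ℝ) ^ 2) (fun z hz => by
      have h := hΨhz 1 H.one_mem z (Finset.mem_filter.1 hz).2
      rw [one_mul] at h
      rw [hZnorm z (Finset.mem_filter.1 hz).2, h]),
      Finset.sum_const, nsmul_eq_mul, ← Fintype.card_subtype, ← Nat.card_eq_fintype_card]
  have hlow : (Nat.card Z : ℝ) * ((Nat.card H : ℝ) - 1) * (c : ℝ) ^ 2
      ≤ ∑ g ∈ T, Complex.normSq (Ψ g) := by
    set I : Finset G := (((Finset.univ : Finset H).erase 1) ×ˢ (Finset.univ : Finset Z)).image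
      (fun x => (x.1 : G) * x.2)
    have hinjI : I.card = (Nat.card H - 1) * Nat.card Z := by
      rw [Finset.card_image_of_injective _ (fun x y hxy => ?_), Finset.card_product,
        Finset.card_erase_of_mem (Finset.mem_univ _), Finset.card_univ, Finset.card_univ,
        ← Nat.card_eq_fintype_card, ← Nat.card_eq_fintype_card]
      have hm : (y.1 : G)⁻¹ * x.1 ∈ H ⊓ Z := by
        refine ⟨H.mul_mem (H.inv_mem y.1.2) x.1.2, ?_⟩
        have : (y.1 : G)⁻¹ * x.1 = (y.2 : G) * (x.2 : G)⁻¹ := by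
          rw [inv_mul_eq_iff_eq_mul, ← mul_assoc, eq_mul_inv_iff_mul_eq]
          exact hxy
        rw [this]
        exact Z.mul_mem y.2.2 (Z.inv_mem x.2.2)
      rw [hZ, Subgroup.mem_bot, inv_mul_eq_one] at hm
      refine Prod.ext (Subtype.ext hm.symm) (Subtype.ext ?_)
      change (x.1 : G) * x.2 = (y.1 : G) * y.2 at hxy
      rw [hm] at hxy
      exact mul_left_cancel hxy
    have hIT : I ⊆ T := by
      intro g hg
      obtain ⟨⟨h, z⟩, hhz, rfl⟩ := Finset.mem_image.1 hg
      have h1 : h ≠ 1 := (Finset.mem_erase.1 (Finset.mem_product.1 hhz).1).1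
      refine Finset.mem_filter.2 ⟨Finset.mem_univ _, fun hmem => h1 ?_, h, h.2,
        fun he => h1 (Subtype.ext he), ?_⟩
      · have : (h : G) ∈ H ⊓ Z := ⟨h.2, by simpa using Z.mul_mem hmem (Z.inv_mem z.2)⟩
        rw [hZ, Subgroup.mem_bot] at this
        exact Subtype.ext this
      · simp only [mul_assoc]
        rw [← Subgroup.mem_center_iff.1 z.2 (h : G)]
    calc (Nat.card Z : ℝ) * ((Nat.card H : ℝ) - 1) * (c : ℝ) ^ 2
        = ∑ g ∈ I, (c : ℝ) ^ 2 := by
          rw [Finset.sum_const, nsmul_eq_mul, hinjI, Nat.cast_mul,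
            Nat.cast_sub (Nat.card_pos : 0 < Nat.card H)]
          push_cast
          ring
      _ = ∑ g ∈ I, Complex.normSq (Ψ g) := Finset.sum_congr rfl fun g hg => by
          obtain ⟨⟨h, z⟩, -, rfl⟩ := Finset.mem_image.1 hg
          exact (hΨhz h h.2 z z.2).symm
      _ ≤ _ := Finset.sum_le_sum_of_subset_of_nonneg hIT fun g _ _ => Complex.normSq_nonneg _
  -- conclude
  have hd0 : 0 < d := Nat.pos_of_ne_zero fun h =>
    CharCore.irr_apply_one_ne_zero ⟨χ, hχ⟩ (show χ 1 = 0 by rw [hd, h, Nat.cast_zero])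
  have hGp : (0 : ℝ) < Nat.card G := Nat.cast_pos.2 Nat.card_pos
  have hNp : (0 : ℝ) < Nat.card N := Nat.cast_pos.2 Nat.card_pos
  have hZp : (0 : ℝ) < Nat.card Z := Nat.cast_pos.2 Nat.card_pos
  have hgap' : (Nat.card N : ℝ) + (Nat.card Z : ℝ) * ((Nat.card H : ℝ) - 1) * (c : ℝ) ^ 2
      + (Nat.card Z : ℝ) * (c : ℝ) ^ 2 - (Nat.card Z : ℝ) * (d : ℝ) ^ 2 ≤ S := by
    rw [hsplit] at hgap
    linarith
  have h1 := (mul_le_mul_of_nonneg_left hgap' hGp.le).trans hcount
  have h2 : (Nat.card Z : ℝ) * ((Nat.card G : ℝ) * ((Nat.card H : ℝ) * (c : ℝ) ^ 2))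
      ≤ (Nat.card Z : ℝ) * (((Nat.card G : ℝ) - Nat.card N) * (d : ℝ) ^ 2) := by linarith
  have h3 := le_of_mul_le_mul_left h2 hZp
  have h4 : (Nat.card H : ℝ) * (c : ℝ) ^ 2 < (d : ℝ) ^ 2 := by
    have : (0 : ℝ) < (Nat.card N : ℝ) * (d : ℝ) ^ 2 :=
      mul_pos hNp (pow_pos (Nat.cast_pos.2 hd0) 2)
    refine lt_of_mul_lt_mul_left ?_ hGp.le
    linarith
  exact_mod_cast h4
where
  irr_apply_one_ne_zero' {H' : Subgroup G} (θ : IrrCharacter H') (h : (θ : H' → ℂ) 1 = 0) :
      False := CharCore.irr_apply_one_ne_zero θ h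

/-- Second inequality: `H` not inside a proper normal subgroup. -/
theorem succ_degree_sq_gt (H : Subgroup G) [Fintype H] (hab : ∀ a ∈ H, ∀ b ∈ H, a * b = b * a)
    (hZ : H ⊓ Subgroup.center G = ⊥)
    (hone : ∀ g : G, g ∉ Subgroup.center G → ∀ a b : G,
      Subgroup.centralizer ({g} : Set G) ⊓ H.map (MulAut.conj a).toMonoidHom ≠ ⊥ →
      Subgroup.centralizer ({g} : Set G) ⊓ H.map (MulAut.conj b).toMonoidHom ≠ ⊥ →
      H.map (MulAut.conj a).toMonoidHom = H.map (MulAut.conj b).toMonoidHom)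
    {χ : G → ℂ} (hχ : IsIrrCharacter G χ) {d : ℕ} (hd : χ 1 = (d : ℂ)) (hd1 : d ≠ 1)
    (hnormal : ∀ M : Subgroup G, M.Normal → H ≤ M → M = ⊤) :
    Nat.card H < (1 + d) ^ 2 := by
  classical
  by_contra hbig
  push Not at hbig
  have hχc := CharCore.IsIrrCharacter.isCharacter hχ
  set f : G → ℂ := fun g => χ g * conj (χ g) with hf
  have hfc : IsCharacter G f :=
    CharCore.isCharacter_mul hχc (CharCore.IsCharacter.star hχc)
  obtain ⟨a, ha⟩ := CharCore.IsCharacter.exists_sum hfc
  choose dd hdd1 hdd using fun η : IrrCharacter G => CharCore.IsIrrCharacter.exists_degree η.2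
  choose cc hcc using fun η : IrrCharacter G =>
    CharCore.IsCharacter.exists_classInner_irr_eq_natCast
      (CharCore.isCharacter_restrict (CharCore.irr_isCharacter η) H)
      (⟨1, CharCore.isIrrCharacter_one⟩ : IrrCharacter H)
  set one : IrrCharacter G := ⟨1, CharCore.isIrrCharacter_one⟩
  have ha1 : a one = 1 := by
    have h1 : classInner f (1 : G → ℂ) = 1 :=
      (classInner_mul_conj_one' χ).trans (CharCore.isIrrCharacter_iff.mp hχ).2
    rw [ha, show classInner _ (1 : G → ℂ) = _ from CharCore.classInner_sum_all _ one] at h1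
    exact_mod_cast h1
  have hdone : dd one = 1 := by
    have := hdd one
    rw [show (one : G → ℂ) 1 = 1 from rfl] at this
    exact_mod_cast this.symm
  have hcone : cc one = 1 := by
    have h1 : classInner (1 : H → ℂ) (1 : H → ℂ) = (cc one : ℂ) := hcc one
    rw [(CharCore.isIrrCharacter_iff.mp (CharCore.isIrrCharacter_one (G := H))).2] at h1
    exact_mod_cast h1.symm
  have hdeg : ∑ η, a η * dd η = d * d := by
    apply Nat.cast_injective (R := ℂ)
    push_cast
    have h1 := congrFun ha 1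
    simp only [hf, hd, map_natCast, Finset.sum_apply, Pi.smul_apply, smul_eq_mul, hdd] at h1
    exact h1.symm
  obtain ⟨k, hk⟩ := CharCore.IsCharacter.exists_sum (CharCore.isCharacter_restrict hχc H)
  have hcsum : ∑ η, a η * cc η = ∑ l, k l * k l := by
    apply Nat.cast_injective (R := ℂ)
    have h1 := CharCore.classInner_sum_sum (fun l => (k l : ℂ)) (fun l => (k l : ℂ))
    simp only [← hk, map_natCast] at h1
    push_cast
    rw [← h1, ← classInner_mul_conj_one' (fun x : H => χ x)]
    have h2 : (fun x : H => χ x * conj (χ x)) =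
        ∑ η, (a η : ℂ) • (fun x : H => (η : G → ℂ) x) := by
      funext x
      have := congrFun ha x
      simpa [hf, Finset.sum_apply] using this
    rw [h2, CharCore.classInner_sum_left]
    exact Finset.sum_congr rfl fun η _ => by rw [CharCore.classInner_smul_left, ← hcc]; rfl
  have hksum : d ≤ ∑ l, k l * k l := by
    have h1 : d = ∑ l, k l := by
      apply Nat.cast_injective (R := ℂ)
      push_cast
      have h2 := congrFun hk 1
      simp only [OneMemClass.coe_one, hd, Finset.sum_apply, Pi.smul_apply, smul_eq_mul] at h2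
      rw [h2]
      refine Finset.sum_congr rfl fun l _ => ?_
      obtain ⟨fl, hfl⟩ := exists_hom_of_isIrr_comm
        (fun x y : H => Subtype.ext (hab x x.2 y y.2)) l.2
      simp [hfl]
    rw [h1]
    exact Finset.sum_le_sum fun l _ => Nat.le_mul_self _
  have hkey : ∀ η, η ≠ one → a η ≠ 0 → (d + 1) * cc η + 1 ≤ dd η := by
    intro η hη _
    have hker : ∃ h ∈ H, (η : G → ℂ) h ≠ (η : G → ℂ) 1 := by
      by_contra hall
      push Not at hall
      obtain ⟨η, n, ρ, hρ, rfl⟩ := η
      have := hρ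
      have hkerρ : H ≤ ρ.asGroupHom.ker := fun x hx => by
        refine MonoidHom.mem_ker.2 (Units.ext ?_)
        refine (CharCore.character_eq_finrank_iff ρ x).mp ?_
        rw [← Representation.char_one ρ]
        exact hall x hx
      have htop := hnormal _ inferInstance hkerρ
      refine hη (Subtype.ext (funext fun g => ?_))
      have hg : ρ g = 1 := congrArg Units.val (MonoidHom.mem_ker.1
        (htop.ge (Subgroup.mem_top g) : g ∈ ρ.asGroupHom.ker))
      have hn : n = 1 := by
        have h1 := CharInd.finrank_eq_one_of_scalar ρ fun x => CharInd.mem_scalarSubgroup.mpr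
          ⟨1, fun v => by
            rw [show ρ x = 1 from congrArg Units.val (MonoidHom.mem_ker.1
              (htop.ge (Subgroup.mem_top x) : x ∈ ρ.asGroupHom.ker)), one_smul,
              Module.End.one_apply]⟩
        simpa using h1
      show ρ.character g = 1
      simp [Representation.character, hg, hn]
    have h1 := degree_sq_gt H hab hZ hone η.2 hker (hdd η) (hcc η)
    have h2 : ((d + 1) * cc η) ^ 2 < dd η ^ 2 := by
      refine lt_of_le_of_lt ?_ h1
      rw [mul_pow, add_comm d 1]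
      exact Nat.mul_le_mul_right _ hbig
    exact lt_of_pow_lt_pow_left₀ 2 (Nat.zero_le _) h2
  rw [← Finset.add_sum_erase Finset.univ _ (Finset.mem_univ one), ha1, hdone] at hdeg
  rw [← Finset.add_sum_erase Finset.univ _ (Finset.mem_univ one), ha1, hcone] at hcsum
  have hge : (d + 1) * ∑ η ∈ Finset.univ.erase one, a η * cc η
      + ∑ η ∈ Finset.univ.erase one, a η ≤ ∑ η ∈ Finset.univ.erase one, a η * dd η := by
    rw [Finset.mul_sum, ← Finset.sum_add_distrib]
    refine Finset.sum_le_sum fun η hη => ?_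
    rcases Nat.eq_zero_or_pos (a η) with h | h
    · simp [h]
    · calc (d + 1) * (a η * cc η) + a η = a η * ((d + 1) * cc η + 1) := by ring
        _ ≤ _ := Nat.mul_le_mul_left _ (hkey η (Finset.mem_erase.1 hη).1 h.ne')
  set X := ∑ η ∈ Finset.univ.erase one, a η * cc η
  set Y := ∑ η ∈ Finset.univ.erase one, a η * dd η
  have hd2 : 2 ≤ d := by
    have : d ≠ 0 := fun h => CharCore.irr_apply_one_ne_zero ⟨χ, hχ⟩
      (show χ 1 = 0 by rw [hd, h, Nat.cast_zero])
    omega
  have hApos : 0 < ∑ η ∈ Finset.univ.erase one, a η := by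
    by_contra h0
    have hY : Y = 0 := Finset.sum_eq_zero fun η hη => by
      rw [Finset.sum_eq_zero_iff.1 (Nat.eq_zero_of_not_pos h0) η hη, zero_mul]
    rw [hY] at hdeg
    have : 4 ≤ d * d := Nat.mul_le_mul hd2 hd2
    omega
  have hX : d ≤ 1 * 1 + X := hcsum ▸ hksum
  have h2 : (d + 1) * d ≤ (d + 1) * (1 + X) := Nat.mul_le_mul_left _ (by omega)
  nlinarith
where
  classInner_mul_conj_one' {H' : Type u} [Group H'] [Fintype H'] (a : H' → ℂ) :
      classInner (fun x => a x * conj (a x)) (fun _ => 1) = classInner a a := by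
    simp [CharCore.classInner_def]

end Cfsg.Agent.CharB
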