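import Cfsg.Agent.CharB.CliffordProj
import Cfsg.Agent.CharDeep.Ext.Main
import Mathlib.RingTheory.RootsOfUnity.AlgebraicallyClosed

/-!
A finite group over `G` in which an invariant irreducible character of a normal subgroup extends.
-/

set_option autoImplicit false

open Cfsg

namespace Cfsg.Agent.CharB

universe u

/-- An invariant irreducible character extends in a finite covering group. -/
theorem exists_cover {G : Type u} [Group G] [Finite G] (K : Subgroup G) [hK : K.Normal]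
    {η : K → ℂ} (hη : IsIrrCharacter K η)
    (hinv : ∀ (g : G) (n : K), η ⟨g * n * g⁻¹, hK.conj_mem (n : G) n.2 g⟩ = η n) :
    ∃ (Γ : Type u) (_ : Group Γ) (_ : Finite Γ) (π : Γ →* G) (s : K →* Γ) (τ : Γ → ℂ),
      Function.Surjective π ∧ (∀ k, π (s k) = k) ∧ s.range.Normal ∧ IsIrrCharacter Γ τ ∧
        (∀ k, τ (s k) = η k) ∧
        ∀ z : Γ, π z = 1 → ∃ c : ℂ, ‖c‖ = 1 ∧ ∀ x : Γ, τ (z * x) = c * τ x := by
  classical
  obtain ⟨d, σ, hσ, rfl⟩ := hη
  have := hσ
  obtain ⟨I⟩ := exists_intertwiners σ hinv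
  have hd : 0 < d := by simpa using CharCore.finrank_pos_of_irreducible σ
  set D := Nat.card K with hD
  have hDpos : 0 < D := Nat.card_pos
  let su : K →* ((Fin d → ℂ) →ₗ[ℂ] (Fin d → ℂ))ˣ := σ.asGroupHom
  have hsu : ∀ n : K, (su n : (Fin d → ℂ) →ₗ[ℂ] (Fin d → ℂ)) = σ n := fun n => rfl
  let conjK : G → K → K := fun g n => ⟨g * n * g⁻¹, hK.conj_mem (n : G) n.2 g⟩
  let Γ : Subgroup (G × ((Fin d → ℂ) →ₗ[ℂ] (Fin d → ℂ))ˣ) :=
    { carrier := {x | (∀ n : K, x.2 * su n = su (conjK x.1 n) * x.2) ∧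
        LinearMap.det (x.2 : (Fin d → ℂ) →ₗ[ℂ] (Fin d → ℂ)) ^ D = 1}
      one_mem' := ⟨fun n => by
        rw [Prod.fst_one, Prod.snd_one, one_mul, mul_one]
        exact congrArg su (Subtype.ext (by simp [conjK])), by simp⟩
      mul_mem' := by
        rintro a b ⟨ha, ha'⟩ ⟨hb, hb'⟩
        refine ⟨fun n => ?_, ?_⟩
        · rw [Prod.fst_mul, Prod.snd_mul, mul_assoc, hb, ← mul_assoc, ha, mul_assoc]
          congr 2
          exact Subtype.ext (by simp [conjK, mul_assoc])
        · rw [Prod.snd_mul, Units.val_mul, map_mul, mul_pow, ha', hb', one_mul]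
      inv_mem' := by
        rintro a ⟨ha, ha'⟩
        refine ⟨fun n => ?_, ?_⟩
        · have h := ha (conjK a.1⁻¹ n)
          rw [show conjK a.1 (conjK a.1⁻¹ n) = n from Subtype.ext (by simp [conjK, mul_assoc])] at h
          rw [Prod.fst_inv, Prod.snd_inv, eq_mul_inv_iff_mul_eq, mul_assoc, ← h, inv_mul_cancel_left]
        · have h := congrArg (fun x : ((Fin d → ℂ) →ₗ[ℂ] (Fin d → ℂ)) => LinearMap.det x ^ D)
            (a.2.inv_mul)
          simp only [map_mul, mul_pow, ha', mul_one, map_one, one_pow] at h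
          exact h }
  have hdetK : ∀ n : K, LinearMap.det (σ n) ^ D = 1 := fun n => by
    rw [← map_pow, ← map_pow, hD, pow_card_eq_one', map_one, map_one]
  have hfin : Set.Finite {x : G × ((Fin d → ℂ) →ₗ[ℂ] (Fin d → ℂ))ˣ | x ∈ Γ} := by
    have himg : ((fun x : G × ((Fin d → ℂ) →ₗ[ℂ] (Fin d → ℂ))ˣ =>
        (x.1, (x.2 : (Fin d → ℂ) →ₗ[ℂ] (Fin d → ℂ)))) '' {x | x ∈ Γ}).Finite := by
      refine Set.Finite.subset (Set.finite_iUnion fun g : G =>
        (Polynomial.nthRoots (d * D) ((LinearMap.det (I.S g) ^ D)⁻¹)).toFinset.finite_toSet.image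
          fun c : ℂ => (g, c • I.S g)) ?_
      rintro _ ⟨⟨g, T⟩, ⟨hT, hT'⟩, rfl⟩
      obtain ⟨c, hc⟩ := CharClifford.exists_scalar_of_commute σ (I.S' g * T) fun n => by
        have h1 := congrArg Units.val (hT n)
        simp only [Units.val_mul, hsu] at h1
        rw [Commute, SemiconjBy, mul_assoc, h1, ← mul_assoc, I.intertwine' g, mul_assoc]
        congr 1
        exact congrArg σ (Subtype.ext (by simp [conjK, mul_assoc]))
      have hTc : (T : (Fin d → ℂ) →ₗ[ℂ] (Fin d → ℂ)) = c • I.S g := by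
        calc (T : (Fin d → ℂ) →ₗ[ℂ] (Fin d → ℂ)) = I.S g * (I.S' g * T) := by
              rw [← mul_assoc, I.S_inv, one_mul]
          _ = _ := by rw [hc, mul_smul_comm, mul_one]
      refine Set.mem_iUnion.2 ⟨g, c, ?_, Prod.ext rfl hTc.symm⟩
      rw [Finset.mem_coe, Multiset.mem_toFinset,
        Polynomial.mem_nthRoots (Nat.mul_pos hd hDpos)]
      simp only at hT'
      rw [hTc, LinearMap.det_smul, Module.finrank_fin_fun, mul_pow, ← pow_mul] at hT'
      exact eq_inv_of_mul_eq_one_left hT'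
    exact himg.of_finite_image fun a _ b _ hab => Prod.ext (congrArg Prod.fst hab :)
      (Units.ext (congrArg Prod.snd hab :))
  have : Finite Γ := hfin.to_subtype
  let π : Γ →* G := (MonoidHom.fst _ _).comp Γ.subtype
  let s : K →* Γ :=
    { toFun := fun k => ⟨((k : G), su k), fun n => by
        rw [← map_mul, ← map_mul]
        exact congrArg su (Subtype.ext (by simp [conjK])), hdetK k⟩
      map_one' := Subtype.ext (Prod.ext rfl (map_one su))
      map_mul' := fun a b => Subtype.ext (Prod.ext rfl (map_mul su a b)) }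
  let τr : Representation ℂ Γ (Fin d → ℂ) :=
    (Units.coeHom _).comp ((MonoidHom.snd _ _).comp Γ.subtype)
  have hτs : ∀ k, τr.character (s k) = σ.character k := fun k => rfl
  refine ⟨Γ, inferInstance, inferInstance, π, s, τr.character, fun g => ?_, fun k => rfl,
    ⟨?_⟩, ?_, hτs, ?_⟩
  · have hd0 : LinearMap.det (I.S g) ≠ 0 := fun h => by
      have h1 := congrArg LinearMap.det (I.S_inv g)
      rw [map_mul, h, zero_mul, map_one] at h1
      exact zero_ne_one h1
    obtain ⟨l, hl⟩ := IsAlgClosed.exists_pow_nat_eq ((LinearMap.det (I.S g) ^ D)⁻¹)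
      (Nat.mul_pos hd hDpos)
    have hl0 : l ≠ 0 := by
      rintro rfl
      rw [zero_pow (Nat.mul_pos hd hDpos).ne'] at hl
      exact inv_ne_zero (pow_ne_zero D hd0) hl.symm
    let T : ((Fin d → ℂ) →ₗ[ℂ] (Fin d → ℂ))ˣ :=
      ⟨l • I.S g, l⁻¹ • I.S' g,
        by rw [smul_mul_smul_comm, mul_inv_cancel₀ hl0, one_smul, I.S_inv],
        by rw [smul_mul_smul_comm, inv_mul_cancel₀ hl0, one_smul, I.inv_S]⟩
    refine ⟨⟨(g, T), fun n => Units.ext ?_, ?_⟩, rfl⟩
    · show l • I.S g * σ n = σ (conjK g n) * (l • I.S g)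
      rw [smul_mul_assoc, mul_smul_comm, I.intertwine]
    · show LinearMap.det (l • I.S g) ^ D = 1
      rw [LinearMap.det_smul, Module.finrank_fin_fun, mul_pow, ← pow_mul, hl,
        inv_mul_cancel₀ (pow_ne_zero D hd0)]
  · rintro _ ⟨k, rfl⟩ ⟨⟨g, T⟩, hT⟩
    refine ⟨conjK g k, Subtype.ext (Prod.ext rfl ?_)⟩
    show su (conjK g k) = T * su k * T⁻¹
    rw [eq_mul_inv_iff_mul_eq]
    exact (hT.1 k).symm
  · refine CharDeep.Ext.isIrrCharacter_of_restrict s.range ⟨d, τr, rfl⟩ ?_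
    let e : K ≃* s.range := MonoidHom.ofInjective fun a b h =>
      Subtype.ext (congrArg (fun x : Γ => x.1.1) h :)
    convert CharCore.isIrrCharacter_comp_surjective (⟨d, σ, hσ, rfl⟩ : IsIrrCharacter K σ.character)
      e.symm.toMonoidHom e.symm.surjective using 1
    funext x
    obtain ⟨k, rfl⟩ := e.surjective x
    simp only [MulEquiv.coe_toMonoidHom, MulEquiv.symm_apply_apply]
    exact hτs k
  · rintro ⟨⟨g, T⟩, hT, hT'⟩ (rfl : g = 1)
    obtain ⟨c, hc⟩ := CharClifford.exists_scalar_of_commute σ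
      (T : (Fin d → ℂ) →ₗ[ℂ] (Fin d → ℂ)) fun n => by
      have h1 := congrArg Units.val (hT n)
      simp only [Units.val_mul, hsu] at h1
      rw [show conjK 1 n = n from Subtype.ext (by simp [conjK])] at h1
      exact h1
    refine ⟨c, ?_, fun x => ?_⟩
    · simp only at hT'
      rw [hc, LinearMap.det_smul, Module.finrank_fin_fun, map_one, mul_one, ← pow_mul] at hT'
      exact Complex.norm_eq_one_of_pow_eq_one hT' (Nat.mul_pos hd hDpos).ne'
    · show LinearMap.trace ℂ _ ((T : (Fin d → ℂ) →ₗ[ℂ] (Fin d → ℂ)) * τr x) = c * LinearMap.trace ℂ _ (τr x)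
      rw [hc, smul_mul_assoc, one_mul, map_smul, smul_eq_mul]

end Cfsg.Agent.CharB
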