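import Cfsg.Agent.CharB.BergerBase
import Cfsg.Agent.CharB.BergerCover
import Cfsg.Agent.CharB.CliffordDegree

/-!
Quasi-primitive characters, relative to a normal subgroup with solvable quotient, are not induced.
-/

set_option autoImplicit false

open Cfsg
open scoped ComplexConjugate

namespace Cfsg.Agent.CharB

open Cfsg.Agent.CharDeep.Ext (avg avg_apply)

universe u

/-- The restriction to `M` is a multiple of one irreducible character. -/
def IsHomogOn {G : Type u} [Group G] (χ : G → ℂ) (M : Subgroup G) : Prop :=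
  ∃ (φ : M → ℂ) (e : ℕ), IsIrrCharacter M φ ∧ (fun m : M => χ m) = (e : ℂ) • φ

section Helpers

variable {H : Type u} [Group H] [Fintype H]

/-- Constituents of a character with homogeneous restriction restrict homogeneously. -/
theorem restrict_of_constituent (N : Subgroup H) [Fintype N] {f : H → ℂ} (hf : IsCharacter H f)
    {φ : N → ℂ} (hφ : IsIrrCharacter N φ) {e : ℕ} (hfN : (fun x : N => f x) = (e : ℂ) • φ)
    {ψ : H → ℂ} (hψ : IsIrrCharacter H ψ) (hne : classInner f ψ ≠ 0) :
    ∃ c : ℕ, c ≠ 0 ∧ (fun x : N => ψ x) = (c : ℂ) • φ := by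
  classical
  obtain ⟨a, ha⟩ := CharCore.IsCharacter.exists_sum hf
  choose k hk using fun (χ : IrrCharacter H) (θ : IrrCharacter N) =>
    CharCore.IsCharacter.exists_classInner_irr_eq_natCast
      (CharCore.isCharacter_restrict (CharCore.irr_isCharacter χ) N) θ
  have haψ : a ⟨ψ, hψ⟩ ≠ 0 := by
    intro h
    apply hne
    rw [ha, show classInner _ ψ = _ from CharCore.classInner_sum_all _ ⟨ψ, hψ⟩, h, Nat.cast_zero]
  have hzero : ∀ θ : IrrCharacter N, θ ≠ ⟨φ, hφ⟩ → k ⟨ψ, hψ⟩ θ = 0 := by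
    intro θ hθ
    have h1 : classInner (fun x : N => f x) (θ : N → ℂ) = 0 := by
      rw [hfN, CharCore.classInner_smul_left,
        CharCore.classInner_irr_of_ne (χ := (⟨φ, hφ⟩ : IrrCharacter N)) (fun h => hθ h.symm),
        mul_zero]
    rw [show (fun x : N => f x) = ∑ χ, (a χ : ℂ) • (fun x : N => (χ : H → ℂ) x) from by
      funext x; simp [ha, Finset.sum_apply], CharCore.classInner_sum_left] at h1
    simp only [CharCore.classInner_smul_left, hk] at h1
    have h2 : ∑ χ, a χ * k χ θ = 0 := by exact_mod_cast h1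
    exact (Nat.mul_eq_zero.1 ((Finset.sum_eq_zero_iff.1 h2) ⟨ψ, hψ⟩ (Finset.mem_univ _))).resolve_left
      haψ
  have hres : (fun x : N => ψ x) = (k ⟨ψ, hψ⟩ ⟨φ, hφ⟩ : ℂ) • φ := by
    conv_lhs => rw [CharCore.IsCharacter.eq_sum_classInner
      (CharCore.isCharacter_restrict (CharCore.IsIrrCharacter.isCharacter hψ) N)]
    rw [Finset.sum_eq_single (⟨φ, hφ⟩ : IrrCharacter N)]
    · rw [hk ⟨ψ, hψ⟩]
    · intro θ _ hθ
      rw [hk ⟨ψ, hψ⟩, hzero θ hθ, Nat.cast_zero, zero_smul]
    · exact fun h => absurd (Finset.mem_univ _) h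
  refine ⟨_, fun h0 => ?_, hres⟩
  have h := congrFun hres 1
  rw [h0, Nat.cast_zero, zero_smul, Pi.zero_apply, OneMemClass.coe_one] at h
  exact CharCore.irr_apply_one_ne_zero ⟨ψ, hψ⟩ h

theorem irr_ne_zero {φ : H → ℂ} (hφ : IsIrrCharacter H φ) : φ 1 ≠ 0 :=
  CharCore.irr_apply_one_ne_zero ⟨φ, hφ⟩

theorem classInner_smul_smul {φ : H → ℂ} (hφ : IsIrrCharacter H φ) (a b : ℕ) :
    classInner ((a : ℂ) • φ) ((b : ℂ) • φ) = ((a * b : ℕ) : ℂ) := by
  rw [CharCore.classInner_smul_left, CharCore.classInner_smul_right,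
    (CharCore.isIrrCharacter_iff.mp hφ).2, map_natCast, mul_one, Nat.cast_mul]

theorem classInner_mul_conj_one (a b : H → ℂ) :
    classInner (fun x => a x * conj (b x)) (fun _ => 1) = classInner a b := by
  simp [CharCore.classInner_def]

/-- If the induced character is irreducible, so is the character. -/
theorem irr_of_indFun_irr (S : Subgroup H) [Fintype S] {θ : S → ℂ} (hθ : IsCharacter S θ)
    (h : IsIrrCharacter H (indFun S θ)) : IsIrrCharacter S θ := by
  classical
  set χ : IrrCharacter H := ⟨_, h⟩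
  obtain ⟨m, hm⟩ := CharCore.IsCharacter.exists_sum hθ
  choose dS hdS1 hdS using fun ψ : IrrCharacter S => CharCore.IsIrrCharacter.exists_degree ψ.2
  choose dH hdH1 hdH using fun ψ : IrrCharacter H => CharCore.IsIrrCharacter.exists_degree ψ.2
  have hone : ∑ ψ, (m ψ : ℂ) * classInner (indFun S (ψ : S → ℂ)) (χ : H → ℂ) = 1 := by
    have h1 := (CharCore.isIrrCharacter_iff.mp h).2
    have h2 : indFun S θ = ∑ ψ, (m ψ : ℂ) • indFun S (ψ : S → ℂ) := by
      conv_lhs => rw [hm, CharInd.indFun_sum]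
      exact Finset.sum_congr rfl fun ψ _ => CharInd.indFun_smul S _ _
    conv_lhs at h1 => arg 1; rw [h2]
    rw [CharCore.classInner_sum_left] at h1
    simp only [CharCore.classInner_smul_left] at h1
    exact h1
  obtain ⟨ψ0, -, hψ0⟩ := Finset.exists_ne_zero_of_sum_ne_zero (hone.trans_ne one_ne_zero)
  obtain ⟨a, ha⟩ := CharCore.IsCharacter.exists_sum
    (CharInd.isCharacter_indFun S (CharCore.irr_isCharacter ψ0))
  have ha0 : 0 < a χ := Nat.pos_of_ne_zero fun h0 => hψ0 (by
    rw [ha, CharCore.classInner_sum_all, h0, Nat.cast_zero, mul_zero])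
  have hm0 : 0 < m ψ0 := Nat.pos_of_ne_zero fun h0 => hψ0 (by rw [h0, Nat.cast_zero, zero_mul])
  have hi : 0 < S.index := Nat.pos_of_ne_zero Subgroup.index_ne_zero_of_finite
  have hle : dH χ ≤ S.index * dS ψ0 := by
    have h1 : ∑ ψ, a ψ * dH ψ = S.index * dS ψ0 := by
      apply Nat.cast_injective (R := ℂ)
      push_cast
      rw [← hdS, ← CharInd.indFun_apply_one, ha, Finset.sum_apply]
      exact Finset.sum_congr rfl fun ψ _ => by rw [Pi.smul_apply, smul_eq_mul, hdH]
    exact h1 ▸ (Nat.le_mul_of_pos_left _ ha0).trans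
      (Finset.single_le_sum (f := fun ψ => a ψ * dH ψ) (fun ψ _ => Nat.zero_le _) (Finset.mem_univ χ))
  have heq : dH χ = S.index * ∑ ψ, m ψ * dS ψ := by
    apply Nat.cast_injective (R := ℂ)
    push_cast
    rw [← hdH, show ((χ : H → ℂ)) 1 = indFun S θ 1 from rfl, CharInd.indFun_apply_one, hm,
      Finset.sum_apply]
    congr 1
    exact Finset.sum_congr rfl fun ψ _ => by rw [Pi.smul_apply, smul_eq_mul, hdS]
  rw [heq] at hle
  have hle' := Nat.le_of_mul_le_mul_left hle hi
  rw [← Finset.add_sum_erase Finset.univ _ (Finset.mem_univ ψ0)] at hle'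
  have hge : dS ψ0 ≤ m ψ0 * dS ψ0 := Nat.le_mul_of_pos_left _ hm0
  have hm1 : m ψ0 = 1 := by
    have : m ψ0 * dS ψ0 = 1 * dS ψ0 := by omega
    exact Nat.eq_of_mul_eq_mul_right (hdS1 ψ0) this
  have hrest : ∑ ψ ∈ Finset.univ.erase ψ0, m ψ * dS ψ = 0 := by omega
  convert ψ0.2
  rw [hm, Finset.sum_eq_single ψ0 (fun ψ _ hψ => ?_) (fun h => absurd (Finset.mem_univ _) h), hm1,
    Nat.cast_one, one_smul]
  have := Finset.sum_eq_zero_iff.1 hrest ψ (Finset.mem_erase.2 ⟨hψ, Finset.mem_univ _⟩)
  rw [(Nat.mul_eq_zero.1 this).resolve_right (hdS1 ψ).ne', Nat.cast_zero, zero_smul]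

end Helpers

set_option maxHeartbeats 1000000 in
/-- Quasi-primitive characters relative to a normal subgroup with solvable quotient are not
induced from proper subgroups containing it. -/
theorem not_induced_of_homog : ∀ (d : ℕ) {G : Type u} [Group G] [Fintype G] (L0 : Subgroup G)
    [L0.Normal], Group.IsSolvable (G ⧸ L0) → ∀ χ : G → ℂ, IsIrrCharacter G χ → χ 1 = (d : ℂ) →
    (∀ M : Subgroup G, M.Normal → L0 ≤ M → IsHomogOn χ M) →
    ∀ H : Subgroup G, L0 ≤ H → H ≠ ⊤ → ∀ θ : H → ℂ, IsCharacter H θ → indFun H θ ≠ χ := by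
  intro d
  induction d using Nat.strong_induction_on with
  | _ d IH =>
  intro G _ _ L0 _ hsolv χ hχ hd hqp H0 hL0H0 hH0 θ0 hθ0 heq0
  classical
  -- pass to a maximal subgroup
  obtain ⟨H, hmax, hH0H⟩ := (eq_top_or_exists_le_coatom H0).resolve_left hH0
  obtain ⟨θ, hθc, heq⟩ : ∃ θ : H → ℂ, IsCharacter H θ ∧ indFun H θ = χ :=
    ⟨indFun (H0.subgroupOf H) (fun x => θ0 (Subgroup.subgroupOfEquivOfLe hH0H x)),
      CharInd.isCharacter_indFun _
        (CharCore.isCharacter_comp hθ0 (Subgroup.subgroupOfEquivOfLe hH0H).toMonoidHom),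
      by rw [CharDeep.Ext.indFun_of_le hH0H]; exact heq0⟩
  have hθ : IsIrrCharacter H θ := irr_of_indFun_irr H hθc (heq ▸ hχ)
  have hχcf : IsClassFunction G χ :=
    CharCore.IsCharacter.isClassFunction (CharCore.IsIrrCharacter.isCharacter hχ)
  set L := H.normalCore with hLdef
  have hLn : L.Normal := H.normalCore_normal
  have hLH : L ≤ H := H.normalCore_le
  have hL0L : L0 ≤ L := Subgroup.normal_le_normalCore.2 (hL0H0.trans hH0H)
  have hsolvL : Group.IsSolvable (G ⧸ L) :=
    have := hsolv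
    Group.isSolvable_of_surjective (f := QuotientGroup.map L0 L (MonoidHom.id G) hL0L)
      (fun q => by
        obtain ⟨x, rfl⟩ := QuotientGroup.mk_surjective q
        exact ⟨(x : G ⧸ L0), rfl⟩)
  obtain ⟨K, hKn, hLK, hsup, hinf, hUex⟩ := exists_chief_pair hmax hsolvL
  have hdecomp : ∀ g : G, ∃ k ∈ K, ∃ h ∈ H, k * h = g := fun g =>
    Subgroup.mem_sup_of_normal_left.1 (hsup ▸ Subgroup.mem_top g)
  -- indices
  set n := L.relIndex K with hn
  have hKcard : Nat.card L * n = Nat.card K := by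
    rw [hn, ← Subgroup.relIndex_bot_left, ← Subgroup.relIndex_bot_left,
      Subgroup.relIndex_mul_relIndex ⊥ L K bot_le hLK.le]
  have hHindex : H.index = n := by
    have h1 : K.index = L.relIndex H := by
      have := Subgroup.relIndex_sup_left H K
      rw [hsup, Subgroup.relIndex_top_right] at this
      rw [this, ← Subgroup.inf_relIndex_right K H]
      exact congrArg (fun M : Subgroup G => M.relIndex H) hinf
    have hH : Nat.card L * L.relIndex H = Nat.card H := by
      rw [← Subgroup.relIndex_bot_left, ← Subgroup.relIndex_bot_left,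
        Subgroup.relIndex_mul_relIndex ⊥ L H bot_le hLH]
    refine Nat.eq_of_mul_eq_mul_left (Nat.card_pos (α := H)) ?_
    rw [H.card_mul_index, ← K.card_mul_index, ← hKcard, h1, ← hH]
    ring
  have hn1 : 1 < n := by
    rcases Nat.lt_or_ge 1 n with h | h
    · exact h
    · exfalso
      refine hmax.1 (Subgroup.index_eq_one.1 ?_)
      have : H.index ≠ 0 := Subgroup.index_ne_zero_of_finite
      omega
  -- the restriction to `L`
  obtain ⟨φ, e, hφ, hχL⟩ := hqp L hLn hL0L
  have he0 : e ≠ 0 := by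
    rintro rfl
    have h := congrFun hχL 1
    simp only [Nat.cast_zero, zero_smul, Pi.zero_apply, OneMemClass.coe_one] at h
    exact irr_ne_zero hχ h
  have hχLn : ∀ l : L, χ l = (e : ℂ) * φ l := fun l => congrFun hχL l
  -- the restriction to `K`
  obtain ⟨η, f, hη, hχK⟩ := hqp K hKn (hL0L.trans hLK.le)
  have hvan : ∀ x ∈ K, x ∉ L → χ x = 0 := by
    intro x hx hxL
    rw [← heq]
    refine CharInd.indFun_eq_zero_of_forall_notMem H θ fun y hy => hxL ?_
    have hyK : y⁻¹ * x * y ∈ K := by simpa using hKn.conj_mem x hx y⁻¹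
    have hyL : y⁻¹ * x * y ∈ L := hinf.le ⟨hyK, hy⟩
    simpa [mul_assoc] using hLn.conj_mem _ hyL y
  have hff : f * f * n = e * e := by
    have h1 : ∑ k : K, χ k * conj (χ k) = ∑ l : L, χ l * conj (χ l) := by
      rw [← Finset.sum_subset (Finset.subset_univ (Finset.univ.filter fun k : K => (k : G) ∈ L))
        (fun k _ hk => by rw [hvan k k.2 (by simpa using hk), zero_mul])]
      symm
      refine Finset.sum_bij (fun l _ => (⟨(l : G), hLK.le l.2⟩ : K)) (fun l _ => by simp)
        (fun a _ b _ hab => Subtype.ext (congrArg (fun k : K => (k : G)) hab :))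
        (fun k hk => ⟨⟨k, (Finset.mem_filter.1 hk).2⟩, Finset.mem_univ _, rfl⟩) (fun l _ => rfl)
    have h2 := classInner_smul_smul hη f f
    have h3 := classInner_smul_smul hφ e e
    rw [← hχK, CharCore.classInner_def, h1,
      inv_mul_eq_iff_eq_mul₀ (Nat.cast_ne_zero.2 Nat.card_pos.ne')] at h2
    rw [← hχL, CharCore.classInner_def, h2,
      inv_mul_eq_iff_eq_mul₀ (Nat.cast_ne_zero.2 Nat.card_pos.ne'), ← hKcard] at h3
    have h4 : Nat.card L * n * (f * f) = Nat.card L * (e * e) := by exact_mod_cast h3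
    rw [mul_assoc] at h4
    rw [mul_comm (f * f)]
    exact Nat.eq_of_mul_eq_mul_left Nat.card_pos h4
  have hf0 : f ≠ 0 := fun h => he0 (by
    rw [h, zero_mul, zero_mul] at hff
    exact (Nat.mul_eq_zero.1 hff.symm).elim id id)
  -- the restriction of `η` to `L`
  obtain ⟨s, hs⟩ := CharCore.IsCharacter.exists_classInner_irr_eq_natCast
    (CharCore.isCharacter_comp (CharCore.IsIrrCharacter.isCharacter hη) (Subgroup.inclusion hLK.le))
    ⟨φ, hφ⟩
  have hfη : ∀ l : L, (f : ℂ) * η (Subgroup.inclusion hLK.le l) = (e : ℂ) * φ l := fun l => by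
    rw [← hχLn l]
    exact (congrFun hχK (Subgroup.inclusion hLK.le l)).symm
  have hfs : f * s = e := by
    apply Nat.cast_injective (R := ℂ)
    push_cast
    rw [← hs, ← CharCore.classInner_smul_left,
      show (f : ℂ) • (fun l : L => η (Subgroup.inclusion hLK.le l)) = (e : ℂ) • φ from funext hfη,
      CharCore.classInner_smul_left, (CharCore.isIrrCharacter_iff.mp hφ).2, mul_one]
  have hss : s * s = n := by
    refine Nat.eq_of_mul_eq_mul_left (Nat.pos_of_ne_zero (mul_ne_zero hf0 hf0)) ?_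
    rw [hff, ← hfs]
    ring
  have hs1 : 1 < s := by
    by_contra h
    have : s * s ≤ 1 * 1 := Nat.mul_le_mul (by omega) (by omega)
    omega
  have hηL : ∀ l : L, η (Subgroup.inclusion hLK.le l) = (s : ℂ) * φ l := fun l => by
    refine mul_left_cancel₀ (Nat.cast_ne_zero.2 hf0 : (f : ℂ) ≠ 0) ?_
    rw [hfη, ← hfs, Nat.cast_mul, mul_assoc]
  -- `H` is not `L`
  have hHL : H ≠ L := by
    intro h
    have hK : K = ⊤ := by rw [← hsup, sup_eq_left.2 (h.le.trans hLK.le)]
    have h2 := classInner_smul_smul hη f f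
    rw [← hχK, show classInner (fun m : K => χ m) (fun m : K => χ m) = classInner χ χ from
      classInner_comp_surjective K.subtype (fun x => ⟨⟨x, hK ▸ Subgroup.mem_top x⟩, rfl⟩) χ χ,
      (CharCore.isIrrCharacter_iff.mp hχ).2] at h2
    have hf1 : f = 1 := Nat.eq_one_of_mul_eq_one_right (m := f) (by exact_mod_cast h2.symm)
    -- degrees
    have h1 := hχLn 1
    obtain ⟨m, hm1, hm⟩ := CharCore.IsIrrCharacter.exists_degree hθ
    obtain ⟨g, hg0, hg⟩ := restrict_of_constituent (L.subgroupOf H)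
      (CharCore.isCharacter_restrict (CharCore.IsIrrCharacter.isCharacter hχ) H)
      (CharCore.isIrrCharacter_comp_surjective hφ (Subgroup.subgroupOfEquivOfLe hLH).toMonoidHom
        (Subgroup.subgroupOfEquivOfLe hLH).surjective)
      (e := e) (funext fun x => hχLn (Subgroup.subgroupOfEquivOfLe hLH x)) hθ
      (by
        rw [← CharCore.conj_classInner, ← CharInd.classInner_indFun_left H θ hχcf, heq,
          (CharCore.isIrrCharacter_iff.mp hχ).2, map_one]
        exact one_ne_zero)
    have h3 := congrFun hg 1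
    simp only [Pi.smul_apply, smul_eq_mul, map_one, MulEquiv.coe_toMonoidHom, OneMemClass.coe_one]
      at h3
    rw [OneMemClass.coe_one, ← heq, CharInd.indFun_apply_one, hHindex, h3] at h1
    have h5 : n * g = e := by
      apply Nat.cast_injective (R := ℂ)
      push_cast
      refine mul_right_cancel₀ (irr_ne_zero hφ) ?_
      rw [mul_assoc, h1]
    rw [← hfs, hf1, one_mul] at h5
    have : s * s * 1 ≤ n * g := Nat.mul_le_mul hss.le (Nat.one_le_iff_ne_zero.2 hg0)
    rw [h5, mul_one] at this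
    have : s * 2 ≤ s * s := Nat.mul_le_mul_left s hs1
    omega
  obtain ⟨U, hLU, hUH, hUnorm, hcop⟩ := hUex hHL
  -- the constituent on `L`
  obtain ⟨g, hg0, hθL⟩ := restrict_of_constituent (L.subgroupOf H)
    (CharCore.isCharacter_restrict (CharCore.IsIrrCharacter.isCharacter hχ) H)
    (CharCore.isIrrCharacter_comp_surjective hφ (Subgroup.subgroupOfEquivOfLe hLH).toMonoidHom
      (Subgroup.subgroupOfEquivOfLe hLH).surjective)
    (e := e) (funext fun x => hχLn (Subgroup.subgroupOfEquivOfLe hLH x)) hθ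
    (by
      rw [← CharCore.conj_classInner, ← CharInd.classInner_indFun_left H θ hχcf, heq,
        (CharCore.isIrrCharacter_iff.mp hχ).2, map_one]
      exact one_ne_zero)
  have hng : n * g = e := by
    apply Nat.cast_injective (R := ℂ)
    push_cast
    refine mul_right_cancel₀ (irr_ne_zero hφ) ?_
    have h1 := hχLn 1
    have h3 := congrFun hθL 1
    simp only [Pi.smul_apply, smul_eq_mul, map_one, MulEquiv.coe_toMonoidHom, OneMemClass.coe_one]
      at h3
    rw [OneMemClass.coe_one, ← heq, CharInd.indFun_apply_one, hHindex, h3] at h1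
    rw [mul_assoc, h1]
  have hfg : f = s * g := by
    refine Nat.eq_of_mul_eq_mul_right (by omega : 0 < s) ?_
    rw [hfs, ← hng, ← hss]
    ring
  -- invariance of `η`
  have hηinv : ∀ (x : G) (k : K), η ⟨x * k * x⁻¹, hKn.conj_mem (k : G) k.2 x⟩ = η k := by
    intro x k
    refine mul_left_cancel₀ (Nat.cast_ne_zero.2 hf0 : (f : ℂ) ≠ 0) ?_
    have h1 := congrFun hχK k
    have h2 := congrFun hχK ⟨x * k * x⁻¹, hKn.conj_mem (k : G) k.2 x⟩
    simp only [Pi.smul_apply, smul_eq_mul] at h1 h2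
    rw [← h1, ← h2]
    exact hχcf (k : G) x
  obtain ⟨Γ, _, _, π, sec, τ, hπs, hπsec, hK0n, hτ, hτsec, hkerτ⟩ := exists_cover K hη hηinv
  have := Fintype.ofFinite Γ
  set K0 := sec.range with hK0
  set Hh := H.comap π with hHh
  set Uh := U.comap π with hUh
  set L1 := L.comap π ⊓ K0 with hL1
  have hL1n : L1.Normal := inferInstance
  have hsecinj : Function.Injective sec := fun a b hab =>
    Subtype.ext (by rw [← hπsec a, ← hπsec b, hab])
  let eK : K ≃* K0 := MonoidHom.ofInjective hsecinj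
  have hK0el : ∀ x ∈ K0, π x ∈ K ∧ ∀ h : π x ∈ K, τ x = η ⟨π x, h⟩ := by
    rintro _ ⟨k, rfl⟩
    refine ⟨(hπsec k).symm ▸ k.2, fun h => ?_⟩
    rw [hτsec]
    exact congrArg η (Subtype.ext (hπsec k).symm)
  have hL1K0 : ∀ x ∈ K0, π x ∈ H → x ∈ L1 := fun x hx hxH =>
    ⟨(show π x ∈ L from hinf.le ⟨(hK0el x hx).1, hxH⟩), hx⟩
  let r1 : L1 →* L := (π.comp L1.subtype).codRestrict L fun x => x.2.1
  have hr1 : Function.Bijective r1 := by
    refine ⟨fun a b hab => ?_, fun l => ⟨⟨sec ⟨l, hLK.le l.2⟩, ?_, ⟨_, rfl⟩⟩, Subtype.ext (hπsec _)⟩⟩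
    · obtain ⟨ka, hka⟩ := a.2.2
      obtain ⟨kb, hkb⟩ := b.2.2
      have h : π a = π b := congrArg Subtype.val hab
      rw [← hka, ← hkb, hπsec, hπsec] at h
      exact Subtype.ext (by rw [← hka, ← hkb, Subtype.ext h])
    · show π (sec ⟨l, hLK.le l.2⟩) ∈ L
      rw [hπsec]
      exact l.2
  have hτL1 : ∀ x : L1, τ x = (s : ℂ) * φ (r1 x) := fun x => by
    rw [(hK0el x x.2.2).2 (hLK.le x.2.1)]
    exact hηL (r1 x)
  have hτK0 : IsIrrCharacter K0 (fun x => τ x) := by
    convert CharCore.isIrrCharacter_comp_surjective hη eK.symm.toMonoidHom eK.symm.surjective using 1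
    funext x
    obtain ⟨k, rfl⟩ := eK.surjective x
    simp only [MulEquiv.coe_toMonoidHom, MulEquiv.symm_apply_apply]
    exact hτsec k
  -- Gallagher: `β`
  have hχh : IsIrrCharacter Γ (fun x => χ (π x)) :=
    CharCore.isIrrCharacter_comp_surjective hχ π hπs
  have hχh0 : classInner (fun x : K0 => χ (π x)) (fun x : K0 => τ x) = (f : ℂ) := by
    rw [← classInner_comp_surjective eK.toMonoidHom eK.surjective]
    have h1 : (fun k : K => χ (π (eK k : Γ))) = (f : ℂ) • η := by
      rw [← hχK]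
      exact funext fun k => congrArg χ (hπsec k)
    have h2 : (fun k : K => τ (eK k : Γ)) = η := funext hτsec
    show classInner (fun k : K => χ (π (eK k : Γ))) (fun k : K => τ (eK k : Γ)) = f
    rw [h1, h2, CharCore.classInner_smul_left, (CharCore.isIrrCharacter_iff.mp hη).2, mul_one]
  obtain ⟨β, hβ, hβinv, hβeq, hβavg⟩ := CharDeep.Ext.exists_gallagher hτ hτK0 hχh
    (by rw [hχh0]; exact Nat.cast_ne_zero.2 hf0)
  have hτ1 : τ 1 = (s : ℂ) * φ 1 := by
    have := hτL1 1
    rwa [map_one, OneMemClass.coe_one] at this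
  have hτ10 : τ 1 ≠ 0 := irr_ne_zero hτ
  have hβ1 : β 1 = (f : ℂ) := by
    have h1 : χ (π 1) = β 1 * τ 1 := congrFun hβeq 1
    rw [map_one, hd] at h1
    have h2 := hχLn 1
    rw [OneMemClass.coe_one, hd, ← hfs, Nat.cast_mul, mul_assoc, ← hτ1] at h2
    exact mul_right_cancel₀ hτ10 (h1.symm.trans h2)
  have hfd : f < d := by
    obtain ⟨m, hm1, hm⟩ := CharCore.IsIrrCharacter.exists_degree hφ
    have h2 := hχLn 1
    rw [OneMemClass.coe_one, hd, hm, ← hfs, ← Nat.cast_mul, Nat.cast_inj] at h2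
    have : f * 1 < f * s := Nat.mul_lt_mul_of_pos_left hs1 (Nat.pos_of_ne_zero hf0)
    have : f * s * 1 ≤ f * s * m := Nat.mul_le_mul_left _ hm1
    omega
  -- `β` is quasi-primitive
  set Kh := K.comap π with hKh
  have hK0Kh : K0 ≤ Kh := fun x hx => (hK0el x hx).1
  have hsolvK : Group.IsSolvable (Γ ⧸ Kh) := by
    have : Group.IsSolvable (G ⧸ K) :=
      have := hsolv
      Group.isSolvable_of_surjective
        (f := QuotientGroup.map L0 K (MonoidHom.id G) (hL0L.trans hLK.le))
        (fun q => by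
          obtain ⟨x, rfl⟩ := QuotientGroup.mk_surjective q
          exact ⟨(x : G ⧸ L0), rfl⟩)
    refine Group.isSolvable_of_isSolvable_injective (f := QuotientGroup.map Kh K π le_rfl) ?_
    rw [injective_iff_map_eq_one]
    intro q hq
    obtain ⟨x, rfl⟩ := QuotientGroup.mk_surjective q
    rw [QuotientGroup.map_mk, QuotientGroup.eq_one_iff] at hq
    exact (QuotientGroup.eq_one_iff x).2 hq
  have hqpβ : ∀ M : Subgroup Γ, M.Normal → Kh ≤ M → IsHomogOn β M := by
    intro M hM hKM
    set MG := M.map π with hMG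
    have hMGn : MG.Normal := hM.map π hπs
    obtain ⟨φM, eM, hφM, hχM⟩ := hqp MG hMGn ((hL0L.trans hLK.le).trans (fun k hk => by
      obtain ⟨x, rfl⟩ := hπs k
      exact ⟨x, hKM hk, rfl⟩))
    let πM : M →* MG := π.subgroupMap M
    have hψ : IsIrrCharacter M (fun x => φM (πM x)) :=
      CharCore.isIrrCharacter_comp_surjective hφM πM (π.subgroupMap_surjective M)
    have hK0M : K0 ≤ M := hK0Kh.trans hKM
    have hτKM : IsIrrCharacter (K0.subgroupOf M) (fun x : K0.subgroupOf M => τ ((x : M) : Γ)) := by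
      exact CharCore.isIrrCharacter_comp_surjective hτK0
        (Subgroup.subgroupOfEquivOfLe hK0M).toMonoidHom (Subgroup.subgroupOfEquivOfLe hK0M).surjective
    have hτM : IsIrrCharacter M (fun x => τ x) := CharDeep.Ext.isIrrCharacter_of_restrict
      (K0.subgroupOf M) (CharCore.isCharacter_restrict (CharCore.IsIrrCharacter.isCharacter hτ) M) hτKM
    have hχψ : ∀ x : M, χ (π x) = (eM : ℂ) * φM (πM x) := fun x => congrFun hχM (πM x)
    have hne : classInner (fun x : K0.subgroupOf M => φM (πM x))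
        (fun x : K0.subgroupOf M => τ ((x : M) : Γ)) ≠ 0 := by
      intro h0
      apply (Nat.cast_ne_zero (R := ℂ)).2 hf0
      rw [← hχh0, ← classInner_comp_surjective (Subgroup.subgroupOfEquivOfLe hK0M).toMonoidHom
        (Subgroup.subgroupOfEquivOfLe hK0M).surjective]
      show classInner (fun x : K0.subgroupOf M => χ (π ((x : M) : Γ)))
        (fun x : K0.subgroupOf M => τ ((x : M) : Γ)) = 0
      rw [show (fun x : K0.subgroupOf M => χ (π ((x : M) : Γ))) = (eM : ℂ) •
        (fun x : K0.subgroupOf M => φM (πM x)) from funext fun x => hχψ x,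
        CharCore.classInner_smul_left, h0, mul_zero]
    obtain ⟨γ, hγ, -, -, hγavg⟩ := CharDeep.Ext.exists_gallagher hτM hτKM hψ hne
    refine ⟨γ, eM, hγ, funext fun x => ?_⟩
    show β x = (eM : ℂ) * γ x
    rw [← hγavg, ← hβavg, ← avg_subgroupOf K0 hK0M, avg_apply, avg_apply]
    rw [mul_left_comm (eM : ℂ), Finset.mul_sum (a := (eM : ℂ))]
    congr 1
    refine Finset.sum_congr rfl fun y _ => ?_
    rw [hχψ, mul_assoc]
  -- work in the preimage of `H`
  have hL1H : L1 ≤ Hh := fun x hx => hLH hx.1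
  set LA := L1.subgroupOf Hh with hLA
  let πA : Hh →* H := (π.comp Hh.subtype).codRestrict H fun x => x.2
  have hπA : Function.Surjective πA := fun h => by
    obtain ⟨x, hx⟩ := hπs h
    exact ⟨⟨x, show π x ∈ H from hx.symm ▸ h.2⟩, Subtype.ext hx⟩
  let φA : LA → ℂ := fun x => φ (r1 (Subgroup.subgroupOfEquivOfLe hL1H x))
  have hφA : IsIrrCharacter LA φA := CharCore.isIrrCharacter_comp_surjective hφ
    (r1.comp (Subgroup.subgroupOfEquivOfLe hL1H).toMonoidHom)
    (hr1.2.comp (Subgroup.subgroupOfEquivOfLe hL1H).surjective)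
  have hθA : (fun x : LA => θ (πA x)) = (g : ℂ) • φA := by
    funext x
    exact congrFun hθL ⟨⟨π ((x : Hh) : Γ), hLH (Subgroup.mem_subgroupOf.1 x.2).1⟩,
      (Subgroup.mem_subgroupOf.1 x.2).1⟩
  have hτA : (fun x : LA => τ ((x : Hh) : Γ)) = (s : ℂ) • φA :=
    funext fun x => hτL1 (Subgroup.subgroupOfEquivOfLe hL1H x)
  have hθAc : IsCharacter Hh (fun x => θ (πA x)) := CharCore.isCharacter_comp hθc πA
  have hsupA : Hh ⊔ K0 = ⊤ := by
    rw [eq_top_iff]
    intro x _
    obtain ⟨k, hk, h, hh, hkh⟩ := hdecomp (π x)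
    rw [show x = sec ⟨k, hk⟩ * ((sec ⟨k, hk⟩)⁻¹ * x) by group]
    refine Subgroup.mul_mem _ (le_sup_right (a := Hh) ⟨_, rfl⟩) (le_sup_left (b := K0) ?_)
    show π ((sec ⟨k, hk⟩)⁻¹ * x) ∈ H
    rw [map_mul, map_inv, hπsec, ← hkh, inv_mul_cancel_left]
    exact hh
  have hβA : IsIrrCharacter Hh (fun x => β x) := by
    refine CharCore.isIrrCharacter_iff.2
      ⟨CharCore.isCharacter_restrict (CharCore.IsIrrCharacter.isCharacter hβ) Hh, ?_⟩
    have hbb : IsClassFunction Γ (fun x => β x * conj (β x)) := fun x y => by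
      simp only [CharCore.IsCharacter.isClassFunction (CharCore.IsIrrCharacter.isCharacter hβ) x y]
    rw [← classInner_mul_conj_one, ← CharInd.classInner_indFun_right Hh (fun _ => (1 : ℂ)) hbb,
      ← CharCore.conj_classInner,
      ← CharDeep.Ext.classInner_avg K0 (fun m y => by simp only [hβinv]),
      avg_indFun_one K0 Hh hsupA, CharCore.conj_classInner]
    show classInner (fun x => β x * conj (β x)) (fun _ => 1) = 1
    rw [classInner_mul_conj_one]
    exact (CharCore.isIrrCharacter_iff.mp hβ).2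
  set τA : Hh → ℂ := fun x => τ x with hτAdef
  have hτAc : IsCharacter Hh τA :=
    CharCore.isCharacter_restrict (CharCore.IsIrrCharacter.isCharacter hτ) Hh
  have hpair : ∀ γ : Hh → ℂ, IsCharacter Hh γ →
      IsCharacter Hh (avg LA (fun x => θ (πA x) * conj (γ x))) := fun γ hγ =>
    CharDeep.Ext.isCharacter_avg LA (CharCore.isCharacter_mul hθAc (CharCore.IsCharacter.star hγ))
  have hpair1 : ∀ (γ : Hh → ℂ) (c : ℕ), (fun x : LA => γ x) = (c : ℂ) • φA →
      avg LA (fun x => θ (πA x) * conj (γ x)) 1 = ((g * c : ℕ) : ℂ) := by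
    intro γ c hc
    rw [CharDeep.Ext.avg_one, ← classInner_smul_smul hφA g c, ← hθA, ← hc]
    exact classInner_mul_conj_one _ _
  have hω : avg LA (fun x => θ (πA x) * conj (τA x)) = fun x : Hh => β x := by
    refine eq_of_inner_one (hpair τA hτAc) hβA ?_ ?_
    · rw [CharDeep.Ext.classInner_avg LA (fun m y => by
        simp only [Subgroup.coe_mul]
        exact hβinv ⟨_, (Subgroup.mem_subgroupOf.1 m.2).2⟩ _)]
      have h1 : classInner (fun x : Hh => θ (πA x)) (fun x : Hh => χ (π x)) = 1 := by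
        show classInner (fun x : Hh => θ (πA x)) (fun x : Hh => χ (πA x : G)) = 1
        rw [classInner_comp_surjective πA hπA θ (fun h : H => χ h),
          ← CharInd.classInner_indFun_left H θ hχcf, heq]
        exact (CharCore.isIrrCharacter_iff.mp hχ).2
      refine Eq.trans ?_ h1
      simp only [CharCore.classInner_def]
      congr 1
      refine Finset.sum_congr rfl fun x _ => ?_
      rw [show χ (π (x : Γ)) = β x * τ x from congrFun hβeq x, map_mul]
      ring
    · rw [hpair1 τA s hτA]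
      simp only [OneMemClass.coe_one, hβ1, hfg, mul_comm]
  -- `τ` is irreducible on the preimage of `H`
  have hτAirr : IsIrrCharacter Hh τA := by
    obtain ⟨m, hm⟩ := CharCore.IsCharacter.exists_sum hτAc
    choose a ha using fun γ : IrrCharacter Hh => CharCore.IsCharacter.exists_sum
      (hpair γ (CharCore.irr_isCharacter γ))
    set ω : IrrCharacter Hh := ⟨_, hβA⟩
    have hexp : (fun x : Hh => β x) =
        ∑ γ : IrrCharacter Hh, (m γ : ℂ) • avg LA (fun x => θ (πA x) * conj ((γ : Hh → ℂ) x)) := by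
      rw [← hω]
      simp only [← CharDeep.Ext.avg_smul, ← CharDeep.Ext.avg_sum]
      congr 1
      funext x
      rw [hm]
      simp only [Finset.sum_apply, Pi.smul_apply, smul_eq_mul, map_sum, map_mul, map_natCast,
        Finset.mul_sum]
      exact Finset.sum_congr rfl fun γ _ => by ring
    have hcoef : ∀ ψ : IrrCharacter Hh, ∑ γ, m γ * a γ ψ = if ψ = ω then 1 else 0 := by
      intro ψ
      apply Nat.cast_injective (R := ℂ)
      have h1 : classInner (fun x : Hh => β x) (ψ : Hh → ℂ) = ((if ψ = ω then 1 else 0 : ℕ) : ℂ) := by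
        split_ifs with h
        · rw [h, Nat.cast_one]
          exact (CharCore.isIrrCharacter_iff.mp hβA).2
        · rw [Nat.cast_zero]
          exact CharCore.classInner_irr_of_ne (χ := ω) (ψ := ψ) fun h' => h h'.symm
      rw [← h1, hexp, CharCore.classInner_sum_left, Nat.cast_sum]
      refine Finset.sum_congr rfl fun γ _ => ?_
      rw [CharCore.classInner_smul_left, ha γ, CharCore.classInner_sum_all, Nat.cast_mul]
    have haω : ∀ γ, m γ ≠ 0 → 1 ≤ a γ ω := by
      intro γ hγ
      obtain ⟨c, hc0, hc⟩ := restrict_of_constituent LA hτAc hφA (e := s) hτA γ.2 (by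
        rw [hm, CharCore.classInner_sum_all]
        exact Nat.cast_ne_zero.2 hγ)
      obtain ⟨ψ, hψ⟩ : ∃ ψ, a γ ψ ≠ 0 := by
        by_contra hall
        push Not at hall
        have h := hpair1 γ c hc
        rw [ha γ] at h
        simp only [hall, Nat.cast_zero, zero_smul, Finset.sum_const_zero, Pi.zero_apply] at h
        exact mul_ne_zero hg0 hc0 (by exact_mod_cast h.symm)
      have h := hcoef ψ
      split_ifs at h with hψω
      · exact hψω ▸ Nat.one_le_iff_ne_zero.2 hψ
      · exact absurd (Finset.sum_eq_zero_iff.1 h γ (Finset.mem_univ _)) (mul_ne_zero hγ hψ)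
    have hsum : ∑ γ, m γ ≤ 1 := by
      have h := hcoef ω
      rw [if_pos rfl] at h
      refine le_of_le_of_eq (Finset.sum_le_sum fun γ _ => ?_) h
      rcases Nat.eq_zero_or_pos (m γ) with h0 | h0
      · rw [h0, zero_mul]
      · exact Nat.le_mul_of_pos_right _ (haω γ h0.ne')
    obtain ⟨γ0, hγ0⟩ : ∃ γ, m γ ≠ 0 := by
      by_contra hall
      push Not at hall
      have h := congrFun hm 1
      simp only [hall, Nat.cast_zero, zero_smul, Finset.sum_const_zero, Pi.zero_apply, hτAdef,
        OneMemClass.coe_one] at h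
      exact hτ10 h
    rw [← Finset.add_sum_erase Finset.univ m (Finset.mem_univ γ0)] at hsum
    have hz : ∑ γ ∈ Finset.univ.erase γ0, m γ = 0 := by omega
    have hm1 : m γ0 = 1 := by omega
    convert γ0.2
    rw [hm, Finset.sum_eq_single γ0 (fun γ _ hγ => by
      rw [Finset.sum_eq_zero_iff.1 hz γ (Finset.mem_erase.2 ⟨hγ, Finset.mem_univ _⟩),
        Nat.cast_zero, zero_smul]) (fun h => absurd (Finset.mem_univ _) h), hm1, Nat.cast_one,
      one_smul]
  -- Clifford theory along `U`
  have hUHh : Uh ≤ Hh := Subgroup.comap_mono hUH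
  set UA := Uh.subgroupOf Hh with hUA
  have hUAn : UA.Normal := ⟨fun u hu a => by
    rw [Subgroup.mem_subgroupOf] at hu ⊢
    show π ((a : Γ) * (u : Γ) * (a : Γ)⁻¹) ∈ U
    rw [map_mul, map_mul, map_inv]
    exact hUnorm _ a.2 _ hu⟩
  obtain ⟨ψ0, hψ0⟩ := exists_constituent
    (CharCore.isCharacter_restrict hτAc UA) (show τA ((1 : UA) : Hh) ≠ 0 from hτ10)
  set TA := CharDeep.Ext.inertia UA (ψ0 : UA → ℂ) with hTA
  have hUTA : UA ≤ TA := CharDeep.Ext.le_inertia UA (CharCore.irr_isClassFunction ψ0)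
  have hL1U : L1 ≤ Uh := fun x hx => hLU.le hx.1
  by_cases hTtop : TA = ⊤
  · -- homogeneous: then `K` normalises `U`
    have hinvU : ∀ (a : Hh) (u : UA), (ψ0 : UA → ℂ) ⟨a * u * a⁻¹, hUAn.conj_mem (u : Hh) u.2 a⟩
        = (ψ0 : UA → ℂ) u := fun a u =>
      congrFun (show CharDeep.Ext.conjFn UA (ψ0 : UA → ℂ) a = _ from
        (hTtop ▸ Subgroup.mem_top a : a ∈ TA)) u
    obtain ⟨m, hm⟩ := CharCore.IsCharacter.exists_classInner_irr_eq_natCast
      (CharCore.isCharacter_restrict hτAc UA) ψ0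
    have hres := CharDeep.Ext.restrict_eq_smul UA hinvU ψ0.2 hτAirr hψ0
    rw [hm] at hres
    let eU : Uh ≃* UA := (Subgroup.subgroupOfEquivOfLe hUHh).symm
    set ψ : Uh → ℂ := fun x => (ψ0 : UA → ℂ) (eU x) with hψdef
    have hψirr : IsIrrCharacter Uh ψ :=
      CharCore.isIrrCharacter_comp_surjective ψ0.2 eU.toMonoidHom eU.surjective
    have hτU : ∀ x : Uh, τ x = (m : ℂ) * ψ x := fun x => congrFun hres (eU x)
    set NU := (L.comap π).subgroupOf Uh with hNU
    let rN : NU →* L := (π.comp (Uh.subtype.comp NU.subtype)).codRestrict L fun x =>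
      Subgroup.mem_subgroupOf.1 x.2
    have hrN : Function.Surjective rN := fun l => by
      obtain ⟨x, hx⟩ := hπs (l : G)
      have h1 : π x ∈ L := hx.symm ▸ l.2
      exact ⟨⟨⟨x, hLU.le h1⟩, Subgroup.mem_subgroupOf.2 h1⟩, Subtype.ext hx⟩
    -- the norm of `τ` on `NU`
    have hnormN : classInner (fun x : NU => τ ((x : Uh) : Γ)) (fun x : NU => τ ((x : Uh) : Γ))
        = ((s * s : ℕ) : ℂ) := by
      have h1 : ∀ x : NU, τ ((x : Uh) : Γ) * conj (τ ((x : Uh) : Γ))
          = η (Subgroup.inclusion hLK.le (rN x)) * conj (η (Subgroup.inclusion hLK.le (rN x))) := by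
        intro x
        set k := Subgroup.inclusion hLK.le (rN x)
        obtain ⟨c, hc1, hc⟩ := hkerτ (((x : Uh) : Γ) * (sec k)⁻¹) (by
          rw [map_mul, map_inv, hπsec]
          exact mul_inv_cancel _)
        have h2 := hc (sec k)
        rw [inv_mul_cancel_right, hτsec] at h2
        rw [h2, map_mul, mul_mul_mul_comm, Complex.mul_conj' c, hc1]
        simp
      rw [← classInner_smul_smul hφ s s,
        show (s : ℂ) • φ = fun l : L => η (Subgroup.inclusion hLK.le l) from
          funext fun l => (hηL l).symm,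
        ← classInner_mul_conj_one (fun l : L => η (Subgroup.inclusion hLK.le l)),
        ← classInner_comp_surjective rN hrN
          (fun l : L => η (Subgroup.inclusion hLK.le l) * conj (η (Subgroup.inclusion hLK.le l)))
          (fun _ => (1 : ℂ))]
      refine (classInner_mul_conj_one _ _).symm.trans ?_
      congr 1
      exact funext h1
    -- a constituent of degree `φ 1`
    obtain ⟨ϑ, hϑ⟩ := exists_constituent
      (CharCore.isCharacter_restrict (CharCore.IsIrrCharacter.isCharacter hψirr) NU)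
      (show ψ ((1 : NU) : Uh) ≠ 0 from irr_ne_zero hψirr)
    have hm0 : m ≠ 0 := fun h => hψ0 (by rw [hm, h, Nat.cast_zero])
    have hfN : IsCharacter NU (fun x : NU => τ ((x : Uh) : Γ)) :=
      CharCore.isCharacter_restrict
        (CharCore.isCharacter_restrict (CharCore.IsIrrCharacter.isCharacter hτ) Uh) NU
    obtain ⟨μ, hμ⟩ := CharCore.IsCharacter.exists_sum hfN
    have hμϑ : μ ϑ ≠ 0 := by
      intro h0
      have h1 : classInner (fun x : NU => τ ((x : Uh) : Γ)) (ϑ : NU → ℂ) = 0 := by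
        rw [hμ, CharCore.classInner_sum_all, h0, Nat.cast_zero]
      rw [show (fun x : NU => τ ((x : Uh) : Γ)) = (m : ℂ) • (fun x : NU => ψ x) from
        funext fun x => hτU x, CharCore.classInner_smul_left, mul_eq_zero] at h1
      exact h1.elim (Nat.cast_ne_zero.2 hm0) hϑ
    set LN := L1.subgroupOf Uh |>.subgroupOf NU with hLN
    have hLNle : L1.subgroupOf Uh ≤ NU := fun x hx => (Subgroup.mem_subgroupOf.1 hx).1
    let eLN : LN ≃* L1 :=
      (Subgroup.subgroupOfEquivOfLe hLNle).trans (Subgroup.subgroupOfEquivOfLe hL1U)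
    have hφN : IsIrrCharacter LN (fun x => φ (r1 (eLN x))) :=
      CharCore.isIrrCharacter_comp_surjective hφ (r1.comp eLN.toMonoidHom)
        (hr1.2.comp eLN.surjective)
    have hτLN : (fun x : LN => τ (((x : NU) : Uh) : Γ)) = (s : ℂ) • fun x : LN => φ (r1 (eLN x)) :=
      funext fun x => hτL1 (eLN x)
    choose j hj0 hj using fun (ψ' : IrrCharacter NU) (h : μ ψ' ≠ 0) =>
      restrict_of_constituent LN hfN hφN (e := s) hτLN ψ'.2
        (by rw [hμ, CharCore.classInner_sum_all]; exact Nat.cast_ne_zero.2 h)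
    let jj : IrrCharacter NU → ℕ := fun ψ' => if h : μ ψ' ≠ 0 then j ψ' h else 0
    have hjj : ∀ ψ', (μ ψ' : ℂ) * (ψ' : NU → ℂ) 1 = (μ ψ' : ℂ) * (jj ψ' * φ 1) := by
      intro ψ'
      by_cases h : μ ψ' = 0
      · rw [h, Nat.cast_zero, zero_mul, zero_mul]
      · have h1 := congrFun (hj ψ' h) 1
        simp only [Pi.smul_apply, smul_eq_mul, map_one, OneMemClass.coe_one] at h1
        rw [h1]
        simp only [jj, dif_pos h]
    have hμj : ∑ ψ', μ ψ' * jj ψ' = s := by
      apply Nat.cast_injective (R := ℂ)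
      refine mul_right_cancel₀ (irr_ne_zero hφ) ?_
      push_cast
      rw [Finset.sum_mul, ← hτ1]
      have h1 := congrFun hμ 1
      simp only [OneMemClass.coe_one, Finset.sum_apply, Pi.smul_apply, smul_eq_mul] at h1
      rw [h1]
      exact Finset.sum_congr rfl fun ψ' _ => by rw [hjj, mul_assoc]
    have hμsq : ∑ ψ', μ ψ' * μ ψ' = s * s := by
      apply Nat.cast_injective (R := ℂ)
      rw [← hnormN, hμ, CharCore.classInner_sum_sum]
      simp only [map_natCast]
      push_cast
      rfl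
    have hj1 : jj ϑ = 1 := by
      by_contra hne1
      have hμle : ∀ ψ', μ ψ' ≤ μ ψ' * jj ψ' := fun ψ' => by
        by_cases h : μ ψ' = 0
        · rw [h, zero_mul]
        · exact Nat.le_mul_of_pos_right _ (by
            simp only [jj, dif_pos h]
            exact Nat.pos_of_ne_zero (hj0 ψ' h))
      have hjpos : 0 < jj ϑ := by
        simp only [jj, dif_pos hμϑ]
        exact Nat.pos_of_ne_zero (hj0 ϑ hμϑ)
      have hlt : ∑ ψ', μ ψ' < s := hμj ▸ Finset.sum_lt_sum (fun ψ' _ => hμle ψ')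
        ⟨ϑ, Finset.mem_univ _, by
          have : μ ϑ * 2 ≤ μ ϑ * jj ϑ := Nat.mul_le_mul_left _ (by omega)
          omega⟩
      have hle : ∑ ψ', μ ψ' * μ ψ' ≤ (∑ ψ', μ ψ') * ∑ ψ', μ ψ' := by
        rw [Finset.sum_mul]
        exact Finset.sum_le_sum fun ψ' _ => Nat.mul_le_mul_left _
          (Finset.single_le_sum (fun _ _ => Nat.zero_le _) (Finset.mem_univ ψ'))
      have : (∑ ψ', μ ψ') * ∑ ψ', μ ψ' < s * s := Nat.mul_lt_mul'' hlt hlt
      omega
    obtain ⟨d1, hd1pos, hd1⟩ := CharCore.IsIrrCharacter.exists_degree hφ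
    obtain ⟨c1, hc1pos, hc1⟩ := CharCore.IsIrrCharacter.exists_degree hψirr
    have hϑ1 : (ϑ : NU → ℂ) 1 = (d1 : ℂ) := by
      have := mul_left_cancel₀ (Nat.cast_ne_zero.2 hμϑ) (hjj ϑ)
      rw [this, hj1, Nat.cast_one, one_mul, hd1]
    obtain ⟨⟨b, hb⟩, hbdvd⟩ := degree_dvd NU hψirr ϑ.2 hϑ hc1 hϑ1
    have hbidx : b ∣ L.relIndex U := by
      rw [hb, Nat.mul_div_cancel_left _ hd1pos] at hbdvd
      have : NU.index = L.relIndex U := by
        show (L.comap π).relIndex (U.comap π) = _
        rw [Subgroup.relIndex_comap, Subgroup.map_comap_eq_self_of_surjective hπs]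
      rwa [this] at hbdvd
    have hmb : m * b = s := by
      apply Nat.cast_injective (R := ℂ)
      refine mul_right_cancel₀ (irr_ne_zero hφ) ?_
      rw [← hτ1]
      have h1 := hτU 1
      rw [OneMemClass.coe_one] at h1
      rw [h1, hc1, hb, hd1]
      push_cast
      ring
    have hb1 : b = 1 := Nat.eq_one_of_dvd_coprimes hcop
      ((dvd_mul_left b m).trans (hmb ▸ (dvd_mul_right s s).trans hss.dvd)) hbidx
    rw [hb1, mul_one] at hmb
    subst hmb
    have hψL : ∀ x : L1.subgroupOf Uh,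
        ψ x = φ (r1 (Subgroup.subgroupOfEquivOfLe hL1U x)) := fun x => by
      refine mul_left_cancel₀ (Nat.cast_ne_zero.2 hm0 : (m : ℂ) ≠ 0) ?_
      rw [← hτU]
      exact hτL1 (Subgroup.subgroupOfEquivOfLe hL1U x)
    -- apply the norm criterion in `Uh ⊔ K0`
    set V := Uh ⊔ K0 with hV
    set UV := Uh.subgroupOf V with hUV
    let eV : UV ≃* Uh := Subgroup.subgroupOfEquivOfLe le_sup_left
    have hψV : IsIrrCharacter UV (fun x => ψ (eV x)) :=
      CharCore.isIrrCharacter_comp_surjective hψirr eV.toMonoidHom eV.surjective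
    have hL1V : L1.subgroupOf V ≤ UV := fun x hx => Subgroup.mem_subgroupOf.2
      (hL1U (Subgroup.mem_subgroupOf.1 hx))
    have hψVN : IsIrrCharacter ((L1.subgroupOf V).subgroupOf UV) (fun x => ψ (eV x)) := by
      let eN : (L1.subgroupOf V).subgroupOf UV ≃* L1 :=
        (Subgroup.subgroupOfEquivOfLe hL1V).trans
          (Subgroup.subgroupOfEquivOfLe (hL1U.trans le_sup_left))
      convert CharCore.isIrrCharacter_comp_surjective hφ (r1.comp eN.toMonoidHom)
        (hr1.2.comp eN.surjective) using 1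
      funext x
      exact hψL ⟨eV x, Subgroup.mem_subgroupOf.2 (Subgroup.mem_subgroupOf.1
        (Subgroup.mem_subgroupOf.1 x.2))⟩
    have hτV : IsIrrCharacter V (fun x => τ x) := by
      refine CharDeep.Ext.isIrrCharacter_of_restrict (K0.subgroupOf V)
        (CharCore.isCharacter_restrict (CharCore.IsIrrCharacter.isCharacter hτ) V) ?_
      let eK0 : K0.subgroupOf V ≃* K0 := Subgroup.subgroupOfEquivOfLe le_sup_right
      exact CharCore.isIrrCharacter_comp_surjective hτK0 eK0.toMonoidHom eK0.surjective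
    have hidx : m * m = UV.index := by
      rw [hss]
      show n = Uh.relIndex V
      have hinf0 : K0 ⊓ Uh = L1 := le_antisymm
        (fun x hx => hL1K0 x hx.1 (hUH hx.2)) (fun x hx => ⟨hx.2, hL1U hx⟩)
      have h1 : Nat.card Uh * Uh.relIndex V = Nat.card V := by
        rw [← Subgroup.relIndex_bot_left, ← Subgroup.relIndex_bot_left,
          Subgroup.relIndex_mul_relIndex ⊥ Uh V bot_le le_sup_left]
      have h2 : Nat.card K0 * K0.relIndex Uh = Nat.card V := by
        rw [show K0.relIndex Uh = K0.relIndex V by rw [hV, sup_comm, Subgroup.relIndex_sup_left],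
          ← Subgroup.relIndex_bot_left, ← Subgroup.relIndex_bot_left,
          Subgroup.relIndex_mul_relIndex ⊥ K0 V bot_le le_sup_right]
      have h3 : Nat.card L1 * K0.relIndex Uh = Nat.card Uh := by
        rw [← Subgroup.inf_relIndex_right K0 Uh, hinf0, ← Subgroup.relIndex_bot_left,
          ← Subgroup.relIndex_bot_left, Subgroup.relIndex_mul_relIndex ⊥ L1 Uh bot_le hL1U]
      refine Nat.eq_of_mul_eq_mul_left (Nat.card_pos (α := Uh)) ?_
      rw [h1, ← h2, ← h3, Nat.card_congr eK.symm.toEquiv, ← hKcard,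
        Nat.card_congr (Equiv.ofBijective r1 hr1)]
      ring
    have hfus := conj_mem_of_norm (L1.subgroupOf V) UV hL1V hψV hψVN hτV (s := m) ?_ hidx
    swap
    · rw [CharInd.classInner_indFun_left UV _
        (CharCore.IsCharacter.isClassFunction (CharCore.IsIrrCharacter.isCharacter hτV)),
        show (fun h : UV => τ ((h : V) : Γ)) = (m : ℂ) • fun x => ψ (eV x) from
          funext fun x => hτU (eV x),
        CharCore.classInner_smul_right, (CharCore.isIrrCharacter_iff.mp hψV).2, map_natCast,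
        mul_one]
    have hUn : U.Normal := ⟨fun u hu x => by
      obtain ⟨k, hk, h, hh, rfl⟩ := hdecomp x
      have h1 := hUnorm h hh u hu
      obtain ⟨y, hy⟩ := hπs (h * u * h⁻¹)
      have hyU : y ∈ Uh := show π y ∈ U from hy.symm ▸ h1
      have h2 : π (((sec ⟨k, hk⟩)⁻¹)⁻¹ * y * (sec ⟨k, hk⟩)⁻¹) ∈ U := Subgroup.mem_subgroupOf.1
        (hfus ⟨_, le_sup_right (a := Uh) (K0.inv_mem ⟨_, rfl⟩)⟩ ⟨y, le_sup_left (b := K0) hyU⟩
          (Subgroup.mem_subgroupOf.2 hyU))
      simp only [map_mul, map_inv, hπsec, hy, inv_inv] at h2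
      rw [show k * h * u * (k * h)⁻¹ = k * (h * u * h⁻¹) * k⁻¹ by group]
      exact h2⟩
    exact hLU.not_ge (Subgroup.normal_le_normalCore.2 hUH)
  · -- inhomogeneous: `β` is induced
    obtain ⟨ν, hν, hνind, -⟩ := CharDeep.Ext.exists_inertia_induced UA ψ0.2 TA
      (fun a => funext_iff) hUTA hτAirr hψ0
    have hLTA : LA ≤ TA := (Subgroup.comap_mono hL1U).trans hUTA
    set ω' := avg (LA.subgroupOf TA)
      (fun t : TA => conj (ν t) * θ (πA t)) with hω'
    have hω'c : IsCharacter TA ω' := CharDeep.Ext.isCharacter_avg _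
      (CharCore.isCharacter_mul (CharCore.IsCharacter.star (CharCore.IsIrrCharacter.isCharacter hν))
        (CharCore.isCharacter_comp hθc (πA.comp TA.subtype)))
    have hindA : indFun TA ω' = fun x : Hh => β x := by
      rw [← hω, hω', ← avg_indFun LA hLTA, ← CharInd.indFun_mul TA _
        (CharCore.IsCharacter.isClassFunction hθAc), indFun_conj, hνind]
      congr 1
      funext x
      exact mul_comm _ _
    set T := TA.map Hh.subtype with hT
    set eT := TA.equivMapOfInjective Hh.subtype Hh.subtype_injective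
    set T' := T ⊔ K0 with hT'
    have hTT' : T ≤ T' := le_sup_left
    have hK0T' : K0 ≤ T' := le_sup_right
    have hFc : IsCharacter T' (avg (K0.subgroupOf T') (indFun (T.subgroupOf T')
        (fun x => ω' (eT.symm (Subgroup.subgroupOfEquivOfLe hTT' x))))) :=
      CharDeep.Ext.isCharacter_avg _ (CharInd.isCharacter_indFun _
        (CharCore.isCharacter_comp hω'c
          (eT.symm.toMonoidHom.comp (Subgroup.subgroupOfEquivOfLe hTT').toMonoidHom)))
    have hTne : T' ≠ ⊤ := by
      intro htop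
      refine hTtop (eq_top_iff.2 fun a _ => ?_)
      obtain ⟨t, ht, k, hk, htk⟩ := Subgroup.mem_sup_of_normal_right.1
        (htop.ge (Subgroup.mem_top (a : Γ)) : (a : Γ) ∈ T ⊔ K0)
      obtain ⟨t', ht', rfl⟩ := ht
      have hkH : π k ∈ H := by
        have : k = (t' : Γ)⁻¹ * (a : Γ) := by rw [← htk]; exact (inv_mul_cancel_left _ _).symm
        rw [this, map_mul, map_inv]
        exact H.mul_mem (H.inv_mem t'.2) a.2
      have hkT : (⟨k, hkH⟩ : Hh) ∈ TA :=
        hLTA (Subgroup.mem_subgroupOf.2 (hL1K0 k hk hkH))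
      rw [show a = t' * ⟨k, hkH⟩ from Subtype.ext htk.symm]
      exact TA.mul_mem ht' hkT
    have hKT' : Kh ≤ T' := fun x hx => by
      have hz : x * (sec ⟨π x, hx⟩)⁻¹ ∈ Uh := by
        show π (x * (sec ⟨π x, hx⟩)⁻¹) ∈ U
        rw [map_mul, map_inv, hπsec, mul_inv_cancel]
        exact U.one_mem
      rw [show x = x * (sec ⟨π x, hx⟩)⁻¹ * sec ⟨π x, hx⟩ by group]
      exact T'.mul_mem (hTT' ⟨⟨_, hUHh hz⟩, hUTA (Subgroup.mem_subgroupOf.2 hz), rfl⟩)
        (hK0T' ⟨_, rfl⟩)
    refine IH f hfd Kh hsolvK β hβ hβ1 hqpβ T' hKT' hTne _ hFc ?_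
    rw [← avg_indFun K0 hK0T', CharDeep.Ext.indFun_of_le hTT' (fun x => ω' (eT.symm x)),
      ← CharInd.indFun_indFun Hh TA ω', hindA,
      show (fun x : Hh => β x) = fun x : Hh => (1 : ℂ) * β x from funext fun x => (one_mul _).symm,
      ← CharInd.indFun_mul Hh (fun _ => (1 : ℂ))
        (CharCore.IsCharacter.isClassFunction (CharCore.IsIrrCharacter.isCharacter hβ))]
    funext x
    rw [avg_apply]
    simp only [Pi.mul_apply, hβinv, ← Finset.sum_mul]
    rw [← mul_assoc, ← avg_apply, avg_indFun_one K0 Hh hsupA, Pi.one_apply, one_mul]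

end Cfsg.Agent.CharB
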