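import Cfsg.Agent.CharDeep.Ext.Inertia
import Cfsg.Agent.CharDeep.Ext.Main
import Cfsg.Agent.Lib.Solvable.Basic
import Cfsg.Agent.Lib.PGroup.Basic

/-!
Auxiliary results for the theorem that quasi-primitive characters of solvable groups are primitive:
averaging and induction, a norm criterion, and a pair of chief factors.
-/

set_option autoImplicit false

open Cfsg
open scoped ComplexConjugate

namespace Cfsg.Agent.CharB

open Cfsg.Agent.CharDeep.Ext (avg avg_apply)

universe u

variable {G : Type u} [Group G] [Fintype G]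

theorem classInner_comp_surjective {H : Type*} [Group H] [Fintype H] (f : H →* G)
    (hf : Function.Surjective f) (a b : G → ℂ) :
    classInner (fun h => a (f h)) (fun h => b (f h)) = classInner a b := by
  classical
  set c := (Finset.univ.filter fun h => f h = 1).card with hc
  have hfib : ∀ g, (Finset.univ.filter fun h => f h = g).card = c := fun g =>
    MonoidHom.card_fiber_eq_of_mem_range f (hf g) ⟨1, map_one f⟩
  have hsum : ∀ F : G → ℂ, ∑ h : H, F (f h) = (c : ℂ) * ∑ g : G, F g := by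
    intro F
    rw [← Finset.sum_fiberwise Finset.univ f, Finset.mul_sum]
    refine Finset.sum_congr rfl fun g _ => ?_
    rw [Finset.sum_congr rfl (g := fun _ => F g) (fun h hh => by rw [(Finset.mem_filter.1 hh).2]),
      Finset.sum_const, hfib, nsmul_eq_mul]
  have hcard : (Nat.card H : ℂ) = (c : ℂ) * Nat.card G := by
    have := hsum fun _ => 1
    simpa using this
  have hc0 : (c : ℂ) ≠ 0 := fun h => by
    rw [h, zero_mul] at hcard
    exact (Nat.cast_ne_zero.2 Nat.card_pos.ne') hcard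
  rw [CharCore.classInner_def, CharCore.classInner_def, hcard,
    hsum fun g => a g * conj (b g)]
  field_simp

theorem exists_constituent {f : G → ℂ} (hf : IsCharacter G f) (h1 : f 1 ≠ 0) :
    ∃ ψ : IrrCharacter G, classInner f (ψ : G → ℂ) ≠ 0 := by
  by_contra hcon
  push Not at hcon
  refine h1 ?_
  rw [CharCore.IsCharacter.eq_sum_classInner hf, Finset.sum_apply]
  exact Finset.sum_eq_zero fun ψ _ => by simp [hcon ψ]

/-- A character containing an irreducible character of the same degree is that character. -/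
theorem eq_of_inner_one {f ψ : G → ℂ} (hf : IsCharacter G f) (hψ : IsIrrCharacter G ψ)
    (h : classInner f ψ = 1) (hdeg : f 1 = ψ 1) : f = ψ := by
  classical
  set ψ' : IrrCharacter G := ⟨ψ, hψ⟩
  obtain ⟨m, hm⟩ := CharCore.IsCharacter.exists_sum hf
  choose d hd1 hd using fun χ : IrrCharacter G => CharCore.IsIrrCharacter.exists_degree χ.2
  have hmψ : m ψ' = 1 := by
    rw [hm, show classInner _ ψ = _ from CharCore.classInner_sum_all _ ψ'] at h
    exact_mod_cast h
  have h1 : ∑ χ, m χ * d χ = d ψ' := by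
    apply Nat.cast_injective (R := ℂ)
    push_cast
    rw [← hd ψ', show ((ψ' : G → ℂ)) 1 = ψ 1 from rfl, ← hdeg, hm, Finset.sum_apply]
    exact Finset.sum_congr rfl fun χ _ => by rw [Pi.smul_apply, smul_eq_mul, hd]
  rw [← Finset.add_sum_erase Finset.univ _ (Finset.mem_univ ψ'), hmψ, one_mul,
    Nat.add_eq_left] at h1
  rw [hm, Finset.sum_eq_single ψ' (fun χ _ hχ => ?_) (fun h => absurd (Finset.mem_univ _) h),
    hmψ, Nat.cast_one, one_smul]
  have := Finset.sum_eq_zero_iff.1 h1 χ (Finset.mem_erase.2 ⟨hχ, Finset.mem_univ _⟩)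
  rcases Nat.mul_eq_zero.1 this with h2 | h2
  · rw [h2, Nat.cast_zero, zero_smul]
  · exact absurd h2 (hd1 χ).ne'

/-- Conjugation commutes with induction. -/
theorem indFun_conj (H : Subgroup G) (θ : H → ℂ) :
    indFun H (fun h => conj (θ h)) = fun g => conj (indFun H θ g) := by
  funext g
  simp only [CharInd.indFun_apply, map_mul, map_inv₀, map_natCast, map_sum]
  congr 1
  refine Finset.sum_congr rfl fun x _ => ?_
  by_cases hx : x⁻¹ * g * x ∈ H
  · rw [CharInd.extendByZero_mem _ hx, CharInd.extendByZero_mem _ hx]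
  · rw [CharInd.extendByZero_notMem _ hx, CharInd.extendByZero_notMem _ hx, map_zero]

section Avg

variable (N : Subgroup G) [hN : N.Normal] [Fintype N]

omit [Fintype G] hN in
theorem avg_subgroupOf {M : Subgroup G} (hNM : N ≤ M) [Fintype (N.subgroupOf M)] (f : G → ℂ)
    (x : M) : avg (N.subgroupOf M) (fun y : M => f y) x = avg N f x := by
  rw [avg_apply, avg_apply, Nat.card_congr (Subgroup.subgroupOfEquivOfLe hNM).toEquiv]
  congr 1
  exact Fintype.sum_equiv (Subgroup.subgroupOfEquivOfLe hNM).toEquiv _ _ fun n => rfl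

/-- Averaging commutes with induction from an overgroup. -/
theorem avg_indFun {H : Subgroup G} (hNH : N ≤ H) [Fintype (N.subgroupOf H)] (f : H → ℂ) :
    avg N (indFun H f) = indFun H (avg (N.subgroupOf H) f) := by
  funext g
  simp only [avg_apply, CharInd.indFun_apply]
  rw [← Finset.mul_sum, Finset.sum_comm, mul_left_comm, Finset.mul_sum (a := (Nat.card N : ℂ)⁻¹)]
  congr 1
  refine Finset.sum_congr rfl fun x _ => ?_
  have h1 : ∑ n : N, extendByZero H f (x⁻¹ * ((n : G) * g) * x)
      = ∑ n : N, extendByZero H f ((n : G) * (x⁻¹ * g * x)) := by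
    refine Fintype.sum_equiv (MulAut.conjNormal x⁻¹ : MulAut N).toEquiv _ _ fun n => ?_
    show _ = extendByZero H f (((MulAut.conjNormal x⁻¹ n : N) : G) * (x⁻¹ * g * x))
    rw [MulAut.conjNormal_apply]
    congr 1
    group
  rw [h1]
  by_cases hy : x⁻¹ * g * x ∈ H
  · rw [CharInd.extendByZero_mem _ hy, avg_apply,
      Nat.card_congr (Subgroup.subgroupOfEquivOfLe hNH).toEquiv]
    congr 1
    refine (Fintype.sum_equiv (Subgroup.subgroupOfEquivOfLe hNH).toEquiv _ _ fun n => ?_).symm
    show _ = extendByZero H f (((n : H) : G) * (x⁻¹ * g * x))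
    rw [CharInd.extendByZero_mem _ (H.mul_mem (n : H).2 hy)]
    rfl
  · rw [CharInd.extendByZero_notMem _ hy, Finset.sum_eq_zero (fun n _ =>
      CharInd.extendByZero_notMem _ fun hm => hy ?_), mul_zero]
    have := H.mul_mem (H.inv_mem (hNH n.2)) hm
    rwa [inv_mul_cancel_left] at this

/-- The average of the permutation character of a supplement is the principal character. -/
theorem avg_indFun_one (H : Subgroup G) (hsup : H ⊔ N = ⊤) :
    avg N (indFun H (fun _ => (1 : ℂ))) = 1 := by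
  classical
  funext g
  simp only [avg_apply, CharInd.indFun_apply, Pi.one_apply]
  rw [← Finset.mul_sum, Finset.sum_comm]
  have h1 : ∀ x : G, ∑ n : N, extendByZero H (fun _ => (1 : ℂ)) (x⁻¹ * ((n : G) * g) * x)
      = (Nat.card ↥(H ⊓ N) : ℂ) := by
    intro x
    obtain ⟨h, hh, n0, hn0, he⟩ := Subgroup.mem_sup_of_normal_right.1
      (hsup ▸ Subgroup.mem_top (x⁻¹ * g * x))
    have h2 : ∑ n : N, extendByZero H (fun _ => (1 : ℂ)) (x⁻¹ * ((n : G) * g) * x)
        = ∑ n : N, extendByZero H (fun _ => (1 : ℂ)) (h * (n : G)) := by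
      refine Fintype.sum_bijective (fun n : N => (⟨h⁻¹ * (x⁻¹ * n * x) * h * n0,
        N.mul_mem (by simpa using hN.conj_mem _ (show x⁻¹ * (n : G) * x ∈ N by
          simpa using hN.conj_mem (n : G) n.2 x⁻¹) h⁻¹) hn0⟩ : N)) ?_ _ _ fun n => ?_
      · refine Finite.injective_iff_bijective.1 fun a b hab => ?_
        simpa using congrArg Subtype.val hab
      · congr 1
        show x⁻¹ * ((n : G) * g) * x = h * (h⁻¹ * (x⁻¹ * (n : G) * x) * h * n0)
        rw [show x⁻¹ * ((n : G) * g) * x = x⁻¹ * (n : G) * x * (x⁻¹ * g * x) by group, ← he]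
        group
    rw [h2, ← Finset.sum_subset (Finset.subset_univ (Finset.univ.filter fun n : N => (n : G) ∈ H))
      (fun n _ hn => CharInd.extendByZero_notMem _ fun hm => by
        apply (show ¬ (n : G) ∈ H by simpa using hn)
        have := H.mul_mem (H.inv_mem hh) hm
        rwa [inv_mul_cancel_left] at this),
      Finset.sum_congr rfl (g := fun _ => (1 : ℂ)) (fun n hn => by
        rw [CharInd.extendByZero_mem _ (H.mul_mem hh (Finset.mem_filter.1 hn).2)]),
      Finset.sum_const, ← Fintype.card_subtype, nsmul_eq_mul, mul_one, ← Nat.card_eq_fintype_card]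
    congr 1
    exact Nat.card_congr
      { toFun := fun n => ⟨((n.1 : N) : G), n.2, n.1.2⟩
        invFun := fun y => ⟨⟨y, y.2.2⟩, y.2.1⟩
        left_inv := fun _ => rfl
        right_inv := fun _ => rfl }
  rw [Finset.sum_congr rfl fun x _ => h1 x, Finset.sum_const, Finset.card_univ, nsmul_eq_mul,
    ← Nat.card_eq_fintype_card]
  have h3 : (Nat.card G : ℂ) * Nat.card ↥(H ⊓ N) = (Nat.card H : ℂ) * Nat.card N := by
    have hN' : Nat.card N * N.relIndex (H ⊔ N) = Nat.card ↥(H ⊔ N) := by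
      rw [← Subgroup.relIndex_bot_left, ← Subgroup.relIndex_bot_left,
        Subgroup.relIndex_mul_relIndex ⊥ N (H ⊔ N) bot_le le_sup_right]
    have hH' : Nat.card ↥(H ⊓ N) * N.relIndex H = Nat.card H := by
      rw [← Subgroup.inf_relIndex_left, ← Subgroup.relIndex_bot_left, ← Subgroup.relIndex_bot_left,
        Subgroup.relIndex_mul_relIndex ⊥ (H ⊓ N) H bot_le inf_le_left]
    rw [sup_comm, Subgroup.relIndex_sup_left, sup_comm, hsup, Subgroup.card_top] at hN'
    have h : Nat.card G * Nat.card ↥(H ⊓ N) = Nat.card H * Nat.card N := by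
      rw [← hN', ← hH']
      ring
    exact_mod_cast h
  have hH : (Nat.card H : ℂ) ≠ 0 := Nat.cast_ne_zero.2 Nat.card_pos.ne'
  have hN0 : (Nat.card N : ℂ) ≠ 0 := Nat.cast_ne_zero.2 Nat.card_pos.ne'
  field_simp
  linear_combination h3

end Avg

/-- If inducing `ψ` gives a character of norm at least the index, the subgroup is normal. -/
theorem conj_mem_of_norm {V : Type u} [Group V] [Fintype V] (N : Subgroup V) [N.Normal]
    (U : Subgroup V) [Fintype U] (hNU : N ≤ U) {ψ : U → ℂ} (hψ : IsIrrCharacter U ψ)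
    (hψN : IsIrrCharacter (N.subgroupOf U) (fun x => ψ x)) {τ : V → ℂ} (hτ : IsIrrCharacter V τ)
    {s : ℕ} (hs : classInner (indFun U ψ) τ = s) (hidx : s * s = U.index) :
    ∀ y u : V, u ∈ U → y⁻¹ * u * y ∈ U := by
  classical
  have := Fintype.ofFinite (N.subgroupOf U)
  obtain ⟨m, hm⟩ := CharCore.IsCharacter.exists_sum
    (CharInd.isCharacter_indFun U (CharCore.IsIrrCharacter.isCharacter hψ))
  have hge : (U.index : ℝ) ≤ (classInner (indFun U ψ) (indFun U ψ)).re := by
    rw [hm, CharCore.classInner_sum_sum]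
    simp only [map_natCast, Complex.re_sum, ← Nat.cast_mul, Complex.natCast_re]
    have hmτ : m ⟨τ, hτ⟩ = s := by
      rw [hm, show classInner _ τ = _ from CharCore.classInner_sum_all _ ⟨τ, hτ⟩] at hs
      exact_mod_cast hs
    refine le_trans ?_ (Finset.single_le_sum (f := fun χ => ((m χ * m χ : ℕ) : ℝ))
      (fun χ _ => by positivity) (Finset.mem_univ ⟨τ, hτ⟩))
    rw [hmτ, hidx]
  rw [CharInd.classInner_indFun_left U ψ (CharInd.isClassFunction_indFun U ψ)] at hge
  -- expand into a double sum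
  set q : V → U → ℂ := fun y u => extendByZero U ψ (y⁻¹ * (u : V) * y) with hq
  have hexp : classInner ψ (fun u : U => indFun U ψ u) =
      (Nat.card U : ℂ)⁻¹ * ((Nat.card U : ℂ)⁻¹ * ∑ y : V, ∑ u : U, ψ u * conj (q y u)) := by
    rw [CharCore.classInner_def]
    congr 1
    rw [Finset.sum_comm, Finset.mul_sum]
    refine Finset.sum_congr rfl fun u _ => ?_
    rw [CharInd.indFun_apply, map_mul, map_inv₀, map_natCast, map_sum, ← mul_assoc,
      mul_comm (ψ u), mul_assoc, Finset.mul_sum]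
  have hψ2 : ∑ u : U, Complex.normSq (ψ u) = (Nat.card U : ℝ) := by
    have h := (CharCore.isIrrCharacter_iff.mp hψ).2
    rw [CharCore.classInner_def, inv_mul_eq_iff_eq_mul₀ (Nat.cast_ne_zero.2 Nat.card_pos.ne'),
      mul_one] at h
    simp only [Complex.mul_conj, ← Complex.ofReal_sum] at h
    exact_mod_cast h
  let S : V → Finset U := fun y => Finset.univ.filter fun u : U => y⁻¹ * (u : V) * y ∈ U
  have hA : ∀ y, ∑ u : U, Complex.normSq (q y u) ≤ (Nat.card U : ℝ) := by
    intro y
    let e : U → U := fun u => if h : y⁻¹ * (u : V) * y ∈ U then ⟨_, h⟩ else u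
    calc ∑ u : U, Complex.normSq (q y u) = ∑ u ∈ S y, Complex.normSq (ψ (e u)) := by
          rw [← Finset.sum_subset (Finset.subset_univ (S y)) (fun u _ hu => by
            rw [hq]
            simp only
            rw [CharInd.extendByZero_notMem _ (by simpa [S] using hu), map_zero])]
          refine Finset.sum_congr rfl fun u hu => ?_
          have hu' : y⁻¹ * (u : V) * y ∈ U := (Finset.mem_filter.1 hu).2
          rw [hq]
          simp only [e]
          rw [CharInd.extendByZero_mem _ hu', dif_pos hu']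
      _ = ∑ v ∈ Finset.image (β := U) e (S y), Complex.normSq (ψ v) := by
          symm
          refine Finset.sum_image (g := e) ?_
          intro a ha b hb hab
          have ha' : y⁻¹ * (a : V) * y ∈ U := (Finset.mem_filter.1 ha).2
          have hb' : y⁻¹ * (b : V) * y ∈ U := (Finset.mem_filter.1 hb).2
          simp only [e, dif_pos ha', dif_pos hb', Subtype.mk.injEq, mul_left_inj, mul_right_inj]
            at hab
          exact Subtype.ext hab
      _ ≤ _ := hψ2 ▸ Finset.sum_le_sum_of_subset_of_nonneg (Finset.subset_univ _)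
          fun _ _ _ => Complex.normSq_nonneg _
  have hterm : ∀ y, 2 * (∑ u : U, ψ u * conj (q y u)).re
      ≤ (Nat.card U : ℝ) + ∑ u ∈ S y, Complex.normSq (ψ u) := by
    intro y
    have h1 : ∑ u : U, ψ u * conj (q y u) = ∑ u ∈ S y, ψ u * conj (q y u) := by
      refine (Finset.sum_subset (Finset.subset_univ (S y)) fun u _ hu => ?_).symm
      rw [hq]
      simp only
      rw [CharInd.extendByZero_notMem _ (by simpa [S] using hu), map_zero, mul_zero]
    rw [h1, Complex.re_sum, Finset.mul_sum]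
    calc ∑ u ∈ S y, 2 * (ψ u * conj (q y u)).re
        ≤ ∑ u ∈ S y, (Complex.normSq (q y u) + Complex.normSq (ψ u)) := by
          refine Finset.sum_le_sum fun u _ => ?_
          have := Complex.normSq_nonneg (ψ u - q y u)
          rw [Complex.normSq_sub] at this
          linarith
      _ ≤ _ := by
          rw [Finset.sum_add_distrib]
          exact add_le_add ((Finset.sum_le_sum_of_subset_of_nonneg (Finset.subset_univ (S y))
            fun _ _ _ => Complex.normSq_nonneg _).trans (hA y)) le_rfl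
  have hB : ∀ y, ∑ u ∈ S y, Complex.normSq (ψ u) ≤ (Nat.card U : ℝ) := fun y =>
    hψ2 ▸ Finset.sum_le_sum_of_subset_of_nonneg (Finset.subset_univ _)
      fun _ _ _ => Complex.normSq_nonneg _
  have htot : (Nat.card V : ℝ) * Nat.card U ≤ ∑ y : V, (∑ u : U, ψ u * conj (q y u)).re := by
    rw [hexp] at hge
    rw [← Complex.re_sum]
    rw [← U.card_mul_index, Nat.cast_mul]
    have hU : (0 : ℝ) < Nat.card U := Nat.cast_pos.2 Nat.card_pos
    rw [← mul_assoc, ← mul_inv, ← Nat.cast_mul] at hge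
    rw [show (((Nat.card U * Nat.card U : ℕ) : ℂ))⁻¹ = (((((Nat.card U * Nat.card U : ℕ) : ℝ))⁻¹ : ℝ) : ℂ)
      by push_cast; rfl, Complex.re_ofReal_mul, inv_mul_eq_div, le_div_iff₀ (Nat.cast_pos.2 (Nat.mul_pos Nat.card_pos Nat.card_pos))] at hge
    push_cast at hge
    linarith
  have hfull : ∀ y, ∑ u ∈ S y, Complex.normSq (ψ u) = (Nat.card U : ℝ) := by
    intro y
    refine le_antisymm (hB y) ?_
    by_contra hlt
    push Not at hlt
    have hstrict : ∑ z : V, 2 * (∑ u : U, ψ u * conj (q z u)).re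
        < ∑ _z : V, 2 * (Nat.card U : ℝ) :=
      Finset.sum_lt_sum (fun z _ => (hterm z).trans (by linarith [hB z]))
        ⟨y, Finset.mem_univ _, (hterm y).trans_lt (by linarith)⟩
    rw [← Finset.mul_sum, Finset.sum_const, Finset.card_univ, nsmul_eq_mul,
      ← Nat.card_eq_fintype_card] at hstrict
    nlinarith [htot]
  intro y u hu
  by_contra hcon
  have hoff : ∀ v : U, y⁻¹ * (v : V) * y ∉ U → ψ v = 0 := by
    intro v hv
    have h := hfull y
    rw [← hψ2, ← Finset.sum_add_sum_compl (S y) (fun u => Complex.normSq (ψ u)),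
      left_eq_add, Finset.sum_eq_zero_iff_of_nonneg fun _ _ => Complex.normSq_nonneg _] at h
    exact Complex.normSq_eq_zero.1 (h v (by simpa [S] using hv))
  have h1 := congrFun (CharDeep.Ext.avg_mul_conj_self (N := N.subgroupOf U) hψ hψN) ⟨u, hu⟩
  rw [avg_apply, Finset.sum_eq_zero, mul_zero, Pi.one_apply] at h1
  · exact zero_ne_one h1
  · intro v _
    rw [hoff _ fun hm => hcon ?_, zero_mul]
    have hv : y⁻¹ * ((v : U) : V) * y ∈ U :=
      hNU (by simpa using (inferInstance : N.Normal).conj_mem _ v.2 y⁻¹)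
    have := U.mul_mem (U.inv_mem hv) hm
    simpa [mul_assoc] using this

/-- A chief factor complemented by a maximal subgroup, and a coprime one inside it. -/
theorem exists_chief_pair_aux {H L : Subgroup G} (hmax : IsCoatom H) (hL : L = H.normalCore)
    {Q : Type*} [Group Q] [Finite Q] [Nontrivial Q] [Group.IsSolvable Q] (π : G →* Q)
    (hπs : Function.Surjective π) (hker : π.ker = L) :
    ∃ K : Subgroup G, K.Normal ∧ L < K ∧ K ⊔ H = ⊤ ∧ K ⊓ H = L ∧
      (H ≠ L → ∃ U : Subgroup G, L < U ∧ U ≤ H ∧ (∀ h ∈ H, ∀ u ∈ U, h * u * h⁻¹ ∈ U) ∧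
        Nat.Coprime (L.relIndex K) (L.relIndex U)) := by
  have hLH : L ≤ H := hL ▸ H.normalCore_le
  obtain ⟨Kq, p, hKn, hKne, hKmin, hp, hKp, hKc, -, a, -, hKcard⟩ :=
    Cfsg.Agent.Solvable.exists_minimal_normal_elementary Q
  set Hq := H.map π with hHq
  have hHcomap : Hq.comap π = H := Subgroup.comap_map_eq_self (hker.le.trans hLH)
  have hbot : (⊥ : Subgroup Q).comap π = L := by rw [MonoidHom.comap_bot, hker]
  have hsmall : ∀ M : Subgroup Q, M.Normal → M ≤ Hq → M = ⊥ := fun M hM hle => by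
    have h1 : M.comap π ≤ L := hL ▸ Subgroup.normal_le_normalCore.2
      ((Subgroup.comap_mono hle).trans hHcomap.le)
    exact le_bot_iff.1 ((Subgroup.comap_le_comap_of_surjective hπs).1 (h1.trans hbot.ge))
  have hKnle : ¬ Kq ≤ Hq := fun h => hKne (hsmall Kq hKn h)
  have hsupq : Kq ⊔ Hq = ⊤ := by
    have h : H < (Kq ⊔ Hq).comap π := by
      refine lt_of_le_not_ge (hHcomap.ge.trans (Subgroup.comap_mono le_sup_right)) fun h => hKnle ?_
      exact le_sup_left.trans ((Subgroup.comap_le_comap_of_surjective hπs).1 (h.trans hHcomap.ge))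
    exact Subgroup.comap_injective hπs ((hmax.2 _ h).trans (Subgroup.comap_top π).symm)
  have hdecomp : ∀ g : Q, ∃ k ∈ Kq, ∃ h ∈ Hq, k * h = g := fun g =>
    Subgroup.mem_sup_of_normal_left.1 (hsupq ▸ Subgroup.mem_top g)
  have hcomm : ∀ a ∈ Kq, ∀ b ∈ Kq, a * b = b * a := fun a ha b hb =>
    congrArg Subtype.val (hKc.is_comm.comm ⟨a, ha⟩ ⟨b, hb⟩)
  -- a subgroup of `Kq` normalised by `Hq` is normal
  have hnorm : ∀ W : Subgroup Q, W ≤ Kq → (∀ h ∈ Hq, ∀ w ∈ W, h * w * h⁻¹ ∈ W) → W.Normal := by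
    intro W hW hH
    refine ⟨fun w hw g => ?_⟩
    obtain ⟨k, hk, h, hh, rfl⟩ := hdecomp g
    have h1 := hH h hh w hw
    rw [show k * h * w * (k * h)⁻¹ = k * (h * w * h⁻¹) * k⁻¹ by group, hcomm k hk _ (hW h1),
      mul_inv_cancel_right]
    exact h1
  have hinfq : Kq ⊓ Hq = ⊥ := hsmall _ (hnorm _ inf_le_left fun h hh w hw =>
    ⟨hKn.conj_mem w hw.1 h, Hq.mul_mem (Hq.mul_mem hh hw.2) (Hq.inv_mem hh)⟩) inf_le_right
  refine ⟨Kq.comap π, hKn.comap π, ?_, ?_, ?_, fun hne => ?_⟩
  · exact hbot ▸ (Subgroup.comap_lt_comap_of_surjective hπs).2 (bot_lt_iff_ne_bot.2 hKne)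
  · conv_lhs => rw [← hHcomap, Subgroup.comap_sup_eq π _ _ hπs, hsupq]
    rfl
  · conv_lhs => rw [← hHcomap, ← Subgroup.comap_inf, hinfq, hbot]
  have hHne : Hq ≠ ⊥ := fun h => hne (by rw [← hHcomap, h, hbot])
  have : Nontrivial Hq := (Subgroup.nontrivial_iff_ne_bot Hq).2 hHne
  obtain ⟨Uh, q, hUn, hUne, -, hq, hUq, -, -, b, -, hUcard⟩ :=
    Cfsg.Agent.Solvable.exists_minimal_normal_elementary Hq
  set Uq := Uh.map Hq.subtype with hUq_def
  have hUle : Uq ≤ Hq := Subgroup.map_subtype_le Uh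
  have hUnorm : ∀ h ∈ Hq, ∀ u ∈ Uq, h * u * h⁻¹ ∈ Uq := by
    rintro h hh _ ⟨u, hu, rfl⟩
    exact ⟨_, hUn.conj_mem u hu ⟨h, hh⟩, rfl⟩
  have hUqne : Uq ≠ ⊥ := fun h => hUne ((Subgroup.map_eq_bot_iff_of_injective Uh
    Hq.subtype_injective).1 h)
  have hUqcard : Nat.card Uq = q ^ b := by
    rw [← hUcard, hUq_def, Subgroup.card_subtype]
  have hpq : p ≠ q := by
    rintro rfl
    have : Fact p.Prime := ⟨hp⟩
    have hV : IsPGroup p ↥(Kq ⊔ Uq) :=
      IsPGroup.to_sup_of_normal_left hKp (IsPGroup.of_card hUqcard)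
    have hKV : (Kq.subgroupOf (Kq ⊔ Uq)) ≠ ⊥ := fun h => hKne (by
      rw [Subgroup.subgroupOf_eq_bot] at h
      exact h.eq_bot_of_le le_sup_left)
    obtain ⟨⟨z, hz⟩, hzmem, hz1⟩ := ((Kq.subgroupOf (Kq ⊔ Uq) ⊓ Subgroup.center ↥(Kq ⊔ Uq))
      |>.bot_or_exists_ne_one).resolve_left (PGroup.inf_center_ne_bot hV hKV)
    let W : Subgroup Q := Kq ⊓ Subgroup.centralizer (Uq : Set Q)
    have hzW : z ∈ W := ⟨hzmem.1, fun u hu =>
      congrArg Subtype.val (Subgroup.mem_center_iff.1 hzmem.2 ⟨u, le_sup_right (a := Kq) hu⟩)⟩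
    have hWn : W.Normal := hnorm W inf_le_left fun h hh w hw => ⟨hKn.conj_mem w hw.1 h, fun u hu => by
      have h1 := hw.2 _ (show h⁻¹ * u * h ∈ (Uq : Set Q) by
        simpa using hUnorm h⁻¹ (Hq.inv_mem hh) u hu)
      calc u * (h * w * h⁻¹) = h * ((h⁻¹ * u * h) * w) * h⁻¹ := by group
        _ = h * (w * (h⁻¹ * u * h)) * h⁻¹ := by rw [h1]
        _ = h * w * h⁻¹ * u := by group⟩
    have hWK : W = Kq := (hKmin W hWn inf_le_left).resolve_left fun h => hz1 (by
      rw [h, Subgroup.mem_bot] at hzW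
      exact Subtype.ext hzW)
    refine hUqne (hsmall Uq ⟨fun u hu g => ?_⟩ hUle)
    obtain ⟨k, hk, h, hh, rfl⟩ := hdecomp g
    have h1 := hUnorm h hh u hu
    have h2 := (hWK ▸ hk : k ∈ W).2 _ h1
    rw [show k * h * u * (k * h)⁻¹ = k * (h * u * h⁻¹) * k⁻¹ by group, ← h2, mul_inv_cancel_right]
    exact h1
  refine ⟨Uq.comap π, hbot ▸ (Subgroup.comap_lt_comap_of_surjective hπs).2
    (bot_lt_iff_ne_bot.2 hUqne), (Subgroup.comap_mono hUle).trans hHcomap.le, fun h hh u hu => ?_, ?_⟩
  · simp only [Subgroup.mem_comap, map_mul, map_inv]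
    exact hUnorm _ (Subgroup.mem_map_of_mem π hh) _ hu
  · have hrel : ∀ M : Subgroup Q, L.relIndex (M.comap π) = Nat.card M := fun M => by
      conv_lhs => rw [← hbot, Subgroup.relIndex_comap, Subgroup.map_comap_eq_self_of_surjective hπs,
        Subgroup.relIndex_bot_left]
    rw [hrel, hrel, hKcard, hUqcard]
    exact ((Nat.coprime_primes hp hq).2 hpq).pow a b

/-- A chief factor complemented by a maximal subgroup, and a coprime one inside it. -/
theorem exists_chief_pair {H : Subgroup G} (hmax : IsCoatom H)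
    (hsolv : Group.IsSolvable (G ⧸ H.normalCore)) :
    ∃ K : Subgroup G, K.Normal ∧ H.normalCore < K ∧ K ⊔ H = ⊤ ∧ K ⊓ H = H.normalCore ∧
      (H ≠ H.normalCore → ∃ U : Subgroup G, H.normalCore < U ∧ U ≤ H ∧
        (∀ h ∈ H, ∀ u ∈ U, h * u * h⁻¹ ∈ U) ∧
        Nat.Coprime (H.normalCore.relIndex K) (H.normalCore.relIndex U)) := by
  have : Nontrivial (G ⧸ H.normalCore) := QuotientGroup.nontrivial_iff.2 fun h => hmax.1
    (top_le_iff.1 (h.ge.trans H.normalCore_le))
  exact exists_chief_pair_aux hmax rfl (QuotientGroup.mk' H.normalCore)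
    (QuotientGroup.mk'_surjective _) (QuotientGroup.ker_mk' _)

end Cfsg.Agent.CharB
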