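import Mathlib

/-!
The degree of an irreducible projective representation of a finite group divides the order of the
group: a short integrality argument with `∑ R g ⊗ (R g)⁻¹`, a multiple of the swap.
-/

set_option autoImplicit false

open Matrix
open scoped Kronecker

namespace Cfsg.Agent.CharB

/-- The matrix version, with determinants normalised. -/
theorem dvd_index_of_projective_aux {G : Type*} [Group G] [Finite G] (N : Subgroup G) [N.Normal]
    {k : ℕ} (hk : 0 < k) (R : G → (Matrix (Fin k) (Fin k) ℂ)ˣ)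
    (hdet : ∀ g, (R g : Matrix (Fin k) (Fin k) ℂ).det = 1)
    (hmul : ∀ g h, ∃ μ : ℂ, (R g : Matrix (Fin k) (Fin k) ℂ) * R h = μ • (R (g * h)).val)
    (hN : ∀ n ∈ N, ∃ μ : ℂ, (R n).val = μ • (1 : Matrix (Fin k) (Fin k) ℂ))
    (hirr : ∀ M : Matrix (Fin k) (Fin k) ℂ, (∀ g, (R g).val * M = M * (R g).val) →
      ∃ c : ℂ, M = c • 1) : k ∣ N.index := by
  classical
  have := Fintype.ofFinite G
  have := Fintype.ofFinite (G ⧸ N)
  -- the scalars are `k`-th roots of unity
  have hroot : ∀ g h, ∃ μ : ℂ, μ ^ k = 1 ∧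
      (R g : Matrix (Fin k) (Fin k) ℂ) * R h = μ • (R (g * h)).val := by
    intro g h
    obtain ⟨μ, hμ⟩ := hmul g h
    refine ⟨μ, ?_, hμ⟩
    have h1 := congrArg Matrix.det hμ
    rw [det_mul, det_smul, hdet, hdet, hdet, mul_one, mul_one, Fintype.card_fin] at h1
    exact h1.symm
  -- conjugation is an action of `G` trivial on `N`
  let cg : G → Matrix (Fin k) (Fin k) ℂ → Matrix (Fin k) (Fin k) ℂ :=
    fun g M => (R g).val * M * ((R g)⁻¹).val
  have hcg : ∀ g h M, cg g (cg h M) = cg (g * h) M := by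
    intro g h M
    obtain ⟨μ, hμ, he⟩ := hroot g h
    have hμ0 : μ ≠ 0 := by
      intro h0
      rw [h0, zero_pow hk.ne'] at hμ
      exact zero_ne_one hμ
    have he' : ((R h)⁻¹).val * ((R g)⁻¹).val = μ⁻¹ • ((R (g * h))⁻¹).val := by
      have h1 : ((R g).val * (R h).val) * (μ⁻¹ • ((R (g * h))⁻¹).val) = 1 := by
        rw [he, Matrix.smul_mul, Matrix.mul_smul, smul_smul, mul_inv_cancel₀ hμ0, one_smul,
          Units.mul_inv]
      calc ((R h)⁻¹).val * ((R g)⁻¹).val
          = ((R h)⁻¹).val * ((R g)⁻¹).val *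
            (((R g).val * (R h).val) * (μ⁻¹ • ((R (g * h))⁻¹).val)) := by rw [h1, mul_one]
        _ = _ := by simp only [mul_assoc, Units.inv_mul_cancel_left]
    calc cg g (cg h M) = ((R g).val * (R h).val) * M * (((R h)⁻¹).val * ((R g)⁻¹).val) := by
          simp only [cg, mul_assoc]
      _ = cg (g * h) M := by
          rw [he, he', Matrix.smul_mul, Matrix.smul_mul, Matrix.mul_smul, smul_smul,
            mul_inv_cancel₀ hμ0, one_smul]
  have hcgN : ∀ n ∈ N, ∀ M, cg n M = M := by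
    intro n hn M
    obtain ⟨μ, hμ⟩ := hN n hn
    calc cg n M = (μ • (1 : Matrix (Fin k) (Fin k) ℂ)) * M * ((R n)⁻¹).val := by rw [← hμ]
      _ = M * ((μ • (1 : Matrix (Fin k) (Fin k) ℂ)) * ((R n)⁻¹).val) := by
          rw [Matrix.smul_mul, one_mul, Matrix.smul_mul, Matrix.smul_mul, one_mul, Matrix.mul_smul]
      _ = M := by rw [← hμ, Units.mul_inv, mul_one]
  have hout : ∀ (g : G) (q : G ⧸ N) M, cg g (cg q.out M) = cg ((g • q : G ⧸ N)).out M := by
    intro g q M
    rw [hcg]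
    have h1 : ((g • q : G ⧸ N)).out⁻¹ * (g * q.out) ∈ N := by
      rw [← QuotientGroup.eq, QuotientGroup.out_eq']
      conv_lhs => rw [← QuotientGroup.out_eq' q]
      rfl
    calc cg (g * q.out) M
        = cg ((g • q : G ⧸ N).out * ((g • q : G ⧸ N).out⁻¹ * (g * q.out))) M := by
          rw [mul_inv_cancel_left]
      _ = _ := by rw [← hcg, hcgN _ h1]
  -- the averaging operator is scalar
  have hL : ∀ M : Matrix (Fin k) (Fin k) ℂ,
      ∑ q : G ⧸ N, cg q.out M = (((N.index : ℂ) / k) * M.trace) • 1 := by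
    intro M
    have hinv : ∀ g, cg g (∑ q : G ⧸ N, cg q.out M) = ∑ q : G ⧸ N, cg q.out M := by
      intro g
      calc cg g (∑ q : G ⧸ N, cg q.out M) = ∑ q : G ⧸ N, cg g (cg q.out M) := by
            simp only [cg, Finset.mul_sum, Finset.sum_mul]
        _ = ∑ q : G ⧸ N, cg ((g • q : G ⧸ N)).out M := Finset.sum_congr rfl fun q _ => hout g q M
        _ = _ := Fintype.sum_equiv (MulAction.toPerm g) _ _ fun q => rfl
    obtain ⟨c, hc⟩ := hirr (∑ q : G ⧸ N, cg q.out M) fun g => by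
      have := congrArg (· * (R g).val) (hinv g)
      simpa [cg, mul_assoc] using this
    have ht := congrArg Matrix.trace hc
    rw [trace_sum, trace_smul, trace_one, Fintype.card_fin, smul_eq_mul,
      Finset.sum_congr rfl (fun q _ => show (cg q.out M).trace = M.trace by
        simp only [cg, trace_units_conj]), Finset.sum_const, Finset.card_univ, nsmul_eq_mul,
      Fintype.card_eq_nat_card, ← Subgroup.index_eq_card] at ht
    rw [hc]
    congr 1
    have hk0 : (k : ℂ) ≠ 0 := Nat.cast_ne_zero.2 hk.ne'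
    field_simp
    linear_combination -ht
  -- `Ω` is a multiple of the swap
  set c : ℂ := (N.index : ℂ) / k with hc
  set Ω : Matrix (Fin k × Fin k) (Fin k × Fin k) ℂ :=
    ∑ q : G ⧸ N, (R q.out).val ⊗ₖ ((R q.out)⁻¹).val with hΩ
  have hentry : ∀ i a j l : Fin k, Ω (i, a) (j, l) = if i = l ∧ j = a then c else 0 := by
    intro i a j l
    have h1 := congrFun (congrFun (hL (Matrix.single j a (1 : ℂ))) i) l
    rw [Matrix.sum_apply] at h1
    rw [hΩ, Matrix.sum_apply]
    simp only [kroneckerMap_apply]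
    have h2 : ∀ q : G ⧸ N, cg q.out (Matrix.single j a (1 : ℂ)) i l
        = (R q.out).val i j * ((R q.out)⁻¹).val a l := by
      intro q
      simp only [cg]
      rw [Matrix.mul_apply]
      rw [Finset.sum_eq_single a (fun b _ hb => by
        rw [Matrix.mul_apply, Finset.sum_eq_zero (fun e _ => by simp [Matrix.single, hb.symm])]
        simp) (by simp)]
      rw [Matrix.mul_apply, Finset.sum_eq_single j (fun e _ he => by
        simp [Matrix.single, he.symm]) (by simp)]
      simp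
    rw [← Finset.sum_congr rfl (fun q _ => h2 q), h1, Matrix.smul_apply, Matrix.one_apply]
    by_cases hja : j = a
    · subst hja
      simp [Matrix.trace_single_eq_same]
    · simp [Matrix.trace_single_eq_of_ne _ _ _ hja, hja]
  have hΩ2 : Ω * Ω = (c * c) • (1 : Matrix (Fin k × Fin k) (Fin k × Fin k) ℂ) := by
    ext ⟨i, a⟩ ⟨j, l⟩
    rw [Matrix.mul_apply, Fintype.sum_eq_single (a, i) (fun x hx => ?_), hentry, hentry,
      Matrix.smul_apply, Matrix.one_apply]
    · by_cases h : i = j ∧ a = l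
      · obtain ⟨rfl, rfl⟩ := h
        simp
      · have : ¬(a = l ∧ j = i) := fun h' => h ⟨h'.2.symm, h'.1⟩
        simp only [this, and_self, if_true, if_false, mul_zero, Prod.mk.injEq, h, smul_zero]
    · obtain ⟨x, y⟩ := x
      rw [hentry, if_neg, zero_mul]
      exact fun h' => hx (Prod.ext h'.2 h'.1.symm)
  -- integrality
  set T : Set (Matrix (Fin k × Fin k) (Fin k × Fin k) ℂ) :=
    (fun x : (Polynomial.nthRootsFinset k (1 : ℂ) : Set ℂ) × G × G =>
      (x.1 : ℂ) • ((R x.2.1).val ⊗ₖ (R x.2.2).val)) '' Set.univ with hT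
  have hTfin : T.Finite := Set.toFinite _
  have hTmem : ∀ (μ : ℂ) (g h : G), μ ^ k = 1 → μ • ((R g).val ⊗ₖ (R h).val) ∈ T :=
    fun μ g h hμ => ⟨⟨⟨μ, (Polynomial.mem_nthRootsFinset hk _).2 hμ⟩, g, h⟩, trivial, rfl⟩
  have hTroot : ∀ x : (Polynomial.nthRootsFinset k (1 : ℂ) : Set ℂ), (x : ℂ) ^ k = 1 :=
    fun x => (Polynomial.mem_nthRootsFinset hk _).1 x.2
  have hR1 : ∃ μ : ℂ, μ ^ k = 1 ∧ (1 : Matrix (Fin k) (Fin k) ℂ) = μ • (R 1).val := by
    obtain ⟨μ, hμ, he⟩ := hroot 1 1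
    rw [mul_one] at he
    refine ⟨μ⁻¹, by rw [inv_pow, hμ, inv_one], ?_⟩
    have h1 := congrArg (((R 1)⁻¹).val * ·) he
    simp only [Units.inv_mul_cancel_left, Matrix.mul_smul, Units.inv_mul] at h1
    have hμ0 : μ ≠ 0 := by
      intro h0
      rw [h0, zero_pow hk.ne'] at hμ
      exact zero_ne_one hμ
    rw [h1, smul_smul, inv_mul_cancel₀ hμ0, one_smul]
  have hT1 : (1 : Matrix (Fin k × Fin k) (Fin k × Fin k) ℂ) ∈ T := by
    obtain ⟨μ, hμ, he⟩ := hR1
    rw [← Matrix.one_kronecker_one (m := Fin k) (n := Fin k), he, Matrix.smul_kronecker,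
      Matrix.kronecker_smul, smul_smul]
    exact hTmem _ _ _ (by rw [mul_pow, hμ, one_mul])
  have hTT : ∀ x ∈ T, ∀ y ∈ T, x * y ∈ T := by
    rintro _ ⟨⟨μ, g, h⟩, -, rfl⟩ _ ⟨⟨ν, g', h'⟩, -, rfl⟩
    obtain ⟨α, hα, hg⟩ := hroot g g'
    obtain ⟨β, hβ, hh⟩ := hroot h h'
    simp only [Matrix.smul_mul, Matrix.mul_smul, smul_smul, ← Matrix.mul_kronecker_mul, hg, hh,
      Matrix.smul_kronecker, Matrix.kronecker_smul]
    refine hTmem _ _ _ ?_
    simp only [mul_pow, hα, hβ, hTroot, mul_one]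
  have hΩmem : Ω ∈ Algebra.adjoin ℤ T := by
    refine Subalgebra.sum_mem _ fun q _ => Algebra.subset_adjoin ?_
    obtain ⟨μ, hμ, he⟩ := hroot q.out q.out⁻¹
    obtain ⟨ν, hν, he1⟩ := hR1
    rw [mul_inv_cancel] at he
    have hinv : ((R q.out)⁻¹).val = (μ⁻¹ * ν) • (R q.out⁻¹).val := by
      have hμ0 : μ ≠ 0 := by
        intro h0
        rw [h0, zero_pow hk.ne'] at hμ
        exact zero_ne_one hμ
      have h2 : (R q.out).val * ((μ⁻¹ * ν) • (R q.out⁻¹).val) = 1 := by
        rw [Matrix.mul_smul, he, smul_smul, he1]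
        congr 1
        field_simp
      calc ((R q.out)⁻¹).val
          = ((R q.out)⁻¹).val * ((R q.out).val * ((μ⁻¹ * ν) • (R q.out⁻¹).val)) := by
            rw [h2, mul_one]
        _ = _ := Units.inv_mul_cancel_left _ _
    rw [hinv, Matrix.kronecker_smul]
    exact hTmem _ _ _ (by rw [mul_pow, inv_pow, hμ, hν, inv_one, one_mul])
  have hfg : (Algebra.adjoin ℤ T).toSubmodule.FG := by
    have hclos : (Submonoid.closure T : Set _) = T :=
      Set.Subset.antisymm (fun x hx => Submonoid.closure_induction (fun y hy => hy) hT1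
        (fun y z _ _ hy hz => hTT y hy z hz) hx) Submonoid.subset_closure
    rw [Algebra.adjoin_eq_span, hclos]
    exact Submodule.fg_span hTfin
  have hint : IsIntegral ℤ Ω := IsIntegral.of_mem_of_fg _ hfg Ω hΩmem
  have hint2 : IsIntegral ℤ (c * c) := by
    have h1 := IsIntegral.pow hint 2
    rw [pow_two, hΩ2, ← Algebra.algebraMap_eq_smul_one] at h1
    have : Nonempty (Fin k) := ⟨⟨0, hk⟩⟩
    exact (isIntegral_algHom_iff
      ((Algebra.ofId ℂ (Matrix (Fin k × Fin k) (Fin k × Fin k) ℂ)).restrictScalars ℤ)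
      (algebraMap ℂ (Matrix (Fin k × Fin k) (Fin k × Fin k) ℂ)).injective).1 h1
  have hci : IsIntegral ℤ c := IsIntegral.of_pow (n := 2) (by norm_num) (by rwa [pow_two])
  have hcq : (algebraMap ℚ ℂ) ((N.index : ℚ) / k) = c := by simp [hc]
  rw [← hcq, isIntegral_algebraMap_iff (algebraMap ℚ ℂ).injective] at hci
  obtain ⟨z, hz⟩ := IsIntegrallyClosed.isIntegral_iff.1 hci
  simp only [algebraMap_int_eq, eq_intCast] at hz
  rw [eq_div_iff (Nat.cast_ne_zero.2 hk.ne')] at hz
  have : (k : ℤ) ∣ (N.index : ℤ) := ⟨z, by rw [mul_comm]; exact_mod_cast hz.symm⟩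
  exact_mod_cast this

end Cfsg.Agent.CharB
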