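import Cfsg.Agent.Lib.CharCore.Equiv
import Cfsg.Agent.Lib.CharClifford.Central
import Cfsg.Agent.CharB.Projective

/-!
The projective representation on a multiplicity space: intertwiners for an invariant irreducible
character of a normal subgroup, extension criteria, and `χ(1)/ϑ(1) ∣ [G : N]`.
-/

set_option autoImplicit false

open Module

namespace Cfsg.Agent.CharB

variable {G : Type*} [Group G] [Finite G] {N : Subgroup G} [hN : N.Normal]
  {W : Type*} [AddCommGroup W] [Module ℂ W] [FiniteDimensional ℂ W]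
  {V : Type*} [AddCommGroup V] [Module ℂ V] [FiniteDimensional ℂ V]

/-- A system of intertwiners for a representation of a normal subgroup. -/
structure Intertwiners (σ : Representation ℂ N W) where
  /-- The intertwiner attached to a group element. -/
  S : G → (W →ₗ[ℂ] W)
  /-- Its inverse. -/
  S' : G → (W →ₗ[ℂ] W)
  S_inv : ∀ g, S g * S' g = 1
  inv_S : ∀ g, S' g * S g = 1
  intertwine : ∀ (g : G) (n : N),
    S g * σ n = σ ⟨g * n * g⁻¹, hN.conj_mem (n : G) n.2 g⟩ * S g
  restrict : ∀ n : N, S n = σ n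

theorem exists_intertwiners (σ : Representation ℂ N W)
    (hinv : ∀ (g : G) (n : N),
      σ.character ⟨g * n * g⁻¹, hN.conj_mem (n : G) n.2 g⟩ = σ.character n) :
    Nonempty (Intertwiners σ) := by
  classical
  have h : ∀ g : G, ∃ S S' : W →ₗ[ℂ] W, S * S' = 1 ∧ S' * S = 1 ∧
      (∀ n : N, S * σ n = σ ⟨g * n * g⁻¹, hN.conj_mem (n : G) n.2 g⟩ * S) ∧
      ∀ h : g ∈ N, S = σ ⟨g, h⟩ := by
    intro g
    by_cases hg : g ∈ N
    · refine ⟨σ ⟨g, hg⟩, σ ⟨g, hg⟩⁻¹, by rw [← map_mul, mul_inv_cancel, map_one],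
        by rw [← map_mul, inv_mul_cancel, map_one], fun n => ?_, fun _ => rfl⟩
      rw [← map_mul, ← map_mul]
      exact congrArg σ (Subtype.ext (by simp))
    · let c : N →* N :=
        { toFun := fun n => ⟨g * n * g⁻¹, hN.conj_mem (n : G) n.2 g⟩
          map_one' := Subtype.ext (by simp)
          map_mul' := fun a b => Subtype.ext (by simp [mul_assoc]) }
      let σg : Representation ℂ N W := σ.comp c
      have hchar : σ.character = σg.character := funext fun n => (hinv g n).symm
      obtain ⟨e⟩ := Cfsg.Agent.CharCore.nonempty_equiv_of_character_eq σ σg hchar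
      refine ⟨e.toLinearEquiv.toLinearMap, e.toLinearEquiv.symm.toLinearMap,
        LinearMap.ext fun w => e.toLinearEquiv.apply_symm_apply w,
        LinearMap.ext fun w => e.toLinearEquiv.symm_apply_apply w, fun n => ?_,
        fun h => absurd h hg⟩
      exact LinearMap.ext fun w =>
        Representation.IntertwiningMap.isIntertwining σ σg e.toIntertwiningMap n w
  choose S S' h1 h2 h3 h4 using h
  exact ⟨⟨S, S', h1, h2, h3, fun n => h4 n n.2⟩⟩

namespace Intertwiners

variable {σ : Representation ℂ N W} (I : Intertwiners σ)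

theorem intertwine' (g : G) (n : N) :
    I.S' g * σ n = σ ⟨g⁻¹ * n * g, by simpa using hN.conj_mem (n : G) n.2 g⁻¹⟩ * I.S' g := by
  set m : N := ⟨g⁻¹ * n * g, by simpa using hN.conj_mem (n : G) n.2 g⁻¹⟩ with hm
  have h := I.intertwine g m
  have he : (⟨g * (m : G) * g⁻¹, hN.conj_mem (m : G) m.2 g⟩ : N) = n :=
    Subtype.ext (by simp [hm, mul_assoc])
  rw [he] at h
  calc I.S' g * σ n = I.S' g * σ n * (I.S g * I.S' g) := by rw [I.S_inv, mul_one]
    _ = I.S' g * (σ n * I.S g) * I.S' g := by simp only [mul_assoc]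
    _ = σ m * I.S' g := by rw [← h, ← mul_assoc, I.inv_S, one_mul]

variable [σ.IsIrreducible]

theorem exists_factor (g h : G) : ∃ c : ℂ, c ≠ 0 ∧ I.S g * I.S h = c • I.S (g * h) := by
  have hcomm : ∀ n : N, Commute (I.S' (g * h) * (I.S g * I.S h)) (σ n) := by
    intro n
    rw [Commute, SemiconjBy]
    simp only [mul_assoc]
    rw [I.intertwine h n]
    rw [← mul_assoc (I.S g), I.intertwine g]
    simp only [← mul_assoc]
    rw [I.intertwine' (g * h)]
    refine congrArg (fun x => x * I.S g * I.S h) (congrArg (fun x => x * I.S' (g * h)) ?_)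
    exact congrArg σ (Subtype.ext (by simp [mul_assoc]))
  obtain ⟨c, hc⟩ := Cfsg.Agent.CharClifford.exists_scalar_of_commute σ _ hcomm
  have he : I.S g * I.S h = c • I.S (g * h) := by
    calc I.S g * I.S h = I.S (g * h) * (I.S' (g * h) * (I.S g * I.S h)) := by
          rw [← mul_assoc, I.S_inv, one_mul]
      _ = _ := by rw [hc, mul_smul_comm, mul_one]
  refine ⟨c, fun h0 => ?_, he⟩
  rw [h0, zero_smul] at he
  have : Nontrivial W := Module.nontrivial_of_finrank_pos
    (R := ℂ) (Cfsg.Agent.CharClifford.finrank_pos_of_irreducible σ)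
  have h1 : (1 : W →ₗ[ℂ] W) = 0 :=
    calc (1 : W →ₗ[ℂ] W) = I.S' h * (I.S' g * (I.S g * I.S h)) := by
          rw [← mul_assoc (I.S' g), I.inv_S, one_mul, I.inv_S]
      _ = 0 := by rw [he, mul_zero, mul_zero]
  exact one_ne_zero h1

/-- The factor set. -/
noncomputable def factor (g h : G) : ℂˣ :=
  Units.mk0 (I.exists_factor g h).choose (I.exists_factor g h).choose_spec.1

theorem S_mul (g h : G) : I.S g * I.S h = (I.factor g h : ℂ) • I.S (g * h) :=
  (I.exists_factor g h).choose_spec.2

theorem S'_mul (g h : G) : I.S' h * I.S' g = ((I.factor g h : ℂ))⁻¹ • I.S' (g * h) := by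
  have h1 : (I.S g * I.S h) * (((I.factor g h : ℂ))⁻¹ • I.S' (g * h)) = 1 := by
    rw [I.S_mul, smul_mul_smul_comm, mul_inv_cancel₀ (Units.ne_zero _), one_smul, I.S_inv]
  calc I.S' h * I.S' g = I.S' h * I.S' g *
        ((I.S g * I.S h) * (((I.factor g h : ℂ))⁻¹ • I.S' (g * h))) := by rw [h1, mul_one]
    _ = I.S' h * ((I.S' g * I.S g) * (I.S h * (((I.factor g h : ℂ))⁻¹ • I.S' (g * h)))) := by
        simp only [mul_assoc]
    _ = (I.S' h * I.S h) * (((I.factor g h : ℂ))⁻¹ • I.S' (g * h)) := by
        rw [I.inv_S, one_mul, mul_assoc]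
    _ = _ := by rw [I.inv_S, one_mul]

variable (ρ : Representation ℂ G V)

/-- The projective action on the multiplicity space. -/
noncomputable def Q (g : G) :
    Representation.IntertwiningMap σ (ρ.comp N.subtype) →ₗ[ℂ]
      Representation.IntertwiningMap σ (ρ.comp N.subtype) where
  toFun f := LinearMap.intertwiningMap_of_isIntertwiningMap _ _
    (ρ g ∘ₗ f.toLinearMap ∘ₗ I.S' g) fun n w => by
      have h1 := LinearMap.congr_fun (I.intertwine' g n) w
      simp only [Module.End.mul_apply] at h1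
      simp only [LinearMap.comp_apply, Representation.IntertwiningMap.coe_toLinearMap, h1]
      rw [Representation.IntertwiningMap.isIntertwining σ (ρ.comp N.subtype)]
      change ρ g (ρ (g⁻¹ * (n : G) * g) (f (I.S' g w))) = ρ (n : G) (ρ g (f (I.S' g w)))
      rw [← Module.End.mul_apply, ← map_mul, ← Module.End.mul_apply, ← map_mul]
      simp [mul_assoc]
  map_add' f f' := Representation.IntertwiningMap.ext (LinearMap.ext fun w => by
    show ρ g ((f + f') (I.S' g w)) = ρ g (f (I.S' g w)) + ρ g (f' (I.S' g w))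
    simp)
  map_smul' c f := Representation.IntertwiningMap.ext (LinearMap.ext fun w => by
    show ρ g ((c • f) (I.S' g w)) = c • ρ g (f (I.S' g w))
    simp)

theorem Q_apply (g : G) (f : Representation.IntertwiningMap σ (ρ.comp N.subtype)) (w : W) :
    I.Q ρ g f w = ρ g (f (I.S' g w)) := rfl

theorem Q_mul (g h : G) : I.Q ρ g * I.Q ρ h = ((I.factor g h : ℂ))⁻¹ • I.Q ρ (g * h) := by
  refine LinearMap.ext fun f => Representation.IntertwiningMap.ext (LinearMap.ext fun w => ?_)
  show ρ g (ρ h (f (I.S' h (I.S' g w)))) = (I.factor g h : ℂ)⁻¹ • ρ (g * h) (f (I.S' (g * h) w))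
  have h1 := LinearMap.congr_fun (I.S'_mul g h) w
  simp only [Module.End.mul_apply, LinearMap.smul_apply] at h1
  rw [h1, map_smul, map_smul, map_smul, map_mul, Module.End.mul_apply]

theorem Q_of_mem {n : G} (hn : n ∈ N) : I.Q ρ n = 1 := by
  refine LinearMap.ext fun f => Representation.IntertwiningMap.ext (LinearMap.ext fun w => ?_)
  show ρ n (f (I.S' n w)) = f w
  have h1 : (ρ.comp N.subtype) ⟨n, hn⟩ (f (I.S' n w)) = ρ n (f (I.S' n w)) := rfl
  rw [← h1, ← Representation.IntertwiningMap.isIntertwining σ (ρ.comp N.subtype),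
    ← I.restrict ⟨n, hn⟩, ← Module.End.mul_apply, I.S_inv, Module.End.one_apply]

theorem det_Q_ne_zero (g : G) : LinearMap.det (I.Q ρ g) ≠ 0 := by
  intro h0
  have h1 := congrArg LinearMap.det (I.Q_mul ρ g g⁻¹)
  rw [map_mul, h0, zero_mul, LinearMap.det_smul, mul_inv_cancel, I.Q_of_mem ρ N.one_mem,
    map_one, mul_one] at h1
  exact pow_ne_zero _ (inv_ne_zero (Units.ne_zero _)) h1.symm

/-- The exponents at which the factor set becomes a coboundary trivial on `N`. -/
def exponents : AddSubgroup ℤ where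
  carrier := {k | ∃ γ : G → ℂˣ, (∀ n ∈ N, γ n = 1) ∧
    ∀ g h, γ g * γ h = I.factor g h ^ k * γ (g * h)}
  zero_mem' := ⟨1, fun _ _ => rfl, fun g h => by simp⟩
  add_mem' := by
    rintro a b ⟨γ, h1, h2⟩ ⟨δ, h3, h4⟩
    refine ⟨γ * δ, fun n hn => by simp [h1 n hn, h3 n hn], fun g h => ?_⟩
    simp only [Pi.mul_apply]
    rw [mul_mul_mul_comm, h2, h4, zpow_add, mul_mul_mul_comm]
  neg_mem' := by
    rintro a ⟨γ, h1, h2⟩
    refine ⟨γ⁻¹, fun n hn => by simp [h1 n hn], fun g h => ?_⟩
    simp only [Pi.inv_apply]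
    rw [← mul_inv, h2, mul_inv, zpow_neg]

theorem finrank_mem_exponents :
    (finrank ℂ (Representation.IntertwiningMap σ (ρ.comp N.subtype)) : ℤ) ∈ I.exponents := by
  refine ⟨fun g => (Units.mk0 _ (I.det_Q_ne_zero ρ g))⁻¹, fun n hn => ?_, fun g h => ?_⟩
  · rw [inv_eq_one]
    refine Units.ext ?_
    rw [Units.val_mk0, I.Q_of_mem ρ hn, map_one, Units.val_one]
  · refine Units.ext ?_
    have h1 := congrArg LinearMap.det (I.Q_mul ρ g h)
    rw [map_mul, LinearMap.det_smul] at h1
    simp only [Units.val_mul, Units.val_inv_eq_inv_val, Units.val_mk0, zpow_natCast,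
      Units.val_pow_eq_pow_val]
    rw [← mul_inv, h1, mul_inv, inv_pow, inv_inv]

/-- When the exponent `1` occurs, the representation extends. -/
theorem exists_extension (h1 : (1 : ℤ) ∈ I.exponents) :
    ∃ τ : Representation ℂ G W, ∀ n : N, τ n = σ n := by
  obtain ⟨γ, hγN, hγ⟩ := h1
  refine ⟨{ toFun := fun g => ((γ g : ℂ))⁻¹ • I.S g, map_one' := ?_, map_mul' := fun g h => ?_ },
    fun n => ?_⟩
  · rw [hγN 1 N.one_mem, Units.val_one, inv_one, one_smul,
      show I.S 1 = σ 1 from I.restrict (1 : N), map_one]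
  · rw [smul_mul_smul_comm, I.S_mul, smul_smul, ← mul_inv]
    congr 1
    have := congrArg Units.val (hγ g h)
    rw [Units.val_mul, Units.val_mul, zpow_one] at this
    rw [this, mul_inv, mul_right_comm, inv_mul_cancel₀ (Units.ne_zero _), one_mul]
  · show ((γ (n : G) : ℂ))⁻¹ • I.S n = σ n
    rw [hγN n n.2, Units.val_one, inv_one, one_smul, I.restrict]

/-- An endomorphism of the multiplicity space of an irreducible representation commuting with the
projective action is a scalar. -/
theorem scalar_of_commute_Q [ρ.IsIrreducible]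
    (hdim : finrank ℂ (Representation.IntertwiningMap σ (ρ.comp N.subtype)) * finrank ℂ W
      = finrank ℂ V)
    (M : Representation.IntertwiningMap σ (ρ.comp N.subtype) →ₗ[ℂ]
      Representation.IntertwiningMap σ (ρ.comp N.subtype))
    (hM : ∀ g, I.Q ρ g * M = M * I.Q ρ g) : ∃ c : ℂ, M = c • 1 := by
  classical
  let U := Representation.IntertwiningMap σ (ρ.comp N.subtype)
  let b := Module.finBasis ℂ U
  let ev : ∀ _ : Fin (finrank ℂ U) → U, (Fin (finrank ℂ U) → W) →ₗ[ℂ] V :=
    fun f => ∑ i, (f i).toLinearMap ∘ₗ LinearMap.proj i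
  set Φ := ev b with hΦ
  have hev : ∀ f v, ev f v = ∑ i, f i (v i) := fun f v => by simp [ev]
  have hlin : ∀ (T : U →ₗ[ℂ] U) (f : U) (w : W),
      ev (fun i => T (b i)) (fun i => (b.repr f i) • w) = T f w := by
    intro T f w
    rw [hev]
    conv_rhs => rw [← b.sum_repr f, map_sum, Representation.IntertwiningMap.sum_apply]
    refine Finset.sum_congr rfl fun i _ => ?_
    rw [map_smul, map_smul]
    rfl
  have hspan : ∀ (f : U) (w : W), f w ∈ LinearMap.range Φ :=
    fun f w => ⟨fun i => (b.repr f i) • w, hlin LinearMap.id f w⟩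
  have hrho : ∀ (g : G) (f : U) (w : W), ρ g (f w) = I.Q ρ g f (I.S g w) := by
    intro g f w
    rw [I.Q_apply, ← Module.End.mul_apply (I.S' g), I.inv_S, Module.End.one_apply]
  let R : Subrepresentation ρ := ⟨LinearMap.range Φ, by
    rintro g _ ⟨v, rfl⟩
    rw [hΦ, hev, map_sum]
    exact Submodule.sum_mem _ fun i _ => by rw [hrho]; exact hspan _ _⟩
  have hk : 0 < finrank ℂ U := by
    have := Cfsg.Agent.CharClifford.finrank_pos_of_irreducible ρ
    rw [← hdim] at this
    exact pos_of_mul_pos_left this (Nat.zero_le _)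
  have hsurj : LinearMap.range Φ = ⊤ := by
    have hirr : ρ.IsIrreducible := inferInstance
    rcases hirr.eq_bot_or_eq_top R with h | h
    · exfalso
      have h' : LinearMap.range Φ = ⊥ := congrArg Subrepresentation.toSubmodule h
      refine b.ne_zero ⟨0, hk⟩ (Representation.IntertwiningMap.ext (LinearMap.ext fun w => ?_))
      have h2 := hspan (b ⟨0, hk⟩) w
      rw [h', Submodule.mem_bot] at h2
      exact h2
    · exact congrArg Subrepresentation.toSubmodule h
  have hinj : Function.Injective Φ :=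
    (LinearMap.injective_iff_surjective_of_finrank_eq_finrank
      (by rw [Module.finrank_pi_fintype, Finset.sum_const, Finset.card_univ, Fintype.card_fin,
        smul_eq_mul, hdim])).2 (LinearMap.range_eq_top.1 hsurj)
  let e := LinearEquiv.ofBijective Φ ⟨hinj, LinearMap.range_eq_top.1 hsurj⟩
  let T : V →ₗ[ℂ] V := ev (fun i => M (b i)) ∘ₗ e.symm.toLinearMap
  have hT : ∀ (f : U) (w : W), T (f w) = M f w := by
    intro f w
    have : e.symm (f w) = fun i => (b.repr f i) • w :=
      e.symm_apply_eq.2 (hlin LinearMap.id f w).symm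
    show ev (fun i => M (b i)) (e.symm (f w)) = M f w
    rw [this, hlin]
  obtain ⟨c, hc⟩ := Cfsg.Agent.CharClifford.exists_scalar_of_commute ρ T fun g => by
    refine LinearMap.ext fun v => ?_
    obtain ⟨x, rfl⟩ := e.surjective v
    change T (ρ g (Φ x)) = ρ g (T (Φ x))
    rw [hΦ, hev]
    simp only [map_sum]
    refine Finset.sum_congr rfl fun i _ => ?_
    rw [hrho, hT, hT, hrho, ← Module.End.mul_apply, ← hM g, Module.End.mul_apply]
  refine ⟨c, LinearMap.ext fun f => Representation.IntertwiningMap.ext (LinearMap.ext fun w => ?_)⟩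
  show M f w = c • f w
  rw [← hT, hc]
  rfl

include I in
/-- The multiplicity of an irreducible representation divides the index. -/
theorem finrank_dvd_index [ρ.IsIrreducible]
    (hdim : finrank ℂ (Representation.IntertwiningMap σ (ρ.comp N.subtype)) * finrank ℂ W
      = finrank ℂ V) :
    finrank ℂ (Representation.IntertwiningMap σ (ρ.comp N.subtype)) ∣ N.index := by
  classical
  let U := Representation.IntertwiningMap σ (ρ.comp N.subtype)
  let b := Module.finBasis ℂ U
  have hk : 0 < finrank ℂ U := by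
    have := Cfsg.Agent.CharClifford.finrank_pos_of_irreducible ρ
    rw [← hdim] at this
    exact pos_of_mul_pos_left this (Nat.zero_le _)
  let mx := LinearMap.toMatrixAlgEquiv b
  -- normalise the determinants
  have hroot : ∀ g : G, ∃ l : ℂ, l ≠ 0 ∧ (l • mx (I.Q ρ g)).det = 1 := by
    intro g
    have hd : (mx (I.Q ρ g)).det ≠ 0 := by
      rw [show (mx (I.Q ρ g)).det = LinearMap.det (I.Q ρ g) from LinearMap.det_toMatrix b _]
      exact I.det_Q_ne_zero ρ g
    obtain ⟨l, hl⟩ := IsAlgClosed.exists_pow_nat_eq ((mx (I.Q ρ g)).det)⁻¹ hk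
    refine ⟨l, ?_, by rw [Matrix.det_smul, Fintype.card_fin, hl, inv_mul_cancel₀ hd]⟩
    rintro rfl
    rw [zero_pow hk.ne'] at hl
    exact inv_ne_zero hd hl.symm
  choose l hl0 hl using hroot
  let R : G → (Matrix (Fin (finrank ℂ U)) (Fin (finrank ℂ U)) ℂ)ˣ := fun g =>
    (Matrix.isUnit_iff_isUnit_det _).2 (by rw [hl g]; exact isUnit_one) |>.unit
  have hR : ∀ g, (R g).val = l g • mx (I.Q ρ g) := fun g => rfl
  refine dvd_index_of_projective_aux N hk R hl ?_ ?_ ?_
  · intro g h
    refine ⟨l g * l h * (I.factor g h : ℂ)⁻¹ * (l (g * h))⁻¹, ?_⟩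
    rw [hR, hR, hR, smul_mul_smul_comm, ← map_mul, I.Q_mul, map_smul, smul_smul, smul_smul,
      mul_assoc _ (l (g * h))⁻¹, inv_mul_cancel₀ (hl0 _), mul_one]
  · intro n hn
    exact ⟨l n, by rw [hR, I.Q_of_mem ρ hn, map_one]⟩
  · intro M hM
    obtain ⟨M', rfl⟩ := mx.surjective M
    obtain ⟨c, hc⟩ := I.scalar_of_commute_Q ρ hdim M' fun g => by
      refine mx.injective ?_
      have := hM g
      rw [hR, smul_mul_assoc, mul_smul_comm] at this
      rw [map_mul, map_mul]
      exact smul_right_injective _ (hl0 g) this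
    exact ⟨c, by rw [hc, map_smul, map_one]⟩

end Intertwiners

end Cfsg.Agent.CharB
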