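import Cfsg.Agent.Lib.CharCore.Linear

/-!
An invariant homomorphism of a normal `p'`-subgroup that is trivial on the fixed points of a
`p`-subgroup supplementing it is trivial.
-/

set_option autoImplicit false

namespace Cfsg.Agent.CharB

theorem hom_eq_one_of_fixed_in_ker {G : Type*} [Group G] [Finite G] (p : ℕ) [Fact p.Prime]
    (C P : Subgroup G) [hC : C.Normal] (hP : IsPGroup p P) (hcop : Nat.Coprime (Nat.card C) p)
    (_hCP : C ⊔ P = ⊤) {A : Type*} [CommGroup A] (f : C →* A)
    (hinv : ∀ (g : G) (c : C), f ⟨g * c * g⁻¹, hC.conj_mem (c : G) c.2 g⟩ = f c)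
    (hker : ∀ c : C, (c : G) ∈ Subgroup.centralizer (P : Set G) → f c = 1) (c : C) : f c = 1 := by
  let X := {d : C // f d = f c}
  let : MulAction P X :=
    { smul := fun x d => ⟨⟨(x : G) * d.1 * (x : G)⁻¹, hC.conj_mem _ d.1.2 x⟩, (hinv x d.1).trans d.2⟩
      one_smul := fun d => Subtype.ext (Subtype.ext (by simp [HSMul.hSMul]))
      mul_smul := fun x y d => Subtype.ext (Subtype.ext (by simp [HSMul.hSMul, mul_assoc])) }
  have hcard : Nat.card X = Nat.card f.ker := by
    refine Nat.card_congr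
      { toFun := fun d => ⟨c⁻¹ * d.1, by rw [MonoidHom.mem_ker, map_mul, map_inv, d.2, inv_mul_cancel]⟩
        invFun := fun k => ⟨c * k.1, by rw [map_mul, MonoidHom.mem_ker.1 k.2, mul_one]⟩
        left_inv := fun d => by ext; simp
        right_inv := fun k => by ext; simp }
  have hndvd : ¬ p ∣ Nat.card X := by
    rw [hcard]
    intro h
    have h1 : p ∣ Nat.card C := h.trans (Subgroup.card_subgroup_dvd_card f.ker)
    exact (Fact.out : p.Prime).ne_one (Nat.eq_one_of_dvd_coprimes hcop h1 dvd_rfl)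
  obtain ⟨d, hd⟩ := hP.nonempty_fixed_point_of_prime_not_dvd_card X hndvd
  rw [← d.2]
  refine hker d.1 (Subgroup.mem_centralizer_iff.2 fun x hx => ?_)
  have h1 : x * (d.1 : G) * x⁻¹ = d.1 :=
    congrArg (fun z : X => ((z.1 : C) : G)) (hd ⟨x, hx⟩)
  exact mul_inv_eq_iff_eq_mul.1 h1

end Cfsg.Agent.CharB
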