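import Cfsg.Agent.CharB.CliffordProj
import Cfsg.Agent.CharDeep.Ext.Main

/-!
Invariant irreducible characters extend across cyclic quotients.
-/

set_option autoImplicit false

open Module

namespace Cfsg.Agent.CharB

universe u

variable {G : Type u} [Group G] [Finite G] {N : Subgroup G} [hN : N.Normal]
  {W : Type*} [AddCommGroup W] [Module ℂ W] [FiniteDimensional ℂ W]

namespace Intertwiners

variable {σ : Representation ℂ N W} (I : Intertwiners σ)

/-- The intertwiner as a unit. -/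
def unitS (g : G) : (W →ₗ[ℂ] W)ˣ := ⟨I.S g, I.S' g, I.S_inv g, I.inv_S g⟩

variable [σ.IsIrreducible]

include I in
/-- An irreducible representation with intertwiners extends across a cyclic quotient. -/
theorem exists_extension_of_cyclic (hcyc : IsCyclic (G ⧸ N)) :
    ∃ τ : Representation ℂ G W, ∀ n : N, τ n = σ n := by
  classical
  obtain ⟨q0, hq0⟩ := IsCyclic.exists_generator (α := G ⧸ N)
  obtain ⟨g0, rfl⟩ := QuotientGroup.mk_surjective q0
  set m := orderOf (g0 : G ⧸ N) with hm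
  have hgm : g0 ^ m ∈ N := by
    rw [← QuotientGroup.eq_one_iff, QuotientGroup.mk_pow, pow_orderOf_eq_one]
  have hmpos : 0 < m := orderOf_pos _
  have hpowS : ∀ j : ℕ, ∃ c : ℂ, c ≠ 0 ∧ I.S g0 ^ j = c • I.S (g0 ^ j) := by
    intro j
    induction j with
    | zero => exact ⟨1, one_ne_zero, by
        rw [pow_zero, pow_zero, one_smul, show I.S 1 = σ 1 from I.restrict (1 : N), map_one]⟩
    | succ j ih =>
      obtain ⟨c, hc0, hc⟩ := ih
      refine ⟨c * (I.factor (g0 ^ j) g0 : ℂ), mul_ne_zero hc0 (Units.ne_zero _), ?_⟩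
      rw [pow_succ, pow_succ, hc, smul_mul_assoc, I.S_mul, smul_smul]
  obtain ⟨c, hc0, hc⟩ := hpowS m
  obtain ⟨l, hl⟩ := IsAlgClosed.exists_pow_nat_eq c⁻¹ hmpos
  have hl0 : l ≠ 0 := by
    rintro rfl
    rw [zero_pow hmpos.ne'] at hl
    exact inv_ne_zero hc0 hl.symm
  let T : (W →ₗ[ℂ] W)ˣ := Units.map (algebraMap ℂ (W →ₗ[ℂ] W)).toMonoidHom (Units.mk0 l hl0)
    * I.unitS g0
  have hT : (T : W →ₗ[ℂ] W) = l • I.S g0 := by
    rw [Algebra.smul_def]
    rfl
  clear_value T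
  let su : N →* (W →ₗ[ℂ] W)ˣ := σ.asGroupHom
  have hsu : ∀ n : N, ((su n : (W →ₗ[ℂ] W)ˣ) : W →ₗ[ℂ] W) = σ n := fun n => rfl
  have hTm : T ^ m = su ⟨g0 ^ m, hgm⟩ := by
    refine Units.ext ?_
    rw [Units.val_pow_eq_pow_val, hT, smul_pow, hl, hc, smul_smul, inv_mul_cancel₀ hc0, one_smul,
      hsu, ← I.restrict]
  have hconj : ∀ (j : ℤ) (x : N), T ^ j * su x =
      su ⟨g0 ^ j * x * (g0 ^ j)⁻¹, hN.conj_mem (x : G) x.2 _⟩ * T ^ j := by
    have h1 : ∀ x : N, T * su x = su ⟨g0 * x * g0⁻¹, hN.conj_mem (x : G) x.2 _⟩ * T := fun x => by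
      refine Units.ext ?_
      rw [Units.val_mul, Units.val_mul, hT, hsu, hsu, smul_mul_assoc, mul_smul_comm, I.intertwine]
    intro j
    induction j using Int.induction_on with
    | zero => exact fun x => by simp
    | succ j ih =>
      intro x
      rw [zpow_add_one, mul_assoc, h1, ← mul_assoc, ih, mul_assoc, ← zpow_add_one]
      congr 2
      refine Subtype.ext ?_
      show g0 ^ (j : ℤ) * (g0 * x * g0⁻¹) * (g0 ^ (j : ℤ))⁻¹
        = g0 ^ ((j : ℤ) + 1) * x * (g0 ^ ((j : ℤ) + 1))⁻¹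
      group
    | pred j ih =>
      intro x
      set y : N := ⟨g0⁻¹ * x * g0, by simpa using hN.conj_mem (x : G) x.2 g0⁻¹⟩ with hy
      have h2 : su x * T = T * su y := by
        rw [h1]
        congr 2
        exact Subtype.ext (by simp [hy, mul_assoc])
      have h3 : T⁻¹ * su x = su y * T⁻¹ := by
        rw [eq_mul_inv_iff_mul_eq, mul_assoc, h2, inv_mul_cancel_left]
      rw [zpow_sub_one, mul_assoc, h3, ← mul_assoc, ih, mul_assoc, ← zpow_sub_one]
      congr 2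
      refine Subtype.ext ?_
      show g0 ^ (-(j : ℤ)) * (g0⁻¹ * x * g0) * (g0 ^ (-(j : ℤ)))⁻¹
        = g0 ^ (-(j : ℤ) - 1) * x * (g0 ^ (-(j : ℤ) - 1))⁻¹
      group
  have hex : ∀ g : G, ∃ (i : ℤ) (n : N), g = g0 ^ i * n := by
    intro g
    obtain ⟨i, hi⟩ := Subgroup.mem_zpowers_iff.1 (hq0 (g : G ⧸ N))
    refine ⟨i, ⟨(g0 ^ i)⁻¹ * g, ?_⟩, by simp⟩
    rw [← QuotientGroup.eq, QuotientGroup.mk_zpow, hi]
  have huniq : ∀ (i j : ℤ) (n n' : N), g0 ^ i * (n : G) = g0 ^ j * n' →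
      T ^ i * su n = T ^ j * su n' := by
    intro i j n n' h
    have hd : g0 ^ (i - j) = (g0 ^ j)⁻¹ * (g0 ^ i * (n : G)) * (n : G)⁻¹ := by group
    rw [h] at hd
    have hd' : g0 ^ (i - j) ∈ N := by
      rw [hd, inv_mul_cancel_left]
      exact N.mul_mem n'.2 (N.inv_mem n.2)
    obtain ⟨q, hq⟩ : (m : ℤ) ∣ i - j := by
      rw [hm, orderOf_dvd_iff_zpow_eq_one, ← QuotientGroup.mk_zpow, QuotientGroup.eq_one_iff]
      exact hd'
    have hTd : T ^ (i - j) = su ⟨g0 ^ (i - j), hd'⟩ := by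
      rw [show T ^ (i - j) = (T ^ m) ^ q by rw [hq, zpow_mul, zpow_natCast], hTm, ← map_zpow]
      exact congrArg su (Subtype.ext (by
        show (g0 ^ m) ^ q = g0 ^ (i - j)
        rw [hq, zpow_mul, zpow_natCast]))
    rw [show i = j + (i - j) by ring, zpow_add, hTd, mul_assoc, ← map_mul]
    congr 2
    refine Subtype.ext ?_
    show g0 ^ (i - j) * (n : G) = n'
    rw [hd]
    group
  choose iG nG hg using hex
  let τu : G →* (W →ₗ[ℂ] W)ˣ := MonoidHom.mk' (fun g => T ^ iG g * su (nG g)) fun a b => by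
    set y : N := ⟨g0 ^ (-iG b) * nG a * (g0 ^ (-iG b))⁻¹, hN.conj_mem (nG a : G) (nG a).2 _⟩
      with hy
    have h2 : su (nG a) * T ^ iG b = T ^ iG b * su y := by
      have h3 := hconj (-iG b) (nG a)
      rw [← hy, zpow_neg, inv_mul_eq_iff_eq_mul, ← mul_assoc, eq_mul_inv_iff_mul_eq] at h3
      exact h3
    have h4 : a * b = g0 ^ (iG a + iG b) * (y * nG b : N) := by
      conv_lhs => rw [hg a, hg b]
      show _ = g0 ^ (iG a + iG b) * (g0 ^ (-iG b) * nG a * (g0 ^ (-iG b))⁻¹ * nG b)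
      group
    refine (huniq _ _ _ _ ((hg (a * b)).symm.trans h4)).trans ?_
    rw [zpow_add, map_mul, mul_assoc (T ^ iG a), ← mul_assoc (T ^ iG b), ← h2]
    simp only [mul_assoc]
  refine ⟨(Units.coeHom (W →ₗ[ℂ] W)).comp τu, fun n => ?_⟩
  show ((T ^ iG (n : G) * su (nG (n : G)) : (W →ₗ[ℂ] W)ˣ) : W →ₗ[ℂ] W) = σ n
  rw [huniq (iG (n : G)) 0 (nG (n : G)) n (by rw [← hg, zpow_zero, one_mul]), zpow_zero, one_mul,
    hsu]

end Intertwiners

variable (N) in
/-- An invariant irreducible character extends across a cyclic quotient. -/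
theorem exists_extension_of_cyclic (hcyc : IsCyclic (G ⧸ N)) {ϑ : N → ℂ}
    (hϑ : Cfsg.IsIrrCharacter N ϑ)
    (hinv : ∀ (g : G) (n : N), ϑ ⟨g * n * g⁻¹, hN.conj_mem (n : G) n.2 g⟩ = ϑ n) :
    ∃ χ : G → ℂ, Cfsg.IsIrrCharacter G χ ∧ ∀ n : N, χ n = ϑ n := by
  obtain ⟨d, σ, hσ, rfl⟩ := hϑ
  have := hσ
  obtain ⟨I⟩ := exists_intertwiners σ hinv
  obtain ⟨τ, hτ⟩ := I.exists_extension_of_cyclic hcyc
  have hres : (fun n : N => τ.character n) = σ.character := funext fun n => by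
    show LinearMap.trace ℂ _ (τ n) = LinearMap.trace ℂ _ (σ n)
    rw [hτ]
  exact ⟨τ.character, Cfsg.Agent.CharDeep.Ext.isIrrCharacter_of_restrict N ⟨d, τ, rfl⟩
    (hres ▸ ⟨d, σ, hσ, rfl⟩), congrFun hres⟩

end Cfsg.Agent.CharB
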