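import Cfsg.Agent.Lib.PGroup.Extraspecial
import Cfsg.Agent.Lib.CharCore.Linear
import Cfsg.Agent.Lib.CharCore.Complete
import Cfsg.Agent.Lib.CharClifford.Central
import Cfsg.Agent.Lib.CharInd.Monomial

/-!
The irreducible characters of an extraspecial group.
-/

set_option autoImplicit false

open Cfsg
open scoped ComplexConjugate commutatorElement

namespace Cfsg.Agent.CharB

universe u

variable {P : Type u} [Group P] [Fintype P] {p n : ℕ} [hpf : Fact p.Prime]
  (hP : IsExtraspecial p P) (hcard : Nat.card P = p ^ (2 * n + 1))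

include hP in
omit [Fintype P] in
theorem exists_conj_eq_mul_center [Finite P] {x : P} (hx : x ∉ Subgroup.center P) {z : P}
    (hz : z ∈ Subgroup.center P) : ∃ y : P, y * x * y⁻¹ = z * x := by
  obtain ⟨y, hy⟩ := PGroup.xs_exists_comm_eq hP hx (Subgroup.inv_mem _ hz)
  refine ⟨y, ?_⟩
  have h := congrArg (fun w => w⁻¹) hy
  simp only [commutatorElement_def, inv_inv, mul_inv_rev] at h
  rw [← h]
  group

include hP hcard in
theorem one_le_of_isExtraspecial : 1 ≤ n := by
  by_contra h0
  obtain rfl : n = 0 := by omega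
  refine PGroup.xs_center_ne_top hP (Subgroup.eq_top_of_card_eq _ ?_)
  rw [hP.2, hcard]
  simp

include hP hcard in
/-- A character vanishing off the centre with squared degree `p ^ (2n)`. -/
theorem degree_cases {χ : P → ℂ} (hχ : IsIrrCharacter P χ) :
    χ 1 = 1 ∨ χ 1 = (p : ℂ) ^ n := by
  classical
  obtain ⟨d, ρ, hρ, rfl⟩ := hχ
  have := hρ
  by_cases hker : ∀ z ∈ Subgroup.center P, ρ z = 1
  · left
    rw [Representation.char_one, CharInd.finrank_eq_one_of_scalar ρ (fun g => ?_), Nat.cast_one]
    obtain ⟨c, hc⟩ := CharClifford.exists_scalar_of_commute ρ (ρ g) fun b => by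
      have h1 := hker _ (PGroup.xs_comm_mem hP g b)
      rw [Commute, SemiconjBy, ← map_mul, ← map_mul,
        show g * b = ⁅g, b⁆ * (b * g) by rw [commutatorElement_def]; group, map_mul, h1, one_mul]
    exact CharInd.mem_scalarSubgroup.mpr ⟨c, fun v => by
      rw [hc, LinearMap.smul_apply, Module.End.one_apply]⟩
  · right
    push Not at hker
    obtain ⟨z, hz, hz1⟩ := hker
    obtain ⟨c, hc⟩ := CharClifford.exists_scalar_of_mem_center ρ hz
    have hc1 : c ≠ 1 := fun h => hz1 (by rw [hc, h, one_smul])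
    have hvan : ∀ x : P, x ∉ Subgroup.center P → ρ.character x = 0 := by
      intro x hx
      obtain ⟨y, hy⟩ := exists_conj_eq_mul_center hP hx hz
      have h1 := Representation.char_conj ρ x y
      rw [hy] at h1
      have h2 : ρ.character (z * x) = c * ρ.character x := by
        simp only [Representation.character, map_mul, hc, smul_mul_assoc, one_mul, map_smul,
          smul_eq_mul]
      rw [h2] at h1
      by_contra h0
      exact hc1 (mul_right_cancel₀ h0 (by rw [h1, one_mul]))
    have hsum := CharClifford.sum_character_mul_inv ρ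
    rw [← Finset.sum_subset (Finset.subset_univ (Finset.univ.filter (· ∈ Subgroup.center P)))
      (fun g _ hg => by rw [hvan g (by simpa using hg), zero_mul]),
      Finset.sum_congr rfl (g := fun _ => (d : ℂ) * d) (fun g hg => ?_), Finset.sum_const,
      ← Fintype.card_subtype, ← Nat.card_eq_fintype_card, nsmul_eq_mul] at hsum
    · rw [Representation.char_one, Module.finrank_fin_fun]
      have h1 : Nat.card {x : P // x ∈ Subgroup.center P} = p := hP.2
      rw [h1, hcard] at hsum
      have h2 : p * (d * d) = p * (p ^ n * p ^ n) := by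
        have : ((p * (d * d) : ℕ) : ℂ) = ((p ^ (2 * n + 1) : ℕ) : ℂ) := by push_cast at hsum ⊢; exact hsum
        rw [Nat.cast_inj.1 this]
        ring
      rw [← Nat.cast_pow, Nat.mul_self_inj.1 (Nat.eq_of_mul_eq_mul_left hpf.out.pos h2)]
    · obtain ⟨a, ha⟩ := CharClifford.exists_scalar_of_mem_center ρ (Finset.mem_filter.1 hg).2
      obtain ⟨b, hb⟩ := CharClifford.exists_scalar_of_mem_center ρ
        (Subgroup.inv_mem _ (Finset.mem_filter.1 hg).2)
      have hab : a * b * (d : ℂ) = d := by
        have h1 := congrArg (LinearMap.trace ℂ _) (map_mul ρ g g⁻¹)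
        rw [mul_inv_cancel, map_one, ha, hb, smul_mul_smul_comm, one_mul, map_smul,
          LinearMap.trace_one, Module.finrank_fin_fun, smul_eq_mul] at h1
        exact h1.symm
      simp only [Representation.character, ha, hb, map_smul, LinearMap.trace_one,
        Module.finrank_fin_fun, smul_eq_mul]
      linear_combination (d : ℂ) * hab

include hP hcard in
theorem card_nonlinear :
    Nat.card {χ : IrrCharacter P // (χ : P → ℂ) 1 = (p : ℂ) ^ n} = p - 1 := by
  classical
  have hn := one_le_of_isExtraspecial hP hcard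
  have hq : (p : ℂ) ^ n ≠ 1 := by
    rw [← Nat.cast_pow, Ne, Nat.cast_eq_one]
    exact (Nat.one_lt_pow (by omega) hpf.out.one_lt).ne'
  have hlin : Nat.card {χ : IrrCharacter P // (χ : P → ℂ) 1 = 1} = p ^ (2 * n) := by
    rw [CharCore.card_linearCharacters, hP.1.2.2]
    have h := (Subgroup.center P).card_mul_index
    rw [hP.2, hcard, pow_succ'] at h
    exact Nat.eq_of_mul_eq_mul_left hpf.out.pos h
  have h := CharCore.sum_degree_sq (G := P)
  rw [← Finset.sum_filter_add_sum_filter_not Finset.univ
    (fun χ : IrrCharacter P => (χ : P → ℂ) 1 = 1)] at h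
  have hnot : (Finset.univ.filter fun χ : IrrCharacter P => ¬(χ : P → ℂ) 1 = 1)
      = Finset.univ.filter fun χ : IrrCharacter P => (χ : P → ℂ) 1 = (p : ℂ) ^ n := by
    ext χ
    simp only [Finset.mem_filter, Finset.mem_univ, true_and]
    rcases degree_cases hP hcard χ.2 with h1 | h1
    · simp [h1, Ne.symm hq]
    · simp [h1, hq]
  rw [hnot, Finset.sum_congr (g := fun _ => (1 : ℂ)) (rfl : Finset.univ.filter
      (fun χ : IrrCharacter P => (χ : P → ℂ) 1 = 1) = _) (fun χ hχ => by
      rw [(Finset.mem_filter.1 hχ).2, one_pow]),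
    Finset.sum_congr (g := fun _ => ((p : ℂ) ^ n) ^ 2) (rfl : Finset.univ.filter
      (fun χ : IrrCharacter P => (χ : P → ℂ) 1 = (p : ℂ) ^ n) = _) (fun χ hχ => by
      rw [(Finset.mem_filter.1 hχ).2]),
    Finset.sum_const, Finset.sum_const, ← Fintype.card_subtype, ← Fintype.card_subtype,
    ← Nat.card_eq_fintype_card, ← Nat.card_eq_fintype_card, hlin, hcard, nsmul_eq_mul,
    nsmul_eq_mul, mul_one] at h
  set k := Nat.card {χ : IrrCharacter P // (χ : P → ℂ) 1 = (p : ℂ) ^ n}
  have h' : p ^ (2 * n) + k * (p ^ n) ^ 2 = p ^ (2 * n + 1) := by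
    apply Nat.cast_injective (R := ℂ)
    push_cast at h ⊢
    exact h
  have h2 : (1 + k) * p ^ (2 * n) = p * p ^ (2 * n) := by
    rw [← pow_succ', ← h']
    ring
  have := Nat.eq_of_mul_eq_mul_right (pow_pos hpf.out.pos _) h2
  omega

include hP hcard in
theorem induced_irreducible (A : Subgroup P) (hA : Nat.card A = p ^ (n + 1)) (l : A →* ℂˣ)
    (hZ : ∃ a : A, (a : P) ∈ Subgroup.center P ∧ l a ≠ 1) :
    IsIrrCharacter P (indFun A fun a => (l a : ℂ)) ∧
      ∀ x : P, x ∉ Subgroup.center P → indFun A (fun a => (l a : ℂ)) x = 0 := by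
  classical
  obtain ⟨a, ha, hla⟩ := hZ
  have ha1 : (a : P) ≠ 1 := fun h => hla (by rw [show a = 1 from Subtype.ext h, map_one])
  have hle : Subgroup.center P ≤ A := fun w hw => by
    obtain ⟨k, rfl⟩ := PGroup.xs_exists_pow_eq hP ha ha1 hw
    exact A.pow_mem a.2 k
  set f : A → ℂ := fun a => (l a : ℂ) with hf
  set F := indFun A f with hF
  have hmul : ∀ (z : P) (hz : z ∈ Subgroup.center P) (x : P),
      F (z * x) = f ⟨z, hle hz⟩ * F x := by
    intro z hz x
    rw [hF, CharInd.indFun_apply, CharInd.indFun_apply, mul_left_comm (f _)]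
    congr 1
    rw [Finset.mul_sum]
    refine Finset.sum_congr rfl fun y _ => ?_
    have he : y⁻¹ * (z * x) * y = z * (y⁻¹ * x * y) := by
      rw [← mul_assoc y⁻¹ z x, Subgroup.mem_center_iff.1 hz y⁻¹]
      simp only [mul_assoc]
    rw [he]
    by_cases hw : y⁻¹ * x * y ∈ A
    · rw [CharInd.extendByZero_mem _ (A.mul_mem (hle hz) hw), CharInd.extendByZero_mem _ hw, hf]
      simp only
      rw [← Units.val_mul, ← map_mul]
      rfl
    · rw [CharInd.extendByZero_notMem _ hw, CharInd.extendByZero_notMem _ fun h => hw (by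
        have := A.mul_mem (A.inv_mem (hle hz)) h
        rwa [inv_mul_cancel_left] at this), mul_zero]
  have hvan : ∀ x : P, x ∉ Subgroup.center P → F x = 0 := by
    intro x hx
    obtain ⟨y, hy⟩ := exists_conj_eq_mul_center hP hx ha
    have h1 : F (y * x * y⁻¹) = F x := CharInd.isClassFunction_indFun A f x y
    rw [hy, hmul _ ha] at h1
    by_contra h0
    exact hla (Units.ext (mul_right_cancel₀ h0 (h1.trans (one_mul _).symm)))
  refine ⟨CharCore.isIrrCharacter_iff.2 ⟨CharInd.isCharacter_indFun A
    (CharCore.IsIrrCharacter.isCharacter (CharCore.isIrrCharacter_hom l)), ?_⟩, hvan⟩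
  have hidx : A.index = p ^ n := by
    have h := A.card_mul_index
    rw [hA, hcard, show 2 * n + 1 = (n + 1) + n by ring, pow_add p (n + 1) n] at h
    exact Nat.eq_of_mul_eq_mul_left (pow_pos hpf.out.pos _) h
  have hsq : ∀ z ∈ Subgroup.center P, F z * conj (F z) = ((p : ℂ) ^ n) ^ 2 := by
    intro z hz
    have h1 := hmul z hz 1
    rw [mul_one] at h1
    have hF1 : F 1 = (p : ℂ) ^ n := by
      simp only [hF, CharInd.indFun_apply_one, hidx, hf, map_one, Units.val_one, mul_one, Nat.cast_pow]
    rw [h1, hF1, map_mul, map_pow, map_natCast, mul_mul_mul_comm, Complex.mul_conj',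
      CharCore.norm_hom_apply l ⟨z, hle hz⟩]
    push_cast
    ring
  rw [CharCore.classInner_def,
    ← Finset.sum_subset (Finset.subset_univ (Finset.univ.filter (· ∈ Subgroup.center P)))
      (fun g _ hg => by rw [hvan g (by simpa using hg), zero_mul]),
    Finset.sum_congr rfl (fun g hg => hsq g (Finset.mem_filter.1 hg).2), Finset.sum_const,
    ← Fintype.card_subtype, ← Nat.card_eq_fintype_card, nsmul_eq_mul]
  have h1 : Nat.card {x : P // x ∈ Subgroup.center P} = p := hP.2
  rw [h1, hcard, inv_mul_eq_iff_eq_mul₀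
    (Nat.cast_ne_zero.2 (pow_pos hpf.out.pos _).ne'), mul_one]
  push_cast
  ring

end Cfsg.Agent.CharB
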