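import Cfsg.Agent.CharB.PermChar
import Cfsg.Agent.Lib.CharInd.Brauer

/-!
Brauer induction for a single prime.
-/

set_option autoImplicit false

open Cfsg
open Cfsg.Agent.CharInd

namespace Cfsg.Agent.CharB

universe u

/-- A nilpotent `p`-quasi-elementary group is `p`-elementary. -/
theorem isElementary_of_nilpotent {E : Type u} [Group E] [Finite E] {p : ℕ} (hp : p.Prime)
    [Group.IsNilpotent E] (h : IsQuasiElem p E) : IsElementary p E := by
  obtain ⟨C, hCn, hcyc, hcop, k, hk⟩ := h
  haveI : Fact p.Prime := ⟨hp⟩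
  obtain ⟨P⟩ : Nonempty (Sylow p E) := inferInstance
  haveI : (P : Subgroup E).Normal :=
    Sylow.normal_of_normalizerCondition Group.normalizerCondition_of_isNilpotent P
  have htop : (P : Subgroup E) ⊔ C = ⊤ := by
    apply Subgroup.index_eq_one.1
    have h1 : ((P : Subgroup E) ⊔ C).index ∣ p ^ k := hk ▸ Subgroup.index_dvd_of_le le_sup_right
    have h2 : ¬ p ∣ ((P : Subgroup E) ⊔ C).index := fun h =>
      P.not_dvd_index (h.trans (Subgroup.index_dvd_of_le le_sup_left))
    obtain ⟨j, -, hj⟩ := (Nat.dvd_prime_pow hp).1 h1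
    rcases Nat.eq_zero_or_pos j with rfl | hj0
    · simpa using hj
    · exact absurd (hj ▸ dvd_pow_self p hj0.ne') h2
  have hd : Disjoint (P : Subgroup E) C := by
    obtain ⟨m, hm⟩ := P.2.exists_card_eq
    refine Subgroup.disjoint_of_coprime_natCard ?_
    rw [hm]
    exact (hcop.symm).pow_left m
  obtain ⟨⟨c, hc⟩, hgen⟩ := IsCyclic.exists_generator (α := C)
  have hCc : Subgroup.zpowers c = C := by
    refine le_antisymm (Subgroup.zpowers_le.2 hc) fun a ha => ?_
    obtain ⟨i, hi⟩ := Subgroup.mem_zpowers_iff.1 (hgen ⟨a, ha⟩)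
    exact Subgroup.mem_zpowers_iff.2 ⟨i, congrArg Subtype.val hi⟩
  refine ⟨c, Subgroup.mem_center_iff.2 fun a => ?_, ?_, k, by rw [hCc]; exact hk⟩
  · have hle : (P : Subgroup E) ⊔ C ≤ Subgroup.centralizer {c} := by
      refine sup_le (fun x hx => ?_) (fun x hx => ?_)
      · rw [Subgroup.mem_centralizer_singleton_iff]
        exact Subgroup.commute_of_normal_of_disjoint _ _ inferInstance hCn hd x c hx hc
      · rw [Subgroup.mem_centralizer_singleton_iff]
        rw [← hCc] at hx
        obtain ⟨i, rfl⟩ := Subgroup.mem_zpowers_iff.1 hx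
        exact (Commute.zpow_self c i).eq
    exact Subgroup.mem_centralizer_singleton_iff.1 (hle (htop ▸ Subgroup.mem_top a))
  · rw [← Nat.card_zpowers, hCc]
    exact hcop

variable {G : Type u} [Group G] [Fintype G]

/-- Combinations of functions induced from characters of `p`-elementary subgroups. -/
def IsLocalComb (p : ℕ) (f : G → ℂ) : Prop :=
  ∃ l : List ((E : Subgroup G) × ((E → ℂ) × ℤ)),
    (∀ t ∈ l, IsElementary p t.1 ∧ IsCharacter t.1 t.2.1) ∧
      f = (l.map fun t => (t.2.2 : ℂ) • indFun t.1 t.2.1).sum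

theorem isLocalComb_zero (p : ℕ) : IsLocalComb p (0 : G → ℂ) := ⟨[], by simp, by simp⟩

theorem isLocalComb_add {p : ℕ} {f f' : G → ℂ} (hf : IsLocalComb p f) (hf' : IsLocalComb p f') :
    IsLocalComb p (f + f') := by
  obtain ⟨l, hl, rfl⟩ := hf
  obtain ⟨l', hl', rfl⟩ := hf'
  refine ⟨l ++ l', fun t ht => ?_, by rw [List.map_append, List.sum_append]⟩
  rcases List.mem_append.1 ht with h | h
  · exact hl t h
  · exact hl' t h

theorem isLocalComb_zsmul {p : ℕ} (z : ℤ) {f : G → ℂ} (hf : IsLocalComb p f) :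
    IsLocalComb p (z • f) := by
  obtain ⟨l, hl, rfl⟩ := hf
  refine ⟨l.map fun t => ⟨t.1, (t.2.1, z * t.2.2)⟩, fun t ht => ?_, ?_⟩
  · obtain ⟨s, hs, rfl⟩ := List.mem_map.1 ht
    exact hl s hs
  · rw [List.smul_sum, List.map_map, List.map_map]
    congr 2
    funext t
    simp only [Function.comp_apply, Int.cast_mul, mul_smul, Int.cast_smul_eq_zsmul]

theorem isLocalComb_gen {p : ℕ} {E : Subgroup G} {φ : E → ℂ} (hE : IsElementary p E)
    (hφ : IsCharacter E φ) : IsLocalComb p (indFun E φ) :=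
  ⟨[⟨E, (φ, 1)⟩], by simp [hE, hφ], by simp⟩

/-- Inducing from a `p`-quasi-elementary subgroup. -/
theorem isLocalComb_indFun_one {p : ℕ} (hp : p.Prime) {H : Subgroup G} (hH : IsQuasiElem p H) :
    IsLocalComb p (indFun H (fun _ => (1 : ℂ))) := by
  classical
  haveI : Fintype H := Fintype.ofFinite _
  have key : ∀ f : H → ℂ, f ∈ elemSpan H → IsLocalComb p (indFun H f) := by
    intro f hf
    refine AddSubgroup.closure_induction (p := fun f _ => IsLocalComb p (indFun H f)) ?_ ?_ ?_ ?_ hf
    · rintro _ ⟨E, q, φ, hq, hE, hφ, rfl⟩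
      rw [indFun_indFun]
      haveI := isNilpotent_of_isElementary hq hE
      have hE' : IsElementary p E :=
        isElementary_of_nilpotent hp (isQuasiElem_of_injective hp E.subtype E.subtype_injective hH)
      exact isLocalComb_gen (isElementary_map hp H.subtype H.subtype_injective hE')
        (isCharacter_comp hφ (E.equivMapOfInjective H.subtype H.subtype_injective).symm.toMonoidHom)
    · rw [indFun_zero]; exact isLocalComb_zero p
    · intro a b _ _ ha hb
      rw [indFun_add]; exact isLocalComb_add ha hb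
    · intro a _ ha
      rw [indFun_neg, ← neg_one_zsmul (indFun H a)]
      exact isLocalComb_zsmul (-1) ha
  exact key _ (one_mem_elemSpan_of_isQuasiElem (Nat.card H) H le_rfl p hp hH)

theorem exists_const_isLocalComb {p : ℕ} (hp : p.Prime) :
    ∃ m : ℤ, ¬ (p : ℤ) ∣ m ∧ IsLocalComb p (fun _ : G => (m : ℂ)) := by
  obtain ⟨m, hm, hmem⟩ := exists_const_mem_primeSpan (G := G) hp
  refine ⟨m, hm, ?_⟩
  refine Submodule.span_induction ?_ (isLocalComb_zero p) (fun f f' _ _ => isLocalComb_add)
    (fun z f _ => isLocalComb_zsmul z) hmem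
  rintro _ ⟨H, rfl⟩
  exact isLocalComb_indFun_one hp H.2

end Cfsg.Agent.CharB
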