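import Cfsg.Agent.Lib.CharInd.Solomon
import Mathlib.RingTheory.Int.Basic
import Mathlib.Algebra.Algebra.Operations

/-!
Products of permutation characters, and Solomon's lemma for a fixed prime.
(The counting argument follows `Cfsg.Agent.CharInd.fix_mem_permSpan` and
`exists_permSpan_not_dvd`, keeping track of the subgroups.)
-/

set_option autoImplicit false

open Cfsg
open Cfsg.Agent.CharInd

namespace Cfsg.Agent.CharB

universe u v

variable {G : Type u} [Group G] [Fintype G]

/-- A permutation character is the sum, over the orbits, of the characters induced from the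
principal character of a point stabiliser. -/
theorem fix_eq_sum_orbits {X : Type v} [MulAction G X] [Finite X]
    [Fintype (MulAction.orbitRel.Quotient G X)] :
    (fun g : G => (Nat.card (MulAction.fixedBy X g) : ℂ))
      = ∑ Ω : MulAction.orbitRel.Quotient G X,
          indFun (MulAction.stabilizer G (Quotient.out Ω : X)) (fun _ => 1) := by
  classical
  haveI := Fintype.ofFinite X
  let S : X → G → ℂ := fun x => indFun (MulAction.stabilizer G x) (fun _ => 1)
  let F : X → G → ℂ := fun x g => (Nat.card {y : G // g • (y • x) = y • x} : ℂ)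
  have hS : ∀ x g, S x g = (Nat.card (MulAction.stabilizer G x) : ℂ)⁻¹ * F x g := by
    intro x g
    simp only [S, F, indFun_const_one_eq_card, MulAction.mem_stabilizer_iff, mul_smul,
      inv_smul_eq_iff]
  have hinv : ∀ (a : G) x g, F (a • x) g = F x g := by
    intro a x g
    simp only [F]
    congr 1
    refine Nat.card_congr ((Equiv.mulRight a).subtypeEquiv fun y => ?_)
    simp [mul_smul]
  let rep : MulAction.orbitRel.Quotient G X → X := Quotient.out
  change _ = ∑ Ω : MulAction.orbitRel.Quotient G X, S (rep Ω)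
  funext g
  have h1 : ∀ y : G, (Nat.card (MulAction.fixedBy X g) : ℂ)
      = ∑ x : X, if g • (y • x) = y • x then (1 : ℂ) else 0 := by
    intro y
    rw [show MulAction.fixedBy X g = {x | g • x = x} from rfl, Nat.card_eq_fintype_card,
      Fintype.card_subtype, Finset.natCast_card_filter]
    exact (Fintype.sum_equiv (MulAction.toPerm y) _ _ fun x => rfl).symm
  have h2 : (Nat.card G : ℂ) * (Nat.card (MulAction.fixedBy X g) : ℂ) = ∑ x : X, F x g := by
    calc (Nat.card G : ℂ) * (Nat.card (MulAction.fixedBy X g) : ℂ)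
        = ∑ y : G, (Nat.card (MulAction.fixedBy X g) : ℂ) := by
          rw [Finset.sum_const, Finset.card_univ, nsmul_eq_mul, Nat.card_eq_fintype_card]
      _ = ∑ y : G, ∑ x : X, if g • (y • x) = y • x then (1 : ℂ) else 0 :=
          Finset.sum_congr rfl fun y _ => h1 y
      _ = _ := by
          rw [Finset.sum_comm]
          refine Finset.sum_congr rfl fun x _ => ?_
          simp only [F, Nat.card_eq_fintype_card (α := {y : G // g • (y • x) = y • x}),
            Fintype.card_subtype, Finset.natCast_card_filter]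
  rw [Finset.sum_apply]
  refine mul_left_cancel₀ ((Nat.cast_ne_zero (R := ℂ)).2 (Nat.card_pos (α := G)).ne') ?_
  rw [h2, Finset.mul_sum, ← Finset.sum_fiberwise_of_maps_to (t := Finset.univ)
    (g := fun x : X => (Quotient.mk'' x : MulAction.orbitRel.Quotient G X))
    (fun x _ => Finset.mem_univ _)]
  refine Finset.sum_congr rfl fun Ω _ => ?_
  have hout : (Quotient.mk'' (rep Ω) : MulAction.orbitRel.Quotient G X) = Ω := Quotient.out_eq' Ω
  have hF : ∀ x : X, (Quotient.mk'' x : MulAction.orbitRel.Quotient G X) = Ω →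
      F x g = F (rep Ω) g := by
    intro x hx
    obtain ⟨a, rfl⟩ := (Quotient.eq''.1 (hx.trans hout.symm) : MulAction.orbitRel G X _ _)
    exact hinv a _ g
  rw [Finset.sum_congr rfl fun x hx => hF x (Finset.mem_filter.1 hx).2, Finset.sum_const,
    nsmul_eq_mul, hS]
  have hcard : (Finset.univ.filter fun x : X =>
      (Quotient.mk'' x : MulAction.orbitRel.Quotient G X) = Ω).card
      = Nat.card (MulAction.orbit G (rep Ω)) := by
    rw [← Nat.card_eq_finsetCard]
    refine Nat.card_congr (Equiv.subtypeEquivRight fun x => ?_)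
    rw [Finset.mem_filter]
    constructor
    · rintro ⟨-, hx⟩
      exact (Quotient.eq''.1 (hx.trans hout.symm) : MulAction.orbitRel G X _ _)
    · intro hx
      exact ⟨Finset.mem_univ _, (Quotient.eq''.2 (by exact hx)).trans hout⟩
  have h3 := Nat.card_congr (MulAction.orbitProdStabilizerEquivGroup G (rep Ω))
  rw [Nat.card_prod] at h3
  rw [hcard, ← h3, Nat.cast_mul, mul_assoc, ← mul_assoc (Nat.card (MulAction.stabilizer G _) : ℂ),
    mul_inv_cancel₀ (Nat.cast_ne_zero.2 Nat.card_pos.ne'), one_mul]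

/-- Solomon's lemma with the subgroup. -/
theorem exists_quasiElem_not_dvd {p : ℕ} (hp : p.Prime) (g : G) :
    ∃ H : Subgroup G, IsQuasiElem p H ∧
      ∃ n : ℕ, indFun H (fun _ => (1 : ℂ)) g = (n : ℂ) ∧ ¬ p ∣ n := by
  classical
  haveI : Fact p.Prime := ⟨hp⟩
  obtain ⟨a, r, hpr, hm⟩ :=
    Nat.exists_eq_pow_mul_and_not_dvd (orderOf_pos g).ne' p hp.ne_one
  set u : G := g ^ (p ^ a) with hu
  set C : Subgroup G := Subgroup.zpowers u with hC
  have hcu : orderOf u = r := by
    rw [hu, orderOf_pow_of_dvd (pow_ne_zero a hp.ne_zero) (hm ▸ dvd_mul_right _ _), hm,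
      Nat.mul_div_cancel_left _ (pow_pos hp.pos a)]
  have hCcop : Nat.Coprime (Nat.card C) p := by
    rw [hC, Nat.card_zpowers, hcu]
    exact ((Nat.Prime.coprime_iff_not_dvd hp).2 hpr).symm
  set N : Subgroup G := Subgroup.normalizer (C : Set G) with hN
  have hgN : g ∈ N := by
    rw [hN, Subgroup.mem_normalizer_iff]
    have hc : ∀ x ∈ C, g * x * g⁻¹ = x := by
      intro x hx
      obtain ⟨i, rfl⟩ := Subgroup.mem_zpowers_iff.1 hx
      rw [(((Commute.refl g).pow_right (p ^ a)).zpow_right i).eq, mul_inv_cancel_right]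
    intro x
    constructor
    · intro hx; rw [hc x hx]; exact hx
    · intro hx
      have : g * x * g⁻¹ = g * (g * x * g⁻¹) * g⁻¹ := (hc _ hx).symm
      have := mul_left_cancel (mul_right_cancel this)
      rwa [← this] at hx
  set C' : Subgroup N := C.subgroupOf N with hC'
  haveI : C'.Normal := Subgroup.normal_in_normalizer
  set π : N →* N ⧸ C' := QuotientGroup.mk' C' with hπ
  set σ : N ⧸ C' := π ⟨g, hgN⟩ with hσ
  have hσp : σ ^ (p ^ a) = 1 := by
    rw [hσ, ← map_pow, hπ, QuotientGroup.mk'_apply, QuotientGroup.eq_one_iff]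
    exact Subgroup.mem_zpowers u
  have hσP : IsPGroup p (Subgroup.zpowers σ) := by
    have hd : Nat.card (Subgroup.zpowers σ) ∣ p ^ a := by
      rw [Nat.card_zpowers]; exact orderOf_dvd_of_pow_eq_one hσp
    obtain ⟨j, -, hj⟩ := (Nat.dvd_prime_pow hp).1 hd
    exact IsPGroup.of_card hj
  obtain ⟨P, hP⟩ := hσP.exists_le_sylow
  set H' : Subgroup N := (P : Subgroup (N ⧸ C')).comap π with hH'
  set H : Subgroup G := H'.map N.subtype with hH
  have hker : C' ≤ H' := by
    intro x hx
    show π x ∈ (P : Subgroup (N ⧸ C'))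
    rw [hπ, QuotientGroup.mk'_apply, (QuotientGroup.eq_one_iff x).2 hx]
    exact one_mem _
  have hCN : C ≤ N := Subgroup.le_normalizer
  have hCH : C ≤ H := fun x hx => ⟨⟨x, hCN hx⟩, hker (show (⟨x, hCN hx⟩ : N) ∈ C' from hx), rfl⟩
  have hCnormH : (C.subgroupOf H).Normal :=
    (Subgroup.normal_subgroupOf_iff_le_normalizer hCH).2 (Subgroup.map_subtype_le H')
  obtain ⟨j, hPj⟩ := P.isPGroup'.exists_card_eq
  -- every element of `H` has its `p^j`-th power in `C`
  have hpowH : ∀ x ∈ H, x ^ (p ^ j) ∈ C := by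
    rintro _ ⟨y, hy, rfl⟩
    have h1 : (⟨π y, hy⟩ : (P : Subgroup (N ⧸ C'))) ^ (p ^ j) = 1 := by
      rw [← hPj]; exact pow_card_eq_one'
    have h2 : π (y ^ (p ^ j)) = 1 := by rw [map_pow]; exact congrArg Subtype.val h1
    exact (QuotientGroup.eq_one_iff (y ^ (p ^ j))).1 h2
  have hqe : IsQuasiElem p H := by
    refine ⟨C.subgroupOf H, hCnormH, ?_, ?_, ?_⟩
    · exact isCyclic_of_injective (Subgroup.subgroupOfEquivOfLe hCH).toMonoidHom
        (Subgroup.subgroupOfEquivOfLe hCH).injective
    · rwa [Nat.card_congr (Subgroup.subgroupOfEquivOfLe hCH).toEquiv]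
    · refine ⟨j, ?_⟩
      have e1 : Nat.card H = Nat.card H' :=
        Nat.card_congr (H'.equivMapOfInjective N.subtype N.subtype_injective).toEquiv.symm
      have e2 := (C.subgroupOf H).index_mul_card
      have e3 := (C'.subgroupOf H').index_mul_card
      have e4 : (C'.subgroupOf H').index = p ^ j := by
        rw [← hPj]
        let φ : H' →* (P : Subgroup (N ⧸ C')) :=
          (π.comp H'.subtype).codRestrict _ fun x => x.2
        have hφ : Function.Surjective φ := by
          rintro ⟨y, hy⟩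
          obtain ⟨x, rfl⟩ := QuotientGroup.mk'_surjective C' y
          exact ⟨⟨x, hy⟩, rfl⟩
        have hk : φ.ker = C'.subgroupOf H' := by
          ext x
          rw [MonoidHom.mem_ker, Subgroup.mem_subgroupOf, Subtype.ext_iff]
          exact QuotientGroup.eq_one_iff _
        rw [← hk, Subgroup.index_ker, MonoidHom.range_eq_top.2 hφ,
          Nat.card_congr Subgroup.topEquiv.toEquiv]
      have e5 : Nat.card (C'.subgroupOf H') = Nat.card (C.subgroupOf H) := by
        rw [Nat.card_congr (Subgroup.subgroupOfEquivOfLe hker).toEquiv,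
          Nat.card_congr (Subgroup.subgroupOfEquivOfLe hCH).toEquiv,
          Nat.card_congr (Subgroup.subgroupOfEquivOfLe hCN).toEquiv]
      rw [← e4]
      rw [← e5, e1, ← e3] at e2
      exact Nat.eq_of_mul_eq_mul_right Nat.card_pos e2
  refine ⟨H, hqe, Nat.card (MulAction.fixedBy (G ⧸ H) g), indFun_one_eq_fixedBy H g, ?_⟩
  -- fixed points of `g` on `G ⧸ H` are those of `σ` on `(N ⧸ C') ⧸ P`
  have hconj : ∀ x : G, x⁻¹ * g * x ∈ H → x ∈ N := by
    intro x hx
    have hux : x⁻¹ * u * x ∈ H := by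
      have := H.pow_mem hx (p ^ a)
      have hc : (x⁻¹ * g * x⁻¹⁻¹) ^ (p ^ a) = x⁻¹ * u * x⁻¹⁻¹ := conj_pow
      rw [inv_inv] at hc
      rwa [hc] at this
    have hord : orderOf (x⁻¹ * u * x) = r := by
      rw [← hcu]
      simpa using (MulAut.conj x⁻¹).orderOf_eq u
    have hmem : x⁻¹ * u * x ∈ C := by
      have h1 := hpowH _ hux
      have hcop : Nat.Coprime (orderOf (x⁻¹ * u * x)) (p ^ j) := by
        rw [hord]
        exact (((Nat.Prime.coprime_iff_not_dvd hp).2 hpr).symm).pow_right j
      obtain ⟨m, hm'⟩ := exists_pow_eq_self_of_coprime hcop.symm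
      rw [← hm']
      exact C.pow_mem h1 m
    have hle : Subgroup.zpowers (x⁻¹ * u * x) = C := by
      refine Subgroup.eq_of_le_of_card_ge (Subgroup.zpowers_le.2 hmem) (le_of_eq ?_)
      rw [hC, Nat.card_zpowers, Nat.card_zpowers, hord, hcu]
    have hxN : x⁻¹ ∈ N := by
      rw [hN]
      refine Subgroup.mem_normalizer_fintype fun y hy => ?_
      obtain ⟨i, rfl⟩ := Subgroup.mem_zpowers_iff.1 hy
      rw [inv_inv, ← hle, SetLike.mem_coe, Subgroup.mem_zpowers_iff]
      refine ⟨i, ?_⟩
      have hc : (x⁻¹ * u * x⁻¹⁻¹) ^ i = x⁻¹ * u ^ i * x⁻¹⁻¹ := conj_zpow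
      rwa [inv_inv] at hc
    simpa using N.inv_mem hxN
  have hbij : Nat.card (MulAction.fixedBy (G ⧸ H) g)
      = Nat.card (MulAction.fixedBy ((N ⧸ C') ⧸ (P : Subgroup (N ⧸ C'))) σ) := by
    let φ : N ⧸ H' → G ⧸ H := Quotient.map' (fun n : N => (n : G)) fun a b hab => by
      rw [QuotientGroup.leftRel_apply] at hab ⊢
      exact ⟨_, hab, by simp⟩
    let ψ : N ⧸ H' → (N ⧸ C') ⧸ (P : Subgroup (N ⧸ C')) :=
      Quotient.map' (fun n : N => π n) fun a b hab => by
        rw [QuotientGroup.leftRel_apply] at hab ⊢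
        rw [← map_inv, ← map_mul]
        exact hab
    have hφ : ∀ q q' : N ⧸ H', φ q = φ q' → q = q' := by
      intro q q'
      induction q using QuotientGroup.induction_on with | _ a =>
      induction q' using QuotientGroup.induction_on with | _ b =>
      intro h
      have h' : ((a : G) : G ⧸ H) = ((b : G) : G ⧸ H) := h
      rw [QuotientGroup.eq] at h' ⊢
      obtain ⟨y, hy, hy'⟩ := h'
      rwa [show y = a⁻¹ * b from Subtype.ext hy'] at hy
    have hψ : Function.Bijective ψ := by
      constructor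
      · intro q q'
        induction q using QuotientGroup.induction_on with | _ a =>
        induction q' using QuotientGroup.induction_on with | _ b =>
        intro h
        have h' : ((π a : N ⧸ C') : (N ⧸ C') ⧸ (P : Subgroup (N ⧸ C')))
            = ((π b : N ⧸ C') : (N ⧸ C') ⧸ (P : Subgroup (N ⧸ C'))) := h
        rw [QuotientGroup.eq, ← map_inv, ← map_mul] at h'
        exact QuotientGroup.eq.2 h'
      · intro q
        induction q using QuotientGroup.induction_on with | _ a =>
        obtain ⟨n, rfl⟩ := QuotientGroup.mk'_surjective C' a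
        exact ⟨(n : N ⧸ H'), rfl⟩
    let n₀ : N := ⟨g, hgN⟩
    have hφs : ∀ q, φ (n₀ • q) = g • φ q := by
      intro q
      induction q using QuotientGroup.induction_on with | _ a =>
      rfl
    have hψs : ∀ q, ψ (n₀ • q) = σ • ψ q := by
      intro q
      induction q using QuotientGroup.induction_on with | _ a =>
      exact congrArg QuotientGroup.mk (map_mul π n₀ a)
    have e1 : Nat.card (MulAction.fixedBy (N ⧸ H') n₀)
        = Nat.card (MulAction.fixedBy (G ⧸ H) g) := by
      refine Nat.card_eq_of_bijective (fun q => ⟨φ q.1, ?_⟩) ⟨?_, ?_⟩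
      · show g • φ q.1 = φ q.1
        rw [← hφs]
        exact congrArg φ q.2
      · intro q q' h
        exact Subtype.ext (hφ _ _ (congrArg Subtype.val h))
      · rintro ⟨q, hq⟩
        obtain ⟨x, rfl⟩ := QuotientGroup.mk_surjective q
        have hx : x⁻¹ * g * x ∈ H := by
          rw [mul_assoc, ← QuotientGroup.eq]
          exact hq.symm
        refine ⟨⟨((⟨x, hconj x hx⟩ : N) : N ⧸ H'), ?_⟩, Subtype.ext rfl⟩
        apply hφ
        rw [hφs]
        exact hq
    rw [← e1]
    refine Nat.card_congr ((Equiv.ofBijective ψ hψ).subtypeEquiv fun q => ?_)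
    show n₀ • q = q ↔ σ • ψ q = ψ q
    rw [← hψs]
    exact hψ.1.eq_iff.symm
  rw [hbij]
  intro hdvd
  have hmod := hσP.card_modEq_card_fixedPoints ((N ⧸ C') ⧸ (P : Subgroup (N ⧸ C')))
  have hfp : MulAction.fixedPoints (Subgroup.zpowers σ) ((N ⧸ C') ⧸ (P : Subgroup (N ⧸ C')))
      = MulAction.fixedBy ((N ⧸ C') ⧸ (P : Subgroup (N ⧸ C'))) σ := by
    ext q
    constructor
    · intro h
      exact h ⟨σ, Subgroup.mem_zpowers σ⟩
    · rintro h ⟨t, ht⟩
      have hle : Subgroup.zpowers σ ≤ MulAction.stabilizer (N ⧸ C') q :=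
        Subgroup.zpowers_le.2 h
      exact hle ht
  rw [hfp] at hmod
  have hP' : ¬ p ∣ (P : Subgroup (N ⧸ C')).index := P.not_dvd_index
  apply hP'
  have := (Nat.ModEq.dvd_iff hmod dvd_rfl).2 hdvd
  exact this

/-- The product of two permutation characters induced from subgroups. -/
theorem indFun_one_mul_indFun_one (H K : Subgroup G) :
    ∃ a : Subgroup G → ℕ, (∀ U, a U ≠ 0 → U ≤ H) ∧
      indFun H (fun _ => (1 : ℂ)) * indFun K (fun _ => 1)
        = ∑ U : Subgroup G, (a U : ℂ) • indFun U (fun _ => 1) := by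
  classical
  haveI : Fintype H := Fintype.ofFinite _
  haveI := Fintype.ofFinite (MulAction.orbitRel.Quotient H (G ⧸ K))
  let W : MulAction.orbitRel.Quotient H (G ⧸ K) → Subgroup G :=
    fun ω => (MulAction.stabilizer H (Quotient.out ω : G ⧸ K)).map H.subtype
  refine ⟨fun U => (Finset.univ.filter fun ω => W ω = U).card, ?_, ?_⟩
  · intro U hU
    obtain ⟨ω, hω⟩ := Finset.card_ne_zero.1 hU
    rw [← (Finset.mem_filter.1 hω).2]
    exact Subgroup.map_subtype_le _
  have hφ : IsClassFunction G (indFun K (fun _ => (1 : ℂ))) := isClassFunction_indFun K _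
  have hres : (fun h : H => (1 : ℂ) * indFun K (fun _ => (1 : ℂ)) (h : G))
      = fun h : H => (Nat.card (MulAction.fixedBy (G ⧸ K) h) : ℂ) := by
    funext h
    rw [one_mul, indFun_one_eq_fixedBy]
    rfl
  rw [indFun_mul H _ hφ, hres, fix_eq_sum_orbits (G := H) (X := G ⧸ K), indFun_sum]
  simp only [indFun_indFun]
  rw [← Finset.sum_fiberwise_of_maps_to (t := (Finset.univ : Finset (Subgroup G))) (g := W)
    (fun ω _ => Finset.mem_univ _)]
  refine Finset.sum_congr rfl fun U _ => ?_
  rw [Nat.cast_smul_eq_nsmul ℂ, Finset.sum_congr rfl fun ω hω => ?_, Finset.sum_const]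
  rw [← (Finset.mem_filter.1 hω).2]

theorem isQuasiElem_of_le {p : ℕ} (hp : p.Prime) {U H : Subgroup G} (h : U ≤ H)
    (hH : IsQuasiElem p H) : IsQuasiElem p U :=
  isQuasiElem_of_injective hp (Subgroup.inclusion h) (Subgroup.inclusion_injective h) hH

/-- The quasi-elementary hypothesis in the form of the statements. -/
theorem exists_cyclic_of_isQuasiElem {p : ℕ} {H : Subgroup G} (hH : IsQuasiElem p H) :
    ∃ C : Subgroup G, C ≤ H ∧ H ≤ Subgroup.normalizer (C : Set G) ∧ IsCyclic C ∧
      Nat.Coprime (Nat.card C) p ∧ ∃ k : ℕ, C.relIndex H = p ^ k := by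
  obtain ⟨C, hC, hcyc, hcop, k, hk⟩ := hH
  have e := C.equivMapOfInjective H.subtype H.subtype_injective
  refine ⟨C.map H.subtype, Subgroup.map_subtype_le C, ?_, ?_, ?_, k, ?_⟩
  · rw [← Subgroup.normal_subgroupOf_iff_le_normalizer (Subgroup.map_subtype_le C),
      Subgroup.subgroupOf, Subgroup.comap_map_eq_self_of_injective H.subtype_injective]
    exact hC
  · exact isCyclic_of_surjective e e.surjective
  · rwa [← Nat.card_congr e.toEquiv]
  · rw [Subgroup.relIndex, Subgroup.subgroupOf,
      Subgroup.comap_map_eq_self_of_injective H.subtype_injective]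
    exact hk

/-- The integral span of the permutation characters of `p`-quasi-elementary subgroups. -/
noncomputable def primeSpan (G : Type u) [Group G] [Fintype G] (p : ℕ) : Submodule ℤ (G → ℂ) :=
  Submodule.span ℤ (Set.range fun H : {H : Subgroup G // IsQuasiElem p H} =>
    indFun (H : Subgroup G) (fun _ => (1 : ℂ)))

theorem mul_mem_primeSpan {p : ℕ} (hp : p.Prime) {f f' : G → ℂ} (hf : f ∈ primeSpan G p)
    (hf' : f' ∈ primeSpan G p) : f * f' ∈ primeSpan G p := by
  classical
  have := Submodule.mul_mem_mul hf hf'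
  rw [primeSpan, Submodule.span_mul_span] at this
  refine Submodule.span_le.2 ?_ this
  rintro _ ⟨_, ⟨H, rfl⟩, _, ⟨K, rfl⟩, rfl⟩
  obtain ⟨a, ha, he⟩ := indFun_one_mul_indFun_one (H : Subgroup G) (K : Subgroup G)
  rw [SetLike.mem_coe]
  change indFun (H : Subgroup G) (fun _ => (1 : ℂ)) * indFun (K : Subgroup G) (fun _ => (1 : ℂ)) ∈ _
  rw [he]
  refine Submodule.sum_mem _ fun U _ => ?_
  by_cases h0 : a U = 0
  · simp [h0]
  rw [Nat.cast_smul_eq_nsmul ℂ]
  have hU : indFun U (fun _ => (1 : ℂ)) ∈ primeSpan G p :=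
    Submodule.subset_span ⟨⟨U, isQuasiElem_of_le hp (ha U h0) H.2⟩, rfl⟩
  exact nsmul_mem hU _

/-- An integer prime to `p` is an integral combination of these permutation characters. -/
theorem exists_const_mem_primeSpan {p : ℕ} (hp : p.Prime) :
    ∃ m : ℤ, ¬ (p : ℤ) ∣ m ∧ (fun _ : G => (m : ℂ)) ∈ primeSpan G p := by
  classical
  have hp' : Prime (p : ℤ) := Int.prime_iff_natAbs_prime.2 (by simpa using hp)
  have hs : ∀ s : Finset G, ∃ m : ℤ, ¬ (p : ℤ) ∣ m ∧
      ∃ r ∈ primeSpan G p, ∀ g ∈ s, r g = (m : ℂ) := by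
    intro s
    induction s using Finset.induction_on with
    | empty =>
      exact ⟨1, fun h => hp'.not_isUnit (isUnit_of_dvd_one h), 0, Submodule.zero_mem _, by simp⟩
    | insert a s _ ih =>
      obtain ⟨m, hm, r, hr, hrs⟩ := ih
      obtain ⟨H, hH, n, hn, hnp⟩ := exists_quasiElem_not_dvd hp a
      have hf : indFun H (fun _ => (1 : ℂ)) ∈ primeSpan G p :=
        Submodule.subset_span ⟨⟨H, hH⟩, rfl⟩
      refine ⟨(n : ℤ) * m, fun h => (hp'.dvd_or_dvd h).elim
        (fun h' => hnp (Int.natCast_dvd_natCast.1 h')) hm,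
        (n : ℤ) • r + m • indFun H (fun _ => (1 : ℂ)) - r * indFun H (fun _ => (1 : ℂ)),
        Submodule.sub_mem _ (Submodule.add_mem _ (Submodule.smul_mem _ _ hr)
          (Submodule.smul_mem _ _ hf)) (mul_mem_primeSpan hp hr hf), ?_⟩
      intro g hg
      simp only [Pi.sub_apply, Pi.add_apply, Pi.smul_apply, Pi.mul_apply, zsmul_eq_mul,
        Int.cast_mul, Int.cast_natCast, Pi.intCast_apply, Pi.natCast_apply]
      rcases Finset.mem_insert.1 hg with rfl | hg
      · rw [hn]; ring
      · rw [hrs g hg]; ring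
  obtain ⟨m, hm, r, hr, hrm⟩ := hs Finset.univ
  exact ⟨m, hm, by rwa [show (fun _ : G => (m : ℂ)) = r from
    funext fun g => (hrm g (Finset.mem_univ g)).symm]⟩

end Cfsg.Agent.CharB
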