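import Cfsg.Agent.Lib.CharInd.Brauer
import Cfsg.Agent.Lib.CharInd.Elementary
import Cfsg.Agent.Lib.CharCore.Complete
import Cfsg.Agent.CharDeep.Ext.Avg

/-!
The indicator of a section, scaled by the order of the relevant part of the group, is a combination
of irreducible characters with algebraic integer coefficients.
-/

set_option autoImplicit false

open Cfsg
open scoped ComplexConjugate

namespace Cfsg.Agent.CharB

open Cfsg.Agent.CharDeep.Ext (avg avg_apply)

universe u

variable {G : Type u} [Group G] [Fintype G]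

open scoped Classical in
/-- `n` on the elements whose `e`-th power is conjugate to `g`, zero elsewhere. -/
noncomputable def sectionFun (n e : ℕ) (g : G) : G → ℂ :=
  fun x => if IsConj (x ^ e) g then (n : ℂ) else 0

theorem isClassFunction_sectionFun (n e : ℕ) (g : G) : IsClassFunction G (sectionFun n e g) := by
  intro x h
  have h1 : IsConj (x ^ e) ((h * x * h⁻¹) ^ e) := by
    rw [conj_pow]; exact isConj_iff.2 ⟨h, rfl⟩
  classical
  simp only [sectionFun]
  exact if_congr ⟨fun h2 => h1.trans h2, fun h2 => h1.symm.trans h2⟩ rfl rfl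

omit [Fintype G] in
/-- In an elementary group the `e`-th power map is an idempotent homomorphism, for an exponent `e`
that is `1` modulo `n` and divisible by `m`. -/
theorem exists_powHom {E : Type u} [Group E] [Finite E] {q : ℕ} (hq : q.Prime)
    (hE : IsElementary q E) {m n e : ℕ} (hcop : Nat.Coprime m n) (hcard : Nat.card E ∣ m * n)
    (he0 : m ∣ e) (he1 : e ≡ 1 [MOD n]) : ∃ φ : E →* E, ∀ a, φ a = a ^ e := by
  obtain ⟨c, hc, hcq, k, hk⟩ := hE
  have hCn : (Subgroup.zpowers c).Normal := ⟨fun z hz g => by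
    rw [Subgroup.mem_center_iff.1 (Subgroup.zpowers_le.2 hc hz) g, mul_assoc, mul_inv_cancel,
      mul_one]
    exact hz⟩
  haveI : Fact q.Prime := ⟨hq⟩
  obtain ⟨S⟩ : Nonempty (Sylow q E) := inferInstance
  have htop : (S : Subgroup E) ⊔ Subgroup.zpowers c = ⊤ := by
    apply Subgroup.index_eq_one.1
    obtain ⟨j, -, hj⟩ := (Nat.dvd_prime_pow hq).1
      (hk ▸ Subgroup.index_dvd_of_le (le_sup_right :
        Subgroup.zpowers c ≤ (S : Subgroup E) ⊔ Subgroup.zpowers c))
    rcases Nat.eq_zero_or_pos j with rfl | hj0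
    · simpa using hj
    · exact absurd ((hj ▸ dvd_pow_self q hj0.ne' :
        q ∣ ((S : Subgroup E) ⊔ Subgroup.zpowers c).index).trans
          (Subgroup.index_dvd_of_le le_sup_left)) S.not_dvd_index
  have hdec : ∀ a : E, ∃ y ∈ (S : Subgroup E), ∃ z ∈ Subgroup.center E, y * z = a := fun a => by
    obtain ⟨y, hy, z, hz, h⟩ := Subgroup.mem_sup_of_normal_right.1
      (htop.symm ▸ Subgroup.mem_top a : a ∈ (S : Subgroup E) ⊔ Subgroup.zpowers c)
    exact ⟨y, hy, z, Subgroup.zpowers_le.2 hc hz, h⟩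
  have hS : ∀ y ∈ (S : Subgroup E), ∀ y' ∈ (S : Subgroup E), (y * y') ^ e = y ^ e * y' ^ e := by
    obtain ⟨j, hj⟩ := IsPGroup.iff_card.1 S.2
    have hdvd : q ^ j ∣ m * n := hj ▸ (Subgroup.card_subgroup_dvd_card _).trans hcard
    have hpow : ∀ y ∈ (S : Subgroup E), y ^ q ^ j = 1 := fun y hy => by
      rw [← hj]
      exact congrArg Subtype.val (pow_card_eq_one' (x := (⟨y, hy⟩ : (S : Subgroup E))))
    by_cases hqn : q ∣ n
    · have hjn : q ^ j ∣ n := (Nat.Coprime.pow_left j ((hq.coprime_iff_not_dvd).2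
        fun hqm => hq.not_dvd_one (hcop ▸ Nat.dvd_gcd hqm hqn))).dvd_of_dvd_mul_left hdvd
      have hone : ∀ y ∈ (S : Subgroup E), y ^ e = y := fun y hy => by
        conv_rhs => rw [← pow_one y]
        exact pow_eq_pow_iff_modEq.2
          ((he1.of_dvd hjn).of_dvd (orderOf_dvd_of_pow_eq_one (hpow y hy)))
      intro y hy y' hy'
      rw [hone y hy, hone y' hy', hone _ (mul_mem hy hy')]
    · have hjm : q ^ j ∣ m :=
        (Nat.Coprime.pow_left j ((hq.coprime_iff_not_dvd).2 hqn)).dvd_of_dvd_mul_right hdvd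
      have hone : ∀ y ∈ (S : Subgroup E), y ^ e = 1 := fun y hy => by
        obtain ⟨t, ht⟩ := hjm.trans he0
        rw [ht, pow_mul, hpow y hy, one_pow]
      intro y hy y' hy'
      rw [hone y hy, hone y' hy', hone _ (mul_mem hy hy'), one_mul]
  refine ⟨MonoidHom.mk' (fun a => a ^ e) fun a b => ?_, fun a => rfl⟩
  obtain ⟨y, hy, z, hz, rfl⟩ := hdec a
  obtain ⟨y', hy', z', hz', rfl⟩ := hdec b
  have hcz : ∀ (w : E) (z : E), z ∈ Subgroup.center E → Commute w z :=
    fun w z hz => Subgroup.mem_center_iff.1 hz w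
  show (y * z * (y' * z')) ^ e = (y * z) ^ e * (y' * z') ^ e
  rw [show y * z * (y' * z') = y * y' * (z * z') by
      rw [mul_assoc y z, ← mul_assoc z y', (hcz y' z hz).symm.eq]; simp [mul_assoc],
    (hcz _ _ (mul_mem hz hz')).mul_pow, (hcz y z hz).mul_pow, (hcz y' z' hz').mul_pow,
    hS y hy y' hy', (hcz z z' hz').mul_pow]
  rw [mul_assoc (y ^ e) (z ^ e), ← mul_assoc (z ^ e) (y' ^ e),
    ((hcz y' z hz).pow_pow e e).symm.eq]
  simp [mul_assoc]

/-- The integrality on an elementary subgroup. -/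
theorem isIntegral_elementary (E : Subgroup G) [Fintype E] {q : ℕ} (hq : q.Prime)
    (hE : IsElementary q E) {m n e : ℕ} (hcop : Nat.Coprime m n) (hcard : Nat.card G = m * n)
    (he0 : m ∣ e) (he1 : e ≡ 1 [MOD n]) (g : G) {η : E → ℂ} (hη : IsCharacter E η) :
    IsIntegral ℤ (classInner (fun x : E => sectionFun n e g x) η) := by
  classical
  have hEcard : Nat.card E ∣ m * n := hcard ▸ Subgroup.card_subgroup_dvd_card E
  obtain ⟨φ, hφ⟩ := exists_powHom hq hE hcop hEcard he0 he1
  have hVn : ∀ v ∈ φ.range, v ^ n = 1 := by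
    rintro _ ⟨a, rfl⟩
    rw [hφ, ← pow_mul]
    obtain ⟨t, ht⟩ := hEcard.trans (mul_dvd_mul_right he0 n)
    rw [ht, pow_mul, pow_card_eq_one', one_pow]
  have hidem : ∀ v ∈ φ.range, φ v = v := fun v hv => by
    rw [hφ]
    conv_rhs => rw [← pow_one v]
    exact pow_eq_pow_iff_modEq.2 (he1.of_dvd (orderOf_dvd_of_pow_eq_one (hVn v hv)))
  have hVdvd : Nat.card φ.range ∣ n := by
    refine Nat.Coprime.dvd_of_dvd_mul_left ?_ ((Subgroup.card_subgroup_dvd_card _).trans hEcard)
    refine Nat.coprime_of_dvd fun r hr hrV hrm => ?_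
    haveI : Fact r.Prime := ⟨hr⟩
    obtain ⟨v, hv⟩ := exists_prime_orderOf_dvd_card' r hrV
    have h1 : orderOf v ∣ n :=
      orderOf_dvd_of_pow_eq_one (Subtype.ext (by simpa using hVn v v.2))
    rw [hv] at h1
    exact hr.not_dvd_one (hcop ▸ Nat.dvd_gcd hrm h1)
  let U := φ.ker
  have key : ∀ a : E, φ (a * (φ a)⁻¹) = 1 := fun a => by
    rw [map_mul, map_inv, hidem _ ⟨a, rfl⟩, mul_inv_cancel]
  let eUV : U × φ.range ≃ E :=
    { toFun := fun w => (w.1 : E) * w.2
      invFun := fun a => (⟨a * (φ a)⁻¹, MonoidHom.mem_ker.2 (key a)⟩, ⟨φ a, a, rfl⟩)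
      left_inv := fun w => by
        have h : φ ((w.1 : E) * w.2) = w.2 := by
          rw [map_mul, MonoidHom.mem_ker.1 w.1.2, one_mul, hidem _ w.2.2]
        ext <;> simp [h]
      right_inv := fun a => by simp }
  obtain ⟨t, ht⟩ := hVdvd
  have hval : classInner (fun x : E => sectionFun n e g x) η
      = ∑ v : φ.range, (t : ℂ) * ((if IsConj (((v : E) : G)) g then 1 else 0)
          * conj (avg U η v)) := by
    rw [classInner, Finset.mul_sum, ← eUV.sum_comp, Fintype.sum_prod_type, Finset.sum_comm]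
    refine Finset.sum_congr rfl fun v _ => ?_
    have hsec : ∀ a : U, sectionFun n e g ((eUV (a, v) : E) : G)
        = (n : ℂ) * if IsConj (((v : E) : G)) g then 1 else 0 := by
      intro a
      have h : (((eUV (a, v) : E) : G)) ^ e = ((v : E) : G) := by
        rw [← SubmonoidClass.coe_pow, ← hφ]
        exact congrArg Subtype.val (show φ ((a : E) * v) = v by
          rw [map_mul, MonoidHom.mem_ker.1 a.2, one_mul, hidem _ v.2])
      simp only [sectionFun, h]
      split_ifs <;> simp
    simp only [hsec, avg_apply, map_mul, map_inv₀, map_natCast, map_sum]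
    have hcardE : (Nat.card E : ℂ) = (Nat.card U : ℂ) * (Nat.card φ.range : ℂ) := by
      rw [← Nat.cast_mul, ← Nat.card_prod, Nat.card_congr eUV]
    have hn : (n : ℂ) = (Nat.card φ.range : ℂ) * t := by rw [← Nat.cast_mul, ← ht]
    have hU : (Nat.card U : ℂ) ≠ 0 := Nat.cast_ne_zero.2 Nat.card_pos.ne'
    have hV : (Nat.card φ.range : ℂ) ≠ 0 := Nat.cast_ne_zero.2 Nat.card_pos.ne'
    rw [← Finset.mul_sum, ← Finset.mul_sum, hcardE, hn]
    show _ * (_ * ∑ a : U, conj (η ((a : E) * v))) = _
    field_simp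
  rw [hval]
  refine IsIntegral.sum _ fun v _ => (show IsIntegral ℤ (t : ℂ) by
    simpa using (isIntegral_algebraMap (R := ℤ) (A := ℂ) (x := (t : ℤ)))).mul
    (IsIntegral.mul ?_ ?_)
  · split_ifs
    · exact isIntegral_one
    · exact isIntegral_zero
  · exact (CharCore.IsCharacter.isIntegral (CharDeep.Ext.isCharacter_avg U hη) (v : E)).map
      (Complex.conjAe.toAlgHom.restrictScalars ℤ)

/-- The section function is a combination of irreducibles with algebraic integer coefficients. -/
theorem isIntegral_classInner_sectionFun {m n e : ℕ} (hcop : Nat.Coprime m n)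
    (hcard : Nat.card G = m * n) (he0 : m ∣ e) (he1 : e ≡ 1 [MOD n]) (g : G)
    (χ : IrrCharacter G) :
    IsIntegral ℤ (classInner (sectionFun n e g) (χ : G → ℂ)) := by
  classical
  have hϑ := isClassFunction_sectionFun n e g
  suffices h : ∀ f ∈ CharInd.elemSpan G,
      IsIntegral ℤ (classInner (f * sectionFun n e g) (χ : G → ℂ)) by
    simpa using h 1 CharInd.one_mem_elemSpan
  intro f hf
  refine AddSubgroup.closure_induction
    (p := fun f _ => IsIntegral ℤ (classInner (f * sectionFun n e g) (χ : G → ℂ))) ?_ ?_ ?_ ?_ hf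
  · rintro _ ⟨E, q, ψ, hq, hE, hψ, rfl⟩
    haveI : Fintype E := Fintype.ofFinite _
    rw [CharInd.indFun_mul E ψ hϑ, CharInd.classInner_indFun_left E _
      (CharCore.irr_isClassFunction χ)]
    have h := isIntegral_elementary E hq hE hcop hcard he0 he1 g
      (CharCore.isCharacter_mul (CharCore.IsCharacter.star hψ)
        (CharCore.isCharacter_restrict (CharCore.irr_isCharacter χ) E))
    convert h using 1
    simp only [CharCore.classInner_def, Pi.mul_apply, map_mul, Pi.star_apply, RCLike.star_def,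
      Complex.conj_conj]
    congr 1
    exact Finset.sum_congr rfl fun x _ => by ring
  · simp [CharCore.classInner_def, isIntegral_zero]
  · intro a b _ _ ha hb
    rw [add_mul, CharCore.classInner_add_left]
    exact ha.add hb
  · intro a _ ha
    rw [neg_mul, CharCore.classInner_neg_left]
    exact ha.neg

omit [Fintype G] in
/-- The `v`-part of `x` is `x ^ e`. -/
theorem pow_eq_of_factorization [Finite G] {m n e : ℕ} (hcard : Nat.card G = m * n) (he0 : m ∣ e)
    (he1 : e ≡ 1 [MOD n]) {x u v : G} (hx : x = u * v) (huv : Commute u v)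
    (hu : Nat.Coprime (orderOf u) n) (hv : Nat.Coprime (orderOf v) m) : x ^ e = v := by
  have hum : orderOf u ∣ m := hu.dvd_of_dvd_mul_right (hcard ▸ orderOf_dvd_natCard u)
  have hvn : orderOf v ∣ n := hv.dvd_of_dvd_mul_left (hcard ▸ orderOf_dvd_natCard v)
  rw [hx, huv.mul_pow, orderOf_dvd_iff_pow_eq_one.1 (hum.trans he0), one_mul]
  conv_rhs => rw [← pow_one v]
  exact pow_eq_pow_iff_modEq.2 (he1.of_dvd hvn)

end Cfsg.Agent.CharB
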