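import Cfsg.Agent.Lib.CharCore.CyclicDegree
import Cfsg.Agent.Lib.CharClifford.Separation
import Cfsg.Agent.CharB.FeitThompsonTI
import Cfsg.Agent.Lib.Transfer.Abelian

/-!
Groups with a faithful representation of degree less than `p - 1`: normal Sylow `p`-subgroups.
-/

set_option autoImplicit false

open Module Cfsg

namespace Cfsg.Agent.CharB

universe u v

open Cfsg.Agent.CharCore (rep_induction)

/-- Glue for two complementary summands. -/
theorem commute_of_summands {G : Type u} [Group G] {V : Type v} [AddCommGroup V] [Module ℂ V]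
    (ρ : Representation ℂ G V) (S T : Subrepresentation ρ)
    (hST : IsCompl S.toSubmodule T.toSubmodule) {a b : G}
    (hS : S.toRepresentation a * S.toRepresentation b = S.toRepresentation b * S.toRepresentation a)
    (hT : T.toRepresentation a * T.toRepresentation b = T.toRepresentation b * T.toRepresentation a) :
    ρ a * ρ b = ρ b * ρ a := by
  refine LinearMap.ext fun v => ?_
  obtain ⟨x, hx, y, hy, rfl⟩ := Submodule.mem_sup.mp
    (hST.sup_eq_top ▸ Submodule.mem_top : v ∈ S.toSubmodule ⊔ T.toSubmodule)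
  have hx' := congr((($hS) ⟨x, hx⟩ : V))
  have hy' := congr((($hT) ⟨y, hy⟩ : V))
  change ρ a (ρ b x) = ρ b (ρ a x) at hx'
  change ρ a (ρ b y) = ρ b (ρ a y) at hy'
  simp [map_add, Module.End.mul_apply, hx', hy']

theorem map_commute_of_linear {G : Type u} [Group G] [Finite G] {V : Type v} [AddCommGroup V]
    [Module ℂ V] [FiniteDimensional ℂ V] (ρ : Representation ℂ G V) {n : ℕ}
    (hn : finrank ℂ V ≤ n)
    (h : ∀ (χ : G → ℂ) (d : ℕ), IsIrrCharacter G χ → χ 1 = (d : ℂ) → d ≤ n → d = 1) (a b : G) :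
    ρ a * ρ b = ρ b * ρ a := by
  refine rep_induction (motive := fun V _ _ ρ => finrank ℂ V ≤ n → ρ a * ρ b = ρ b * ρ a)
    ?_ ?_ ?_ V ρ hn
  · exact fun W _ _ _ σ hW _ => LinearMap.ext fun v => Subsingleton.elim _ _
  · intro W _ _ _ σ hσ hd
    exact CharClifford.commute_of_finrank_eq_one σ (h σ.character _
      (CharCore.isIrrCharacter_character σ) (Representation.char_one σ) hd) a b
  · intro W _ _ _ σ S T hST _ _ hS hT hd
    exact commute_of_summands σ S T hST (hS ((Submodule.finrank_le _).trans hd))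
      (hT ((Submodule.finrank_le _).trans hd))

variable {p : ℕ} [hp : Fact p.Prime]

/-- The irreducible step: the image of the `p`-th power is scalar. -/
theorem commute_of_pow_scalar {H : Type u} [Group H] [Finite H] (M : Subgroup H) [M.Normal]
    (hM : ¬ p ∣ Nat.card M) {W : Type v} [AddCommGroup W] [Module ℂ W] [FiniteDimensional ℂ W]
    (σ : Representation ℂ H W) (hd : finrank ℂ W + 1 < p) (x : H) {c : ℂ} (hc : c ≠ 0)
    {N : ℕ} (hN : 0 < N) (hcN : c ^ N = 1) (hxp : σ (x ^ p) = c • 1) {m : H} (hm : m ∈ M) :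
    σ x * σ m = σ m * σ x := by
  classical
  obtain ⟨l, hl⟩ := IsAlgClosed.exists_pow_nat_eq c⁻¹ hp.out.pos
  have hl0 : l ≠ 0 := by
    rintro rfl
    rw [zero_pow hp.out.ne_zero] at hl
    exact inv_ne_zero hc hl.symm
  have hlN : l ^ (p * N) = 1 := by rw [pow_mul, hl, inv_pow, hcN, inv_one]
  set u : (Module.End ℂ W)ˣ :=
    Units.map (algebraMap ℂ (Module.End ℂ W)).toMonoidHom (Units.mk0 l hl0) with hu
  have huval : (u : Module.End ℂ W) = l • 1 := by
    rw [← Algebra.algebraMap_eq_smul_one]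
    rfl
  have hfin : IsOfFinOrder u := by
    refine isOfFinOrder_iff_pow_eq_one.2 ⟨p * N, Nat.mul_pos hp.out.pos hN, ?_⟩
    rw [hu, ← map_pow, show (Units.mk0 l hl0) ^ (p * N) = 1 from Units.ext (by simpa using hlN),
      map_one]
  have : Finite (Subgroup.zpowers u) := Set.finite_coe_iff.2 hfin.finite_zpowers
  let Φ : H × Subgroup.zpowers u →* (Module.End ℂ W)ˣ :=
    MonoidHom.noncommCoprod σ.asGroupHom (Subgroup.zpowers u).subtype fun h z => by
      obtain ⟨⟨z', k, rfl⟩, rfl⟩ : ∃ w : Subgroup.zpowers u, w = z := ⟨z, rfl⟩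
      refine (Commute.zpow_right ?_ k)
      refine Units.ext ?_
      show σ h * (u : Module.End ℂ W) = (u : Module.End ℂ W) * σ h
      rw [huval, smul_mul_assoc, mul_smul_comm, one_mul, mul_one]
  have hΦ : ∀ h : H, ((Φ (h, 1) : (Module.End ℂ W)ˣ) : Module.End ℂ W) = σ h := fun h => by
    simp [Φ, MonoidHom.noncommCoprod]
    rfl
  set w : H × Subgroup.zpowers u := (x, ⟨u, Subgroup.mem_zpowers u⟩)
  have hΦw : ((Φ w : (Module.End ℂ W)ˣ) : Module.End ℂ W) = l • σ x := by
    show σ x * (u : Module.End ℂ W) = _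
    rw [huval, mul_smul_comm, mul_one]
  have hwp : Φ w ^ p = 1 := by
    refine Units.ext ?_
    rw [Units.val_pow_eq_pow_val, hΦw, smul_pow, hl, ← map_pow, hxp, smul_smul,
      inv_mul_cancel₀ hc, one_smul]
    rfl
  set Γ := Φ.range
  have : Finite Γ := Finite.of_surjective _ Φ.rangeRestrict_surjective
  set y : Γ := Φ.rangeRestrict w with hy
  have hyp : y ^ p = 1 := Subtype.ext hwp
  have hcomm_iff : Φ w * Φ (m, 1) = Φ (m, 1) * Φ w → σ x * σ m = σ m * σ x := by
    intro h
    have h' := congrArg Units.val h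
    rw [Units.val_mul, Units.val_mul, hΦw, hΦ, smul_mul_assoc, mul_smul_comm] at h'
    exact smul_right_injective _ hl0 h'
  by_cases hy1 : y = 1
  · exact hcomm_iff (by rw [show Φ w = 1 from congrArg Subtype.val hy1, one_mul, mul_one])
  have hoy : orderOf y = p := orderOf_eq_prime hyp hy1
  set M' : Subgroup Γ := (M.prod ⊥).map Φ.rangeRestrict with hM'
  have hM'n : M'.Normal := Subgroup.Normal.map inferInstance _ Φ.rangeRestrict_surjective
  have hcardM' : Nat.card M' ∣ Nat.card M := by
    refine (Subgroup.card_map_dvd _ _).trans (dvd_of_eq ?_)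
    rw [Nat.card_congr (Subgroup.prodEquiv M (⊥ : Subgroup (Subgroup.zpowers u))).toEquiv,
      Nat.card_prod, Subgroup.card_bot, mul_one]
  by_contra hne
  have hnt : ¬ M' ≤ Subgroup.centralizer (Subgroup.zpowers y : Set Γ) := fun h => by
    have h1 : Φ.rangeRestrict (m, 1) ∈ M' := ⟨(m, 1), ⟨hm, rfl⟩, rfl⟩
    exact hne (hcomm_iff (congrArg Subtype.val
      (Subgroup.mem_centralizer_iff.1 (h h1) y (Subgroup.mem_zpowers y))))
  have hcard : Nat.card (Subgroup.zpowers y) = p := by rw [Nat.card_zpowers, hoy]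
  have := CharCore.card_le_degree_succ M' (Subgroup.zpowers y)
    (by rw [Subgroup.normalizer_eq_top]; exact le_top)
    (by rw [hcard]; exact (((hp.out.coprime_iff_not_dvd).2
      fun h => hM (h.trans hcardM')).symm))
    inferInstance
    (fun z hz hz1 => by
      rw [← Subgroup.centralizer_closure {z}, ← Subgroup.zpowers_eq_closure]
      congr 3
      refine Subgroup.eq_of_le_of_card_ge (Subgroup.zpowers_le.2 hz) ?_
      rw [hcard, Nat.card_zpowers]
      exact Nat.le_of_dvd (orderOf_pos z) (by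
        rcases hp.out.eq_one_or_self_of_dvd _ (hcard ▸ Subgroup.orderOf_dvd_natCard _ hz) with h | h
        · exact absurd (orderOf_eq_one_iff.1 h) hz1
        · exact h.symm.dvd))
    hnt (CharCore.isCharacter_character
      ((Units.coeHom (Module.End ℂ W)).comp Γ.subtype : Representation ℂ Γ W))
    (fun g hg => Subtype.ext (Units.ext ((CharCore.character_eq_finrank_iff
      ((Units.coeHom (Module.End ℂ W)).comp Γ.subtype : Representation ℂ Γ W) g).1
        (hg.trans (Representation.char_one _)))))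
    (Representation.char_one _)
  rw [hcard] at this
  omega

/-- A `p`-element acts trivially on a normal `p'`-subgroup in degree less than `p - 1`. -/
theorem commute_of_pprime {G : Type u} [Group G] [Finite G] (M : Subgroup G) [M.Normal]
    (hM : ¬ p ∣ Nat.card M) {W : Type v} [AddCommGroup W] [Module ℂ W] [FiniteDimensional ℂ W]
    (ρ : Representation ℂ G W) (hd : finrank ℂ W + 1 < p) :
    ∀ (k : ℕ) (x : G), x ^ p ^ k = 1 → ∀ m ∈ M, ρ x * ρ m = ρ m * ρ x := by
  intro k
  induction k with
  | zero =>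
    intro x hx m _
    rw [pow_zero, pow_one] at hx
    simp [hx]
  | succ k ih =>
    intro x hx m hm
    have hy : ∀ m ∈ M, ρ (x ^ p) * ρ m = ρ m * ρ (x ^ p) :=
      ih (x ^ p) (by rw [← pow_mul, ← pow_succ']; exact hx)
    set H : Subgroup G := M ⊔ Subgroup.zpowers x with hH
    have hMH : M ≤ H := le_sup_left
    have hxH : x ∈ H := le_sup_right (a := M) (Subgroup.mem_zpowers x)
    have hMn : (M.subgroupOf H).Normal := inferInstance
    have hM' : ¬ p ∣ Nat.card (M.subgroupOf H) := by
      rwa [Nat.card_congr (Subgroup.subgroupOfEquivOfLe hMH).toEquiv]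
    have key : ∀ h : H, ρ (x ^ p) * ρ (h : G) = ρ (h : G) * ρ (x ^ p) := by
      let C : Subgroup G := (Subgroup.centralizer {ρ.asGroupHom (x ^ p)}).comap ρ.asGroupHom
      have hC : H ≤ C := sup_le (fun g hg => Subgroup.mem_comap.2
        (Subgroup.mem_centralizer_singleton_iff.2 (Units.ext (hy g hg).symm)))
        (Subgroup.zpowers_le.2 (Subgroup.mem_comap.2 (Subgroup.mem_centralizer_singleton_iff.2
          (by rw [map_pow]; exact (Commute.self_pow _ p).eq))))
      exact fun h => (congrArg Units.val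
        (Subgroup.mem_centralizer_singleton_iff.1 (Subgroup.mem_comap.1 (hC h.2)))).symm
    set z : H := ⟨x ^ p, H.pow_mem hxH p⟩
    refine rep_induction (motive := fun W _ _ σ => finrank ℂ W + 1 < p →
      (∀ h : H, σ z * σ h = σ h * σ z) →
        σ ⟨x, hxH⟩ * σ ⟨m, hMH hm⟩ = σ ⟨m, hMH hm⟩ * σ ⟨x, hxH⟩)
      ?_ ?_ ?_ W (ρ.comp H.subtype) hd key
    · exact fun W' _ _ _ σ hW _ _ => LinearMap.ext fun v => Subsingleton.elim _ _
    · intro W' _ _ _ σ hσ hd' hz
      obtain ⟨c, hc⟩ := CharClifford.exists_scalar_of_commute σ (σ z) fun h => hz h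
      have : Nontrivial W' :=
        Module.nontrivial_of_finrank_pos (CharCore.finrank_pos_of_irreducible σ)
      have hcN : c ^ orderOf z = 1 := by
        refine smul_left_injective ℂ (one_ne_zero (α := Module.End ℂ W')) ?_
        show c ^ orderOf z • (1 : Module.End ℂ W') = (1 : ℂ) • 1
        rw [one_smul, ← one_pow (orderOf z) (M := Module.End ℂ W'), ← smul_pow, ← hc, ← map_pow,
          pow_orderOf_eq_one, map_one, one_pow]
      exact commute_of_pow_scalar (M.subgroupOf H) hM' σ hd' ⟨x, hxH⟩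
        (fun h => by rw [h, zero_pow (orderOf_pos z).ne'] at hcN; exact zero_ne_one hcN)
        (orderOf_pos z) hcN hc hm
    · intro W' _ _ _ σ S T hST _ _ hS hT hd' hz
      have hsub : ∀ U : Subrepresentation σ, finrank ℂ U.toSubmodule + 1 < p := fun U =>
        lt_of_le_of_lt (Nat.succ_le_succ (Submodule.finrank_le _)) hd'
      have hres : ∀ (U : Subrepresentation σ) (h : H),
          U.toRepresentation z * U.toRepresentation h
            = U.toRepresentation h * U.toRepresentation z := fun U h =>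
        LinearMap.ext fun v => Subtype.ext (congr($(hz h) (v : W')))
      exact commute_of_summands σ S T hST (hS (hsub S) (hres S)) (hT (hsub T) (hres T))

/-- The hypothesis of Feit and Thompson. -/
def DegreeHyp (G : Type u) [Group G] (p n : ℕ) : Prop :=
  (n + 1) ^ 2 ≤ p ∨
    (n + 1 < p ∧ ∀ K : Subgroup G, ¬ p ^ 2 ∣ Nat.card K → ∀ Q : Sylow p K, (Q : Subgroup K).Normal)

theorem normal_sylow_of_equiv {A B : Type u} [Group A] [Group B] [Finite A] [Finite B]
    (e : A ≃* B) (h : ∀ Q : Sylow p A, (Q : Subgroup A).Normal) (Q : Sylow p B) :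
    (Q : Subgroup B).Normal := by
  have h1 : ((Q : Subgroup B).comap e.toMonoidHom).Normal :=
    h (Q.comapOfInjective e.toMonoidHom e.injective fun b _ => e.surjective b)
  have h2 := h1.map e.toMonoidHom e.surjective
  rwa [Subgroup.map_comap_eq_self_of_surjective e.surjective] at h2

theorem DegreeHyp.subgroup {G : Type u} [Group G] [Finite G] {n : ℕ} (h : DegreeHyp G p n)
    (H : Subgroup G) : DegreeHyp H p n := by
  rcases h with h | ⟨h1, h2⟩
  · exact Or.inl h
  · refine Or.inr ⟨h1, fun K hK => ?_⟩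
    have e : K ≃* K.map H.subtype := K.equivMapOfInjective _ H.subtype_injective
    refine normal_sylow_of_equiv e.symm (h2 _ ?_)
    rwa [← Nat.card_congr e.toEquiv]

theorem DegreeHyp.lt {G : Type u} [Group G] {n : ℕ} (h : DegreeHyp G p n) : n + 1 < p := by
  rcases h with h | ⟨h, -⟩
  · have h1 := hp.out.two_le
    rcases Nat.eq_zero_or_pos n with rfl | hn <;> nlinarith
  · exact h

theorem sylow_normal_aux : ∀ (t : ℕ) (G : Type u) [Group G] [Finite G], Nat.card G = t →
    ∀ (n : ℕ) (ρ : Representation ℂ G (Fin n → ℂ)), Function.Injective ρ → DegreeHyp G p n →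
      ∀ P : Sylow p G, (P : Subgroup G).Normal := by
  intro t
  induction t using Nat.strong_induction_on with
  | _ t ih =>
    intro G _ _ ht n ρ hρ hyp P
    classical
    have := Fintype.ofFinite G
    have hn := hyp.lt
    have hfr : finrank ℂ (Fin n → ℂ) = n := Module.finrank_fin_fun ℂ
    -- `p`-subgroups are abelian
    have habel : ∀ R : Subgroup G, IsPGroup p R → ∀ a ∈ R, ∀ b ∈ R, a * b = b * a := by
      intro R hR a ha b hb
      obtain ⟨e, he⟩ := IsPGroup.iff_card.1 hR
      refine hρ ?_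
      rw [map_mul, map_mul]
      refine CharClifford.map_commute_of_finrank_lt (ρ.comp R.subtype : Representation ℂ R _)
        (fun q hq hdvd => ?_) ⟨a, ha⟩ ⟨b, hb⟩
      rw [he] at hdvd
      rw [hfr, (Nat.prime_dvd_prime_iff_eq hq hp.out).1 (hq.dvd_of_dvd_pow hdvd)]
      omega
    -- proper subgroups have a greatest `p`-subgroup
    have hgreat : ∀ H : Subgroup G, H ≠ ⊤ → ∃ Q : Subgroup G, Q ≤ H ∧ IsPGroup p Q ∧
        ∀ R : Subgroup G, R ≤ H → IsPGroup p R → R ≤ Q := by
      intro H hH
      have hlt : Nat.card H < t :=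
        ht ▸ lt_of_le_of_ne (Subgroup.card_le_card_group H)
          fun h => hH (Subgroup.eq_top_of_card_eq H h)
      have hnorm := ih _ hlt H rfl n (ρ.comp H.subtype)
        (hρ.comp H.subtype_injective) (hyp.subgroup H)
      obtain ⟨Q⟩ := (inferInstance : Nonempty (Sylow p H))
      refine ⟨(Q : Subgroup H).map H.subtype, Subgroup.map_subtype_le _, Q.isPGroup'.map _,
        fun R hRH hR => ?_⟩
      obtain ⟨Q', hQ'⟩ := (hR.comap_of_injective H.subtype H.subtype_injective).exists_le_sylow
      have hun := Sylow.unique_of_normal Q (hnorm Q)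
      rw [Subsingleton.elim Q' Q] at hQ'
      intro r hr
      exact ⟨⟨r, hRH hr⟩, hQ' hr, rfl⟩
    -- we may assume that no proper normal subgroup contains `P`
    by_cases hM : ∃ M : Subgroup G, M.Normal ∧ (P : Subgroup G) ≤ M ∧ M ≠ ⊤
    · obtain ⟨M, hMn, hPM, hM⟩ := hM
      obtain ⟨Q, hQM, hQp, hQ⟩ := hgreat M hM
      obtain rfl : Q = P := P.is_maximal' hQp (hQ _ hPM P.isPGroup')
      refine ⟨fun a ha g => ?_⟩
      refine hQ ((P : Subgroup G).map (MulAut.conj g).toMonoidHom) ?_ (P.isPGroup'.map _)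
        ⟨a, ha, rfl⟩
      rintro _ ⟨b, hb, rfl⟩
      exact hMn.conj_mem b (hQM hb) g
    push Not at hM
    have htransfer : (P : Subgroup G) ⊓ commutator G ⊓ Subgroup.center G = ⊥ :=
      Transfer.inf_commutator_inf_center_eq_bot
        ⟨⟨fun a b => Subtype.ext (habel _ P.isPGroup' a a.2 b b.2)⟩⟩ P.card_coprime_index
    by_cases hperf : commutator G = ⊤
    swap
    · obtain ⟨Q, hQG, hQp, hQ⟩ := hgreat _ hperf
      have hQn : Q.Normal := ⟨fun a ha g => hQ (Q.map (MulAut.conj g).toMonoidHom)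
        (by
          rintro _ ⟨b, hb, rfl⟩
          exact (inferInstance : (commutator G).Normal).conj_mem b (hQG hb) g)
        (hQp.map _) ⟨a, ha, rfl⟩⟩
      by_cases hQ1 : Q = ⊥
      · have hp' : ¬ p ∣ Nat.card (commutator G) := by
          intro h
          obtain ⟨c, hc⟩ := exists_prime_orderOf_dvd_card' p h
          have h1 : Subgroup.zpowers (c : G) ≤ Q := hQ _ (Subgroup.zpowers_le.2 c.2)
            (IsPGroup.of_card (n := 1) (by
              rw [Nat.card_zpowers, Subgroup.orderOf_coe, hc, pow_one]))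
          rw [hQ1, Subgroup.zpowers_le, Subgroup.mem_bot] at h1
          have hc1 : c = 1 := Subtype.ext h1
          rw [hc1, orderOf_one] at hc
          exact hp.out.ne_one hc.symm
        refine ⟨fun a ha g => ?_⟩
        obtain ⟨e, he⟩ := P.isPGroup' ⟨a, ha⟩
        have hae : a ^ p ^ e = 1 := congrArg Subtype.val he
        obtain ⟨c, hc⟩ : ∃ c : G, c = g * a * g⁻¹ * a⁻¹ := ⟨_, rfl⟩
        have hcG : c ∈ commutator G := hc ▸ Subgroup.commutator_mem_commutator
          (Subgroup.mem_top g) (Subgroup.mem_top a)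
        have hcomm : a * c = c * a := hρ (by
          rw [map_mul, map_mul]
          exact commute_of_pprime (commutator G) hp' ρ (by rw [hfr]; exact hn) e a hae c hcG)
        have hce : c ^ p ^ e = 1 := by
          have h1 : (c * a) ^ p ^ e = 1 := by
            rw [show c * a = g * a * g⁻¹ by simp [hc], conj_pow, hae, mul_one, mul_inv_cancel]
          rwa [Commute.mul_pow hcomm.symm, hae, mul_one] at h1
        have h1 : Subgroup.zpowers c ≤ Q := hQ _ (Subgroup.zpowers_le.2 hcG) (by
          obtain ⟨i, -, hi⟩ := (Nat.dvd_prime_pow hp.out).1 (orderOf_dvd_of_pow_eq_one hce)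
          exact IsPGroup.of_card (n := i) (by rw [Nat.card_zpowers, hi]))
        rw [hQ1, Subgroup.zpowers_le, Subgroup.mem_bot] at h1
        rw [show g * a * g⁻¹ = c * a by simp [hc], h1, one_mul]
        exact ha
      · exfalso
        have hQP : Q ≤ P := by
          obtain ⟨P', hP'⟩ := hQp.exists_le_sylow
          obtain ⟨g, rfl⟩ := MulAction.exists_smul_eq G P P'
          intro a ha
          have h1 : g * a * g⁻¹ ∈ (↑(g • P) : Subgroup G) := hP' (hQn.conj_mem a ha g)
          rw [Sylow.coe_subgroup_smul, Subgroup.mem_pointwise_smul_iff_inv_smul_mem] at h1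
          simpa [MulAut.smul_def, mul_assoc] using h1
        have hC : Subgroup.centralizer (Q : Set G) = ⊤ :=
          hM _ inferInstance fun a ha => Subgroup.mem_centralizer_iff.2 fun b hb =>
            habel _ P.isPGroup' b (hQP hb) a ha
        refine hQ1 (le_bot_iff.1 (htransfer ▸ le_inf (le_inf hQP hQG) fun b hb =>
          Subgroup.mem_center_iff.2 fun g => ?_))
        exact (Subgroup.mem_centralizer_iff.1 (hC.ge (Subgroup.mem_top g)) b hb).symm
    -- the perfect case
    rw [hperf, inf_top_eq] at htransfer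
    by_cases hP1 : (P : Subgroup G) = ⊥
    · rw [hP1]; infer_instance
    have hCne : ∀ g : G, g ∉ Subgroup.center G → Subgroup.centralizer ({g} : Set G) ≠ ⊤ :=
      fun g hg h => hg (Subgroup.mem_center_iff.2 fun b =>
        Subgroup.mem_centralizer_singleton_iff.1 (h.ge (Subgroup.mem_top b)))
    have hconjZ : ∀ (a y : G), y ∈ (P : Subgroup G).map (MulAut.conj a).toMonoidHom → y ≠ 1 →
        y ∉ Subgroup.center G := by
      rintro a y ⟨b, hb, rfl⟩ hy hyZ
      refine hy ?_
      have h1 : b ∈ (P : Subgroup G) ⊓ Subgroup.center G := by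
        refine ⟨hb, ?_⟩
        have := (inferInstance : (Subgroup.center G).Normal).conj_mem _ hyZ a⁻¹
        rwa [show a⁻¹ * (MulAut.conj a).toMonoidHom b * a⁻¹⁻¹ = b by simp [mul_assoc]] at this
      rw [htransfer, Subgroup.mem_bot] at h1
      rw [h1, map_one]
    have hgrP : ∀ (a y : G), y ∈ (P : Subgroup G).map (MulAut.conj a).toMonoidHom → y ≠ 1 →
        ∀ R : Subgroup G, IsPGroup p R → y ∈ R →
          R ≤ (P : Subgroup G).map (MulAut.conj a).toMonoidHom := by
      intro a y hy hy1 R hR hyR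
      obtain ⟨Q, -, hQp, hQ⟩ := hgreat _ (hCne y (hconjZ a y hy hy1))
      have hle : ∀ S : Subgroup G, IsPGroup p S → y ∈ S → S ≤ Q := fun S hS hyS =>
        hQ S (fun s hs => Subgroup.mem_centralizer_singleton_iff.2 (habel S hS s hs y hyS)) hS
      have h1 : (P : Subgroup G) ≤ Q.map (MulAut.conj a⁻¹).toMonoidHom := fun b hb =>
        ⟨_, hle _ (P.isPGroup'.map _) hy ⟨b, hb, rfl⟩, by simp [mul_assoc]⟩
      have h2 := P.is_maximal' (hQp.map _) h1
      intro r hr
      refine ⟨a⁻¹ * r * a, h2.le ⟨r, hle R hR hyR hr, by simp⟩, by simp [mul_assoc]⟩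
    obtain ⟨χ, d, hχ, hd, hdn, hd1⟩ : ∃ (χ : G → ℂ) (d : ℕ),
        IsIrrCharacter G χ ∧ χ 1 = (d : ℂ) ∧ d ≤ n ∧ d ≠ 1 := by
      by_contra hall
      push Not at hall
      have hcomm := map_commute_of_linear ρ hfr.le fun χ d hχ hd hdn => hall χ d hχ hd hdn
      have : IsMulCommutative G := ⟨⟨fun a b => hρ (by rw [map_mul, map_mul]; exact hcomm a b)⟩⟩
      have h0 : commutator G = ⊥ := by
        rw [commutator_def, Subgroup.commutator_eq_bot_iff_le_centralizer]
        exact fun a _ => Subgroup.mem_centralizer_iff.2 fun b _ => this.1.1 b a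
      exact hP1 (le_bot_iff.1 (h0 ▸ hperf.symm ▸ le_top))
    have := Fintype.ofFinite (P : Subgroup G)
    have hlt := succ_degree_sq_gt (P : Subgroup G) (habel _ P.isPGroup') htransfer
      (fun g _ a b ha hb => by
        obtain ⟨y, ⟨hyC, hy⟩, hy1⟩ := (Subgroup.bot_or_exists_ne_one _).resolve_left ha
        obtain ⟨z, ⟨hzC, hz⟩, hz1⟩ := (Subgroup.bot_or_exists_ne_one _).resolve_left hb
        have hgZ : g ∉ Subgroup.center G := by assumption
        obtain ⟨Q, -, hQp, hQ⟩ := hgreat _ (hCne g hgZ)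
        have hyQ : y ∈ Q := hQ (Subgroup.zpowers y) (Subgroup.zpowers_le.2 hyC)
          ((P.isPGroup'.map _).to_le (Subgroup.zpowers_le.2 hy)) (Subgroup.mem_zpowers y)
        have hzQ : z ∈ Q := hQ (Subgroup.zpowers z) (Subgroup.zpowers_le.2 hzC)
          ((P.isPGroup'.map _).to_le (Subgroup.zpowers_le.2 hz)) (Subgroup.mem_zpowers z)
        have hza := hgrP a y hy hy1 Q hQp hyQ hzQ
        exact le_antisymm (hgrP b z hz hz1 _ (P.isPGroup'.map _) hza)
          (hgrP a z hza hz1 _ (P.isPGroup'.map _) hz))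
      hχ hd hd1 (fun M hMn hPM => hM M hMn hPM)
    have hlt' : Nat.card (P : Subgroup G) < (n + 1) ^ 2 :=
      lt_of_lt_of_le hlt (Nat.pow_le_pow_left (by omega) 2)
    obtain ⟨e, he⟩ := IsPGroup.iff_card.1 P.isPGroup'
    have he0 : e ≠ 0 := fun h => hP1 (Subgroup.eq_bot_of_card_eq _ (by rw [he, h, pow_zero]))
    rw [he] at hlt'
    rcases hyp with hyp | ⟨-, hyp⟩
    · have : p ≤ p ^ e := Nat.le_self_pow he0 p
      omega
    · refine normal_sylow_of_equiv Subgroup.topEquiv (hyp ⊤ ?_) P
      rw [Subgroup.card_top]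
      intro hdvd
      obtain ⟨K, hK⟩ := Sylow.exists_subgroup_card_pow_prime p hdvd
      obtain ⟨P', hP'⟩ := (IsPGroup.of_card hK).exists_le_sylow
      have h1 := Subgroup.card_dvd_of_le hP'
      rw [hK, Sylow.card_eq_multiplicity P', ← Sylow.card_eq_multiplicity P, he] at h1
      have : 2 ≤ e := (Nat.pow_dvd_pow_iff_le_right hp.out.one_lt).1 h1
      have : p ^ 2 ≤ p ^ e := Nat.pow_le_pow_right hp.out.pos this
      have : (n + 1) ^ 2 ≤ p ^ 2 := Nat.pow_le_pow_left hn.le 2
      omega

end Cfsg.Agent.CharB
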